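import Cfsg.Agent.H31.PushUp.Layer
import Cfsg.Agent.H31.JSub

/-!
# The module `Ω₁(Z(O_p(G)))` in a group where no characteristic subgroup of a Sylow subgroup is normal
-/

set_option autoImplicit false
set_option linter.unusedSectionVars false

namespace Cfsg.Agent.H31.PushUp

open Subgroup Matrix Cfsg.Agent Cfsg.Agent.Cores
open scoped Pointwise commutatorElement

variable {F : Type} [Field F] [Fintype F] {p : ℕ} [Fact p.Prime]

local notation "S2" => Matrix.SpecialLinearGroup (Fin 2) F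
local notation "M2" => Matrix (Fin 2) (Fin 2) F

variable {G : Type*} [Group G] [Finite G] {S : Sylow p G}

/-- The hypotheses of pushing up. -/
structure PU (S : Sylow p G) (F : Type) [Field F] [Fintype F] where
  R : RankOne S F
  cent : centralizer (Cfsg.pCore p G : Set G) ≤ Cfsg.pCore p G
  nochar : ∀ T : Subgroup ↥(S : Subgroup G), T ≠ ⊥ → T.Characteristic → ¬ (T.map (S : Subgroup G).subtype).Normal

/-- The elements of order dividing `p` in the centre of a subgroup. -/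
abbrev omegaZ (p : ℕ) (K : Subgroup G) : Subgroup G := omegaOne p (K ⊓ centralizer (K : Set G))

omit [Finite G] in
theorem map_omegaZ {H : Type*} [Group H] {K : Subgroup G} {f : G →* H} (hf : Function.Injective f) :
    (omegaZ p K).map f = omegaZ p (K.map f) := by
  rw [omegaOne_map hf, map_inf_centralizer hf]

instance omegaZ_normal (K : Subgroup G) [hK : K.Normal] : (omegaZ p K).Normal := by
  rw [← normalizer_eq_top_iff, eq_top_iff]
  intro g _
  apply mem_normalizer_of_map_conj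
  rw [map_omegaZ (MulAut.conj g).injective, map_conj_eq_of_mem_normalizer (by
    rw [normalizer_eq_top_iff.mpr hK]; trivial)]

theorem omegaZ_comm {K : Subgroup G} {v x : G} (hv : v ∈ omegaZ p K) (hx : x ∈ K) : x * v = v * x :=
  mem_centralizer_iff.mp (mem_inf.mp (omegaOne_le p _ hv)).2 x hx

theorem omegaZ_le (K : Subgroup G) : omegaZ p K ≤ K := (omegaOne_le p _).trans inf_le_left

theorem mem_omegaZ {K : Subgroup G} {v : G} (hv : v ∈ K) (hc : ∀ x ∈ K, x * v = v * x) (hp : v ^ p = 1) :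
    v ∈ omegaZ p K := mem_omegaOne ⟨hv, mem_centralizer_iff.mpr hc⟩ hp

theorem omegaZ_pow {K : Subgroup G} {v : G} (hv : v ∈ omegaZ p K) : v ^ p = 1 :=
  (elem_omegaOne_center p K).2 v hv

theorem characteristic_omegaZ (P : Subgroup G) : (omegaOne p (center P)).Characteristic := by
  rw [characteristic_iff_map_eq]
  intro φ
  rw [omegaOne_map φ.injective, characteristic_iff_map_eq.mp inferInstance φ]

theorem characteristic_thompson (P : Subgroup G) : (thompsonSubgroup p P).Characteristic := by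
  rw [characteristic_iff_map_eq]
  intro φ
  rw [thompsonSubgroup_map φ.injective, MonoidHom.range_eq_top.mpr φ.surjective, thompsonSubgroupOf_top]

/-- The module. -/
abbrev Vm (p : ℕ) (G : Type*) [Group G] : Subgroup G := omegaZ p (Cfsg.pCore p G)

theorem le_center_of_comm (R : RankOne S F) {v : G} (h : ∀ s ∈ (S : Subgroup G), ∀ g : G,
    (g * s * g⁻¹) * v = v * (g * s * g⁻¹)) : v ∈ center G := by
  have hle : normalClosure ((S : Subgroup G) : Set G) ≤ centralizer ({v} : Set G) := by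
    rw [normalClosure, closure_le]
    intro x hx
    obtain ⟨s, hs, hc⟩ := Group.mem_conjugatesOfSet_iff.mp hx
    obtain ⟨g, rfl⟩ := isConj_iff.mp hc
    exact mem_centralizer_singleton_iff.mpr (h s hs g)
  rw [R.normalClosure_eq_top] at hle
  exact mem_center_iff.mpr fun g => mem_centralizer_singleton_iff.mp (hle (mem_top g))

/-- A normal subgroup centralized by the Sylow subgroup is central. -/
theorem le_center_of_normal (R : RankOne S F) (X : Subgroup G) [hX : X.Normal]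
    (h : ∀ x ∈ X, ∀ s ∈ (S : Subgroup G), s * x = x * s) : X ≤ center G := by
  intro x hx
  refine le_center_of_comm R fun s hs g => ?_
  have := h _ (hX.conj_mem x hx g⁻¹) s hs
  rw [inv_inv] at this
  calc g * s * g⁻¹ * x = g * (s * (g⁻¹ * x * g)) * g⁻¹ := by group
    _ = g * (g⁻¹ * x * g * s) * g⁻¹ := by rw [this]
    _ = x * (g * s * g⁻¹) := by group

variable (P : PU S F)
include P

theorem PU.pCore_ne_bot : Cfsg.pCore p G ≠ ⊥ := by
  intro h
  have h1 := P.cent
  rw [h] at h1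
  obtain ⟨g, hg⟩ := P.R.exists_not_mem
  refine hg ?_
  have : g ∈ (⊥ : Subgroup G) := h1 (mem_centralizer_iff.mpr fun x hx => by
    rw [mem_bot.mp hx, one_mul, mul_one])
  rw [mem_bot.mp this]
  exact one_mem _

theorem PU.centralizer_sylow_le {v : G} (h : ∀ s ∈ (S : Subgroup G), s * v = v * s) :
    v ∈ Cfsg.pCore p G :=
  P.cent (mem_centralizer_iff.mpr fun x hx => h x (pCore_le_sylow S hx))

theorem PU.omegaZ_sylow_eq :
    omegaZ p (S : Subgroup G) = Vm p G ⊓ centralizer ((S : Subgroup G) : Set G) := by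
  refine le_antisymm ((closure_le _).mpr ?_) ?_
  · rintro v ⟨hv, hp⟩
    obtain ⟨hvS, hvc⟩ := mem_inf.mp hv
    have hc := mem_centralizer_iff.mp hvc
    exact ⟨mem_omegaZ (P.centralizer_sylow_le hc) (fun x hx => hc x (pCore_le_sylow S hx)) hp, hvc⟩
  · intro v hv
    obtain ⟨hvV, hvc⟩ := mem_inf.mp hv
    exact mem_omegaZ (pCore_le_sylow S (omegaZ_le _ hvV)) (mem_centralizer_iff.mp hvc) (omegaZ_pow hvV)

/-- The fixed points of the Sylow subgroup on the module are not central. -/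
theorem PU.exists_moved : ∃ w ∈ Vm p G, (∀ s ∈ (S : Subgroup G), ⁅s, w⁆ = 1) ∧ ∃ g : G, ⁅g, w⁆ ≠ 1 := by
  by_contra hno
  push Not at hno
  have hZc : Vm p G ⊓ centralizer ((S : Subgroup G) : Set G) ≤ center G := fun w hw =>
    mem_center_iff.mpr fun g => commutatorElement_eq_one_iff_mul_comm.mp (hno w hw.1
      (fun s hs => commutatorElement_eq_one_iff_mul_comm.mpr (mem_centralizer_iff.mp hw.2 s hs)) g)
  refine P.nochar (omegaOne p (center (S : Subgroup G))) ?_ (characteristic_omegaZ _) ?_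
  · intro h0
    haveI : Nontrivial (S : Subgroup G) := (nontrivial_iff_ne_bot _).mpr fun h =>
      P.pCore_ne_bot (le_bot_iff.mp (h ▸ pCore_le_sylow S))
    haveI := S.2.center_nontrivial
    obtain ⟨n, hn, hc⟩ := (S.2.to_subgroup (center (S : Subgroup G))).nontrivial_iff_card.mp inferInstance
    obtain ⟨z, hz⟩ := exists_prime_orderOf_dvd_card' (G := center (S : Subgroup G)) p (hc ▸ dvd_pow_self p hn.ne')
    have hzm : (z : (S : Subgroup G)) ∈ omegaOne p (center (S : Subgroup G)) :=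
      mem_omegaOne z.2 (by
        have hzp : z ^ p = 1 := orderOf_dvd_iff_pow_eq_one.mp (dvd_of_eq hz)
        simpa using congrArg Subtype.val hzp)
    rw [h0, mem_bot] at hzm
    rw [show z = 1 from Subtype.ext hzm, orderOf_one] at hz
    exact (Fact.out : p.Prime).one_lt.ne hz
  · rw [omegaOne_center_map_subtype, show omegaOne p ((S : Subgroup G) ⊓ centralizer ((S : Subgroup G) : Set G)) =
      Vm p G ⊓ centralizer ((S : Subgroup G) : Set G) from P.omegaZ_sylow_eq]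
    exact ⟨fun x hx g => by rw [mem_center_iff.mp (hZc hx) g, mul_inv_cancel_right]; exact hx⟩

theorem PU.exists_maxIn_not_le : ∃ A, MaxIn p (S : Subgroup G) A ∧ ¬ A ≤ Cfsg.pCore p G := by
  by_contra hno
  push Not at hno
  have hJ : thompsonSubgroupOf p (S : Subgroup G) ≤ Cfsg.pCore p G := by
    rw [thompsonSubgroupOf_eq]; exact sSup_le hno
  refine P.nochar (thompsonSubgroup p (S : Subgroup G)) ?_ (characteristic_thompson _) ?_
  · intro h0
    obtain ⟨A, hA⟩ := exists_maxIn p (S : Subgroup G)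
    have hA0 : A = ⊥ := le_bot_iff.mp ((le_thompsonSubgroupOf hA).trans (by
      rw [thompsonSubgroupOf, h0, Subgroup.map_bot]))
    obtain ⟨w, hw, hwS, g, hg⟩ := P.exists_moved
    have hwZ : w ∈ omegaZ p (S : Subgroup G) := by
      rw [P.omegaZ_sylow_eq]
      exact ⟨hw, mem_centralizer_iff.mpr fun s hs => commutatorElement_eq_one_iff_mul_comm.mp (hwS s hs)⟩
    have : w ∈ A := omegaOne_center_le_maxIn hA hwZ
    rw [hA0, mem_bot] at this
    exact hg (by rw [this, commutatorElement_one_right])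
  · show (thompsonSubgroupOf p (S : Subgroup G)).Normal
    rw [← thompsonSubgroupOf_eq_of_le hJ (pCore_le_sylow S), ← normalizer_eq_top_iff, eq_top_iff]
    refine le_trans ?_ (normalizer_le_normalizer_thompsonSubgroupOf p _)
    rw [normalizer_eq_top_iff.mpr inferInstance]

/-- The module is natural modulo the centre. -/
theorem PU.exists_vLayer : Nonempty (NatLayer P.R ⊥ (Vm p G)) := by
  obtain ⟨A, hA, hAQ⟩ := P.exists_maxIn_not_le
  obtain ⟨w, hw, hwS, g, hg⟩ := P.exists_moved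
  have hAe := hA.2.1
  set D := Vm p G ⊓ centralizer (A : Set G) with hD
  refine (exists_natLayer P.R ⊥ (Vm p G) bot_le (fun a ha b hb => ?_) (fun a ha => ?_) (fun x hx v hv => ?_)
    A hA.1 hAQ (fun a ha b hb => ?_) (fun a ha => ?_) D bot_le inf_le_left (fun a ha d hd => ?_) ?_
    ⟨w, hw, fun s hs => mem_bot.mpr (hwS s hs), g, fun h => hg (mem_bot.mp h)⟩).1
  · exact mem_bot.mpr (commutatorElement_eq_one_iff_mul_comm.mpr (elem_comm (elem_omegaOne_center p _) ha hb))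
  · exact mem_bot.mpr (omegaZ_pow ha)
  · exact mem_bot.mpr (commutatorElement_eq_one_iff_mul_comm.mpr (omegaZ_comm hv hx))
  · rw [commutatorElement_eq_one_iff_mul_comm.mpr (elem_comm hAe ha hb)]; exact one_mem _
  · rw [hAe.2 a ha]; exact one_mem _
  · exact mem_bot.mpr (commutatorElement_eq_one_iff_mul_comm.mpr (mem_centralizer_iff.mp hd.2 a ha))
  · set B := A ⊓ Cfsg.pCore p G
    have hBe : IsElementaryAbelian p (Subgroup.closure ((B : Set G) ∪ (Vm p G : Set G))) := by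
      refine elem_closure ?_ ?_
      · rintro x (hx | hx) y (hy | hy)
        · exact elem_comm hAe (mem_inf.mp hx).1 (mem_inf.mp hy).1
        · exact omegaZ_comm hy (mem_inf.mp hx).2
        · exact (omegaZ_comm hx (mem_inf.mp hy).2).symm
        · exact elem_comm (elem_omegaOne_center p _) hx hy
      · rintro x (hx | hx)
        · exact hAe.2 x (mem_inf.mp hx).1
        · exact omegaZ_pow hx
    rw [← sup_eq_closure] at hBe
    have h1 := hA.2.2 _ (sup_le (inf_le_left.trans hA.1) ((omegaZ_le _).trans (pCore_le_sylow S))) hBe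
    have h2 := H31.card_mul_card_le B (Vm p G)
    have h3 : B ⊓ Vm p G ≤ D := fun x hx => ⟨hx.2, mem_centralizer_iff.mpr fun a ha =>
      elem_comm hAe ha hx.1.1⟩
    calc Nat.card (Vm p G) * Nat.card B = Nat.card B * Nat.card (Vm p G) := mul_comm _ _
      _ ≤ _ := h2
      _ ≤ _ := Nat.mul_le_mul h1 (Subgroup.card_le_of_le h3)

/-- The chosen natural layer on the module. -/
noncomputable def PU.vL : NatLayer P.R ⊥ (Vm p G) := P.exists_vLayer.some

/-- The fixed points of the Sylow subgroup. -/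
def PU.Z (_P : PU S F) : Subgroup G := Vm p G ⊓ centralizer ((S : Subgroup G) : Set G)

/-- The commutator with the Sylow subgroup. -/
def PU.L (_P : PU S F) : Subgroup G := ⁅(S : Subgroup G), Vm p G⁆

theorem PU.mem_Z {v : G} : v ∈ P.Z ↔ v ∈ Vm p G ∧ P.vL.ψ v 1 = 0 := by
  constructor
  · rintro ⟨hv, hc⟩
    obtain ⟨A, hA, hAQ⟩ := P.exists_maxIn_not_le
    obtain ⟨x, hx, hxQ⟩ := SetLike.not_le_iff_exists.mp hAQ
    exact ⟨hv, P.vL.line_of_fixed (hA.1 hx) hxQ hv
      (mem_bot.mpr (commutatorElement_eq_one_iff_mul_comm.mpr (mem_centralizer_iff.mp hc x (hA.1 hx))))⟩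
  · rintro ⟨hv, h⟩
    exact ⟨hv, mem_centralizer_iff.mpr fun s hs =>
      commutatorElement_eq_one_iff_mul_comm.mp (mem_bot.mp (P.vL.fix_S s hs v hv h))⟩

theorem PU.fixed_mem_Z {x v : G} (hx : x ∈ (S : Subgroup G)) (hxQ : x ∉ Cfsg.pCore p G) (hv : v ∈ Vm p G)
    (h : x * v = v * x) : v ∈ P.Z :=
  P.mem_Z.mpr ⟨hv, P.vL.line_of_fixed hx hxQ hv (mem_bot.mpr (commutatorElement_eq_one_iff_mul_comm.mpr h))⟩

theorem PU.card_V : Nat.card (Vm p G) = Fintype.card F * Nat.card P.Z := by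
  have h : P.vL.line = P.Z := SetLike.ext fun v => P.mem_Z.symm
  rw [P.vL.card_line, h]

theorem PU.Z_le : P.Z ≤ Vm p G := inf_le_left

theorem PU.L_le_Z : P.L ≤ P.Z := commutator_le.mpr fun s hs v hv =>
  P.mem_Z.mpr ⟨P.vL.comm_mem hv, P.vL.comm_line hs hv⟩

theorem PU.L_not_central : ¬ P.L ≤ center G := by
  intro h
  obtain ⟨A, hA, hAQ⟩ := P.exists_maxIn_not_le
  obtain ⟨x, hx, hxQ⟩ := SetLike.not_le_iff_exists.mp hAQ
  obtain ⟨v, hv, hne⟩ := P.vL.exists_comm_ne_zero (hA.1 hx) hxQ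
  refine hne ((P.vL.ψ_zero _ (P.vL.comm_mem hv)).mpr fun g => mem_bot.mpr ?_)
  exact commutatorElement_eq_one_iff_mul_comm.mpr (mem_center_iff.mp (h (commutator_mem_commutator (hA.1 hx) hv)) g)

/-- In the Sylow subgroup, only the core centralizes the module. -/
theorem PU.mem_pCore_of_comm {s : G} (hs : s ∈ (S : Subgroup G)) (h : ∀ v ∈ Vm p G, s * v = v * s) :
    s ∈ Cfsg.pCore p G :=
  (P.vL.ker_S s hs).mp ((P.vL.mem_ker s).mpr fun v hv =>
    mem_bot.mpr (commutatorElement_eq_one_iff_mul_comm.mpr (h v hv)))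

theorem PU.commutator_eq_L {B : Subgroup G} (hB : B ⊔ Cfsg.pCore p G = S) : ⁅B, Vm p G⁆ = P.L := by
  refine le_antisymm (commutator_mono (hB ▸ le_sup_left) le_rfl) (commutator_le.mpr fun s hs v hv => ?_)
  rw [← hB] at hs
  obtain ⟨b, hb, q, hq, rfl⟩ := mem_sup_of_normal_right.mp hs
  rw [show ⁅b * q, v⁆ = b * ⁅q, v⁆ * b⁻¹ * ⁅b, v⁆ by simp only [commutatorElement_def]; group,
    commutatorElement_eq_one_iff_mul_comm.mpr (omegaZ_comm hv hq), mul_one, mul_inv_cancel, one_mul]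
  exact commutator_mem_commutator hb hv

end Cfsg.Agent.H31.PushUp

namespace Cfsg.Agent.H31.PushUp

open Subgroup Cfsg.Agent Cfsg.Agent.Cores
open scoped Pointwise commutatorElement

variable {F : Type} [Field F] [Fintype F] {p : ℕ} [Fact p.Prime]
variable {G : Type*} [Group G] [Finite G] {S : Sylow p G} (P : PU S F)
include P

theorem PU.two_ne_zero (hp : p ≠ 2) : (2 : F) ≠ 0 := by
  haveI := P.R.char
  intro h
  have h2 : p ∣ 2 := (CharP.cast_eq_zero_iff F p 2).mp (by exact_mod_cast h)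
  exact hp ((Nat.prime_dvd_prime_iff_eq Fact.out Nat.prime_two).mp h2)

/-- For odd `p`, the line meets the centre trivially. -/
theorem PU.L_inf_center (hp : p ≠ 2) : P.L ⊓ center G = ⊥ := by
  have h2 := P.two_ne_zero hp
  obtain ⟨τ, hτ⟩ := P.vL.surj (-1)
  have hVc : ∀ {x y : G}, x ∈ Vm p G → y ∈ Vm p G → x * y = y * x := fun hx hy =>
    elem_comm (elem_omegaOne_center p _) hx hy
  have hone : ∀ {g v : G}, v ∈ Vm p G → P.vL.e g = 1 → g * v = v * g := fun {g v} hv hg =>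
    commutatorElement_eq_one_iff_mul_comm.mp (mem_bot.mp ((P.vL.mem_ker g).mp hg v hv))
  have hψτ : ∀ {v : G}, v ∈ Vm p G → P.vL.ψ ⁅τ, v⁆ = -(P.vL.ψ v) - P.vL.ψ v := fun {v} hv => by
    rw [P.vL.ψ_comm τ hv, hτ, Matrix.SpecialLinearGroup.coe_neg, Matrix.SpecialLinearGroup.coe_one,
      Matrix.neg_mulVec, Matrix.one_mulVec]
  let f : Vm p G →* G := MonoidHom.mk' (fun v => ⁅τ, (v : G)⁆) fun a b => by
    have h : (⁅τ, (b : G)⁆) * a = a * ⁅τ, (b : G)⁆ := hVc (P.vL.comm_mem b.2) a.2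
    have h' : (a : G) * ⁅τ, (b : G)⁆ * (a : G)⁻¹ = ⁅τ, (b : G)⁆ := by rw [← h, mul_inv_cancel_right]
    calc ⁅τ, ((a * b : Vm p G) : G)⁆ = ⁅τ, (a : G)⁆ * ((a : G) * ⁅τ, (b : G)⁆ * (a : G)⁻¹) := by
          rw [coe_mul]; simp only [commutatorElement_def]; group
      _ = _ := by rw [h']
  have hL : P.L ≤ f.range := by
    refine commutator_le.mpr fun s hs v hv => ?_
    obtain ⟨w, hw, hψw⟩ := P.vL.ψ_surj (-((2 : F)⁻¹ • P.vL.ψ v))
    set u := ⁅τ, w⁆
    have hu : u ∈ Vm p G := P.vL.comm_mem hw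
    have hz : ∀ g, ⁅g, v * u⁻¹⁆ = 1 := fun g => by
      refine mem_bot.mp ((P.vL.ψ_zero _ (mul_mem hv (inv_mem hu))).mp ?_ g)
      rw [P.vL.ψ_mul v hv _ (inv_mem hu), P.vL.ψ_inv hu, hψτ hw, hψw]
      funext i
      simp only [Pi.add_apply, Pi.neg_apply, Pi.sub_apply, Pi.smul_apply, Pi.zero_apply, smul_eq_mul]
      field_simp
      ring
    have e1 : ⁅s, v⁆ = ⁅s, u⁆ := by
      have h := commutatorElement_eq_one_iff_mul_comm.mp (hz s)
      have e : v = v * u⁻¹ * u := by group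
      conv_lhs => rw [e]
      calc ⁅s, v * u⁻¹ * u⁆ = s * (v * u⁻¹) * u * s⁻¹ * u⁻¹ * (v * u⁻¹)⁻¹ := by
            simp only [commutatorElement_def]; group
        _ = (v * u⁻¹) * ⁅s, u⁆ * (v * u⁻¹)⁻¹ := by rw [h]; simp only [commutatorElement_def]; group
        _ = ⁅s, u⁆ := by
            rw [hVc (mul_mem hv (inv_mem hu)) (P.vL.comm_mem hu), mul_inv_cancel_right]
    refine ⟨⟨⁅s, w⁆, P.vL.comm_mem hw⟩, ?_⟩
    show ⁅τ, ⁅s, w⁆⁆ = ⁅s, v⁆
    rw [e1]
    have hc : s * τ * w * τ⁻¹ * s⁻¹ = τ * s * w * s⁻¹ * τ⁻¹ := by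
      have hk := hone (g := (τ * s)⁻¹ * (s * τ)) hw (by
        simp only [map_mul, map_inv, hτ]
        simp [mul_assoc])
      calc s * τ * w * τ⁻¹ * s⁻¹ = τ * s * ((τ * s)⁻¹ * (s * τ) * w) * (τ⁻¹ * s⁻¹) := by group
        _ = τ * s * (w * ((τ * s)⁻¹ * (s * τ))) * (τ⁻¹ * s⁻¹) := by rw [hk]
        _ = _ := by group
    have hA : τ * ⁅s, w⁆ * τ⁻¹ = s * τ * w * τ⁻¹ * s⁻¹ * (τ * w * τ⁻¹)⁻¹ := by
      rw [hc]; simp only [commutatorElement_def]; group
    have hsw : s * w * s⁻¹ ∈ Vm p G := P.vL.hi_normal.conj_mem w hw s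
    have hcw := hVc (inv_mem (P.vL.hi_normal.conj_mem w hw τ)) (mul_mem hw (inv_mem hsw))
    calc ⁅τ, ⁅s, w⁆⁆ = τ * ⁅s, w⁆ * τ⁻¹ * ⁅s, w⁆⁻¹ := rfl
      _ = s * τ * w * τ⁻¹ * s⁻¹ * ((τ * w * τ⁻¹)⁻¹ * (w * (s * w * s⁻¹)⁻¹)) := by
          rw [hA]; simp only [commutatorElement_def]; group
      _ = s * τ * w * τ⁻¹ * s⁻¹ * (w * (s * w * s⁻¹)⁻¹ * (τ * w * τ⁻¹)⁻¹) := by rw [hcw]
      _ = s * τ * w * τ⁻¹ * s⁻¹ * ((s * w⁻¹ * s⁻¹ * w) * (τ * w * τ⁻¹)⁻¹) := by
          rw [hVc hw (inv_mem hsw)]; group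
      _ = s * τ * w * τ⁻¹ * w⁻¹ * s⁻¹ * (w * (τ * w⁻¹ * τ⁻¹)) := by group
      _ = ⁅s, ⁅τ, w⁆⁆ := by simp only [commutatorElement_def]; group
  rw [eq_bot_iff]
  intro x hx
  obtain ⟨w, rfl⟩ := hL hx.1
  have h0 : P.vL.ψ ⁅τ, (w : G)⁆ = 0 := (P.vL.ψ_zero _ (P.vL.comm_mem w.2)).mpr fun g =>
    mem_bot.mpr (commutatorElement_eq_one_iff_mul_comm.mpr (mem_center_iff.mp hx.2 g))
  rw [hψτ w.2] at h0
  have hw0 : P.vL.ψ (w : G) = 0 := by
    funext i
    have := congrFun h0 i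
    simp only [Pi.sub_apply, Pi.neg_apply, Pi.zero_apply] at this
    have h3 : (2 : F) * P.vL.ψ (w : G) i = 0 := by linear_combination -this
    exact (mul_eq_zero.mp h3).resolve_left h2
  exact mem_bot.mpr (mem_bot.mp ((P.vL.ψ_zero _ w.2).mp hw0 τ))

end Cfsg.Agent.H31.PushUp
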