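import Cfsg.Agent.H31.PushUp.Factors

/-!
# Critical distance two forces `p = 3`
-/

set_option autoImplicit false
set_option linter.unusedSectionVars false
set_option maxHeartbeats 800000

namespace Cfsg.Agent.H31.PushUp

open Subgroup Cfsg.Agent Cfsg.Agent.Cores Cfsg.Agent.H60
open scoped Pointwise commutatorElement

variable {F : Type} [Field F] [Fintype F] {p : ℕ} [Fact p.Prime]
variable {G : Type*} [Group G] [Finite G] {S : Sylow p G}

local notation "S2" => Matrix.SpecialLinearGroup (Fin 2) F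
local notation "M2" => Matrix (Fin 2) (Fin 2) F

/-- The unitriangular matrix with entry `x`. -/
def up (x : F) : S2 := Matrix.SpecialLinearGroup.transvection (zero_ne_one (α := Fin 2)) x

theorem up_mem (x : F) : up x ∈ Linear.unitriSL 2 F := Linear.transvection_mem_unitriSL x

theorem up_01 (x : F) : ((up x : S2) : M2) 0 1 = x := by
  simp [up, Matrix.SpecialLinearGroup.transvection_coe]

theorem up_entries (x : F) : ((up x : S2) : M2) 0 0 = 1 ∧ ((up x : S2) : M2) 0 1 = x ∧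
    ((up x : S2) : M2) 1 0 = 0 ∧ ((up x : S2) : M2) 1 1 = 1 :=
  ⟨(Linear.unitriSL_two_eq.mp (up_mem x)).2.1, up_01 x, (Linear.unitriSL_two_eq.mp (up_mem x)).1,
    (Linear.unitriSL_two_eq.mp (up_mem x)).2.2⟩

theorem eq_up {u : S2} (hu : u ∈ Linear.unitriSL 2 F) : u = up ((u : M2) 0 1) := by
  obtain ⟨a, b, c⟩ := Linear.unitriSL_two_eq.mp hu
  obtain ⟨d, e, f, g⟩ := up_entries ((u : M2) 0 1)
  exact Linear.SL_ext_two (b.trans d.symm) e.symm (a.trans f.symm) (c.trans g.symm)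

theorem up_mul (x y : F) : (up x : S2) * up y = up (x + y) := by
  obtain ⟨a, b, c, d⟩ := up_entries x
  obtain ⟨a', b', c', d'⟩ := up_entries y
  obtain ⟨a'', b'', c'', d''⟩ := up_entries (x + y)
  exact Linear.SL_ext_two (by simp [Linear.SL_mul_entries, a, c', a', a''])
    (by simp [Linear.SL_mul_entries, a, b, b', d', b'', add_comm])
    (by simp [Linear.SL_mul_entries, c, c', c''])
    (by simp [Linear.SL_mul_entries, c, d, d', d''])

namespace Case2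

variable {P : PU S F} (C : Case2 P)
include C

theorem mem_sylow_W {w : G} (hw : w ∈ C.W) : w ∈ (S : Subgroup G) := pCore_le_sylow S (C.W_le hw)

/-- The automorphism as a homomorphism on the Sylow subgroup. -/
def φHom : (S : Subgroup G) →* (S : Subgroup G) :=
  MonoidHom.mk' (fun x => ⟨C.φ x, C.φ_mem x x.2⟩) fun a b => Subtype.ext (C.φ_mul a a.2 b b.2)

theorem φ_comm {x y : G} (hx : x ∈ (S : Subgroup G)) (hy : y ∈ (S : Subgroup G)) :
    C.φ ⁅x, y⁆ = ⁅C.φ x, C.φ y⁆ :=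
  by
  have h : ((C.φHom ⁅(⟨x, hx⟩ : (S : Subgroup G)), ⟨y, hy⟩⁆ : (S : Subgroup G)) : G) = _ :=
    congrArg Subtype.val (map_commutatorElement C.φHom ⟨x, hx⟩ ⟨y, hy⟩)
  exact h

theorem φ_inj {x y : G} (hx : x ∈ (S : Subgroup G)) (hy : y ∈ (S : Subgroup G)) (h : C.φ x = C.φ y) : x = y := by
  have hs : Function.Surjective C.φHom := fun z => by
    obtain ⟨u, hu, he⟩ := C.φ_surj z z.2
    exact ⟨⟨u, hu⟩, Subtype.ext he⟩
  exact congrArg Subtype.val (Finite.injective_iff_surjective.mpr hs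
    (show C.φHom ⟨x, hx⟩ = C.φHom ⟨y, hy⟩ from Subtype.ext h))

theorem comm_mem_S {x y : G} (hx : x ∈ (S : Subgroup G)) (hy : y ∈ (S : Subgroup G)) : ⁅x, y⁆ ∈ (S : Subgroup G) := by
  rw [commutatorElement_def]
  exact mul_mem (mul_mem (mul_mem hx hy) (inv_mem hx)) (inv_mem hy)

theorem L_comm {x s : G} (hx : x ∈ P.L) (hs : s ∈ (S : Subgroup G)) : s * x = x * s :=
  mem_centralizer_iff.mp (P.L_le_Z hx).2 s hs

theorem line_of_Qa {x : G} (hx : x ∈ C.W) (hQ : x ∈ C.Qa) : C.wL.ψ x 1 = 0 := by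
  obtain ⟨a, ha, haQ⟩ := SetLike.not_le_iff_exists.mp (not_le_pCore P.R C.A_sup)
  exact C.wL.line_of_fixed (C.A_le ha) haQ (mem_sup_right hx) (P.Z_le (P.L_le_Z (C.Qa_A x hQ a ha)))

/-- The part of `W` over the line is `W ⊓ Qa`. -/
theorem mem_Qa_of_line {w : G} (hw : w ∈ C.W) (h : C.wL.ψ w 1 = 0) : w ∈ C.Qa := by
  let f : C.W →* Multiplicative F := MonoidHom.mk' (fun x => Multiplicative.ofAdd (C.wL.ψ x 1)) fun a b => by
    rw [← ofAdd_add, coe_mul, C.wL.ψ_mul _ (mem_sup_right a.2) _ (mem_sup_right b.2), Pi.add_apply]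
  have hs : Function.Surjective f := fun t => by
    obtain ⟨v, hv, hψ⟩ := C.wL.ψ_surj fun _ => Multiplicative.toAdd t
    haveI := C.W_normal
    obtain ⟨v', hv', u, hu, rfl⟩ := mem_sup_of_normal_left.mp hv
    refine ⟨⟨u, hu⟩, ?_⟩
    rw [C.wL.ψ_mul v' (mem_sup_left hv') u (mem_sup_right hu), C.wL.ψ_lo hv', zero_add] at hψ
    show Multiplicative.ofAdd (C.wL.ψ u 1) = t
    rw [hψ]; rfl
  have h1 := f.ker.card_mul_index
  rw [index_ker, MonoidHom.range_eq_top.mpr hs, card_top, Nat.card_congr Multiplicative.toAdd,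
    Nat.card_eq_fintype_card (α := F)] at h1
  have h2 : Nat.card f.ker ≤ Nat.card ↥(C.W ⊓ C.Qa) := by
    refine Nat.le_of_mul_le_mul_right ?_ (Fintype.card_pos (α := F))
    rw [h1, mul_comm]; exact C.W_card
  have heq : (C.W ⊓ C.Qa).subgroupOf C.W = f.ker := by
    refine eq_of_le_of_card_ge (fun x hx => congrArg Multiplicative.ofAdd (C.line_of_Qa x.2 hx.2)) ?_
    rwa [Nat.card_congr (subgroupOfEquivOfLe inf_le_left).toEquiv]
  have : (⟨w, hw⟩ : C.W) ∈ f.ker := congrArg Multiplicative.ofAdd h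
  rw [← heq] at this
  exact this.2

theorem Qa_comm_B {x b : G} (hx : x ∈ C.Qa) (hb : b ∈ C.B) : x * b = b * x := by
  obtain ⟨y, hy, rfl⟩ := C.φ_surj x (C.Qa_le hx)
  obtain ⟨v, hv, rfl⟩ := C.φ_surj b (pCore_le_sylow S (C.B_le hb))
  rw [← C.φ_mul y hy v hv, ← C.φ_mul v hv y hy, omegaZ_comm ((C.φ_V v hv).mp hb) ((C.φ_Q y hy).mp hx)]

theorem K_comm {x : G} (hx : x ∈ C.W) (h : C.wL.ψ x = 0) {w : G} (hw : w ∈ C.W) : x * w = w * x := by
  have hle : C.W ≤ centralizer ({x} : Set G) := by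
    rw [C.W_eq, normalClosure, closure_le]
    intro y hy
    obtain ⟨b, hb, hc⟩ := Group.mem_conjugatesOfSet_iff.mp hy
    obtain ⟨g, rfl⟩ := isConj_iff.mp hc
    refine mem_centralizer_singleton_iff.mpr ?_
    have hx' : g⁻¹ * x * g ∈ C.W := by simpa using C.W_normal.conj_mem x hx g⁻¹
    have hψ : C.wL.ψ (g⁻¹ * x * g) = 0 := by
      have := C.wL.equiv g⁻¹ x (mem_sup_right hx)
      rw [inv_inv] at this
      rw [this, h, Matrix.mulVec_zero]
    have h1 := C.Qa_comm_B (C.mem_Qa_of_line hx' (by rw [hψ]; rfl)) hb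
    calc g * b * g⁻¹ * x = g * (b * (g⁻¹ * x * g)) * g⁻¹ := by group
      _ = g * (g⁻¹ * x * g * b) * g⁻¹ := by rw [h1]
      _ = x * (g * b * g⁻¹) := by group
  exact (mem_centralizer_singleton_iff.mp (hle hw)).symm

/-- The action is not of Engel type two. -/
theorem exists_engel : ∃ a ∈ C.A, ∃ w ∈ C.W, ⁅⁅a, w⁆, a⁆ ∉ P.L ⊓ C.D := by
  by_contra hno
  push Not at hno
  haveI := C.W_normal
  have key : ∀ u ∈ C.W, ∀ s ∈ (S : Subgroup G), C.φ s ∈ C.W → ⁅⁅u, s⁆, u⁆ ∈ P.L ⊓ C.D := by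
    intro u hu s hs hsW
    have huS := C.mem_sylow_W hu
    have hxS := C.comm_mem_S (C.comm_mem_S huS hs) huS
    have h := hno (C.φ u) ((C.φ_W u huS).mpr hu) (C.φ s) hsW
    rw [← C.φ_comm huS hs, ← C.φ_comm (C.comm_mem_S huS hs) huS] at h
    exact ⟨(C.φ_L _ hxS).mp h.2, (C.φ_D _ hxS).mp h.1⟩
  have hedge : ∀ g : G, g ∉ P.R.M → ⁅cj C.B g, C.B⁆ ≤ P.L ⊓ C.D := by
    intro g _
    refine commutator_le.mpr ?_
    rintro _ ⟨b, hb, rfl⟩ b' hb'
    set u := MulAut.conj g b with hu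
    have huW : u ∈ C.W := C.W_normal.conj_mem b (C.B_W hb) g
    by_cases huQ : u ∈ C.Qa
    · have := commutatorElement_eq_one_iff_mul_comm.mpr (C.Qa_comm_B huQ hb')
      rw [show ⁅(MulAut.conj g).toMonoidHom b, b'⁆ = ⁅u, b'⁆ from rfl, this]
      exact one_mem _
    have ht : C.wL.ψ u 1 ≠ 0 := fun e => huQ (C.mem_Qa_of_line huW e)
    obtain ⟨s, hs, hse⟩ := C.wL.surj_S (up (C.wL.ψ b' 0 / C.wL.ψ u 1)) (up_mem _)
    obtain ⟨y, hy, w, hw, he⟩ := mem_sup_of_normal_right.mp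
      (C.Qa_sup.symm ▸ C.φ_mem s hs : C.φ s ∈ C.Qa ⊔ C.W)
    obtain ⟨y', hy', rfl⟩ := C.φ_surj y (C.Qa_le hy)
    obtain ⟨s', hs', rfl⟩ := C.φ_surj w (C.mem_sylow_W hw)
    rw [← C.φ_mul y' hy' s' hs'] at he
    have hss : s = y' * s' := C.φ_inj hs (mul_mem hy' hs') he.symm
    have hes : C.wL.e s' = up (C.wL.ψ b' 0 / C.wL.ψ u 1) := by
      rw [← hse, hss, map_mul, (C.wL.ker_S y' hy').mpr ((C.φ_Q y' hy').mp hy), one_mul]
    set x := ⁅s', u⁆ with hx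
    have hxW : x ∈ C.W := mul_mem (C.W_normal.conj_mem u huW s') (inv_mem huW)
    have hb'W := C.B_W hb'
    have hψ : C.wL.ψ x = C.wL.ψ b' := by
      rw [hx, C.wL.ψ_comm s' (mem_sup_right huW), hes]
      obtain ⟨e0, e1⟩ := PreLayer.unitri_mulVec (up_mem (C.wL.ψ b' 0 / C.wL.ψ u 1)) (C.wL.ψ u)
      refine funext (Fin.forall_fin_two.mpr ⟨?_, ?_⟩)
      · show _ - C.wL.ψ u 0 = C.wL.ψ b' 0
        rw [e0, up_01, div_mul_cancel₀ _ ht]; ring
      · show _ - C.wL.ψ u 1 = C.wL.ψ b' 1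
        rw [e1, sub_self, C.line_of_Qa hb'W (C.B_Qa hb')]
    set k := b'⁻¹ * x with hk
    have hkW : k ∈ C.W := mul_mem (inv_mem hb'W) hxW
    have hku := C.K_comm hkW (by
      rw [hk, C.wL.ψ_mul _ (mem_sup_right (inv_mem hb'W)) _ (mem_sup_right hxW),
        C.wL.ψ_inv (mem_sup_right hb'W), hψ, neg_add_cancel]) huW
    have h1 := key u huW s' hs' hw
    set x' := ⁅u, s'⁆ with hx'
    have hc := mem_center_iff.mp (C.D_central h1.2)
    have h2 : ⁅x, u⁆ ∈ P.L ⊓ C.D := by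
      have e : ⁅x, u⁆ = x'⁻¹ * ⁅x', u⁆⁻¹ * x' := by
        rw [hx, hx']; simp only [commutatorElement_def]; group
      have e2 : x'⁻¹ * ⁅x', u⁆⁻¹ * x' = ⁅x', u⁆⁻¹ := by
        have h3 := mem_center_iff.mp (inv_mem (C.D_central h1.2)) x'⁻¹
        rw [h3, inv_mul_cancel_right]
      rw [e, e2]
      exact inv_mem h1
    have h4 : ⁅b', u⁆ = ⁅x, u⁆ := by
      rw [show x = b' * k by rw [hk]; group]
      calc ⁅b', u⁆ = b' * u * b'⁻¹ * u⁻¹ := rfl
        _ = b' * (u * k * k⁻¹) * b'⁻¹ * u⁻¹ := by group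
        _ = b' * (k * u * k⁻¹) * b'⁻¹ * u⁻¹ := by rw [← hku]
        _ = _ := by simp only [commutatorElement_def]; group
    show ⁅u, b'⁆ ∈ P.L ⊓ C.D
    rw [← commutatorElement_inv, h4]
    exact inv_mem h2
  obtain ⟨g, hg⟩ := P.R.exists_not_mem
  have hDL : C.D ≤ P.L := by
    rw [← C.comm_edge g hg]; exact (hedge g hg).trans inf_le_left
  refine P.L_not_central fun x hx => C.D_central ?_
  have hxS := pCore_le_sylow S (omegaZ_le _ (P.Z_le (P.L_le_Z hx)))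
  exact (C.φ_D x hxS).mp (hDL ((C.φ_L x hxS).mpr hx))

theorem comm_A {a w : G} (ha : a ∈ C.A) (hw : w ∈ C.W) : ⁅a, w⁆ ∈ C.A := by
  rw [show ⁅a, w⁆ = a * (w * a⁻¹ * w⁻¹) by simp only [commutatorElement_def]; group]
  exact mul_mem ha (C.A_norm w (C.mem_sylow_W hw) _ (inv_mem ha))

theorem comm_W {a w : G} (hw : w ∈ C.W) : ⁅a, w⁆ ∈ C.W := by
  rw [commutatorElement_def]
  exact mul_mem (C.W_normal.conj_mem w hw a) (inv_mem hw)

theorem engel_mem_L {a w : G} (ha : a ∈ C.A) (hw : w ∈ C.W) : ⁅⁅a, w⁆, a⁆ ∈ P.L :=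
  C.A_comm _ (C.comm_A ha hw) a ha

theorem p_ne_two : p ≠ 2 := by
  intro hp
  obtain ⟨a, ha, w, hw, hne⟩ := C.exists_engel
  refine hne ⟨C.engel_mem_L ha hw, ?_⟩
  have ha2 : a * a ∈ P.L := by
    have := C.A_pow a ha
    rwa [show a ^ p = a * a by rw [hp, pow_two]] at this
  have hwS := C.mem_sylow_W hw
  have hcm : w * (a * a) = a * a * w := C.L_comm ha2 hwS
  have e : a * ⁅a, w⁆ * a⁻¹ = ⁅a, w⁆⁻¹ := by
    calc a * ⁅a, w⁆ * a⁻¹ = a * a * w * a⁻¹ * w⁻¹ * a⁻¹ := by simp only [commutatorElement_def]; group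
      _ = w * (a * a) * a⁻¹ * w⁻¹ * a⁻¹ := by rw [hcm]
      _ = _ := by simp only [commutatorElement_def]; group
  have e2 : ⁅⁅a, w⁆, a⁆ = ⁅a, w⁆ * ⁅a, w⁆ := by
    calc ⁅⁅a, w⁆, a⁆ = ⁅a, w⁆ * (a * ⁅a, w⁆ * a⁻¹)⁻¹ := by simp only [commutatorElement_def]; group
      _ = _ := by rw [e, inv_inv]
  rw [e2]
  have := C.W_pow _ (C.comm_W (a := a) hw)
  rwa [show ⁅a, w⁆ ^ p = ⁅a, w⁆ * ⁅a, w⁆ by rw [hp, pow_two]] at this

theorem L_inf_D : P.L ⊓ C.D = ⊥ :=
  le_bot_iff.mp ((inf_le_inf_left _ C.D_central).trans (P.L_inf_center C.p_ne_two).le)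

end Case2

theorem map_diag_two {f : S2 →* S2} (hinj : Function.Injective f)
    (hU : ∀ u ∈ Linear.unitriSL 2 F, f u ∈ Linear.unitriSL 2 F) (h2 : (2 : F) ≠ 0) {k : ℕ} (hk : (2 : F) * k = 1)
    {d : S2} (hd0 : (d : M2) 0 0 = 2) (hd1 : (d : M2) 1 0 = 0) (hd2 : (d : M2) 0 1 = 0) :
    (f d : M2) 0 0 = 2 := by
  let w : S2 := ⟨!![0, -1; 1, 0], by simp [Matrix.det_fin_two_of]⟩
  have hw : (w : M2) 0 0 = 0 ∧ (w : M2) 0 1 = -1 ∧ (w : M2) 1 0 = 1 ∧ (w : M2) 1 1 = 0 := ⟨rfl, rfl, rfl, rfl⟩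
  obtain ⟨hw0, hw1, hw2, hw3⟩ := hw
  obtain ⟨iw0, iw1, iw2, iw3⟩ := Linear.SL_inv_entries w
  clear_value w
  have hwdet := Linear.SL_det_two w
  set X := f w with hX
  set h := ((f (up 1) : S2) : M2) 0 1 with hh
  have hfu : f (up 1) = up h := eq_up (hU _ (up_mem 1))
  have hupn : ∀ m : ℕ, f (up (m : F)) = up ((m : F) * h) := fun m => by
    induction m with
    | zero =>
      have e : (up (0 : F) : S2) = 1 := by
        have := up_mul (0 : F) 0
        rwa [add_zero, mul_eq_left] at this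
      rw [Nat.cast_zero, zero_mul, e, map_one]
    | succ m ih => rw [Nat.cast_succ, ← up_mul, map_mul, ih, hfu, up_mul, add_mul, one_mul]
  have hw2' : w * w = -1 := Linear.SL_ext_two (by simp [Linear.SL_mul_entries, hw0, hw1, hw2])
    (by simp [Linear.SL_mul_entries, hw0, hw3]) (by simp [Linear.SL_mul_entries, hw0, hw3])
    (by simp [Linear.SL_mul_entries, hw1, hw2, hw3])
  have hneg : f (-1) = -1 := by
    refine (Linear.eq_one_or_neg_one_of_sq h2 (by rw [← map_mul, neg_mul_neg, one_mul, map_one])).resolve_left fun e => ?_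
    have := congrArg (fun g : S2 => (g : M2) 0 0) (hinj (e.trans (map_one f).symm))
    simp at this
    exact h2 (by linear_combination -this)
  have hX2 : X * X = -1 := by rw [hX, ← map_mul, hw2', hneg]
  set a := (X : M2) 0 0
  set b := (X : M2) 0 1
  set c := (X : M2) 1 0
  set e := (X : M2) 1 1
  obtain ⟨iX0, iX1, iX2, iX3⟩ := Linear.SL_inv_entries X
  obtain ⟨u0, u1, u2, u3⟩ := up_entries h
  have hc : c ≠ 0 := by
    intro hc
    have hdet : a * e = 1 := by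
      have := Linear.SL_det_two X
      rwa [show (X : M2) 1 0 = 0 from hc, mul_zero, sub_zero] at this
    have hXu : X * up h * X⁻¹ ∈ Linear.unitriSL 2 F := by
      refine Linear.unitriSL_two_eq.mpr ⟨?_, ?_, ?_⟩ <;>
        simp [Linear.SL_mul_entries, u0, u1, u2, u3, iX0, iX1, iX2, iX3, show (X : M2) 1 0 = 0 from hc] <;>
        linear_combination hdet
    have hcm : X * up h * X⁻¹ * up h = up h * (X * up h * X⁻¹) := by
      rw [eq_up hXu, up_mul, up_mul, add_comm]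
    rw [← hfu, hX, ← map_inv, ← map_mul, ← map_mul, ← map_mul, ← map_mul] at hcm
    obtain ⟨v0, v1, v2, v3⟩ := up_entries (1 : F)
    have := congrArg (fun g : S2 => (g : M2) 0 0) (hinj hcm)
    simp [Linear.SL_mul_entries, v0, v1, v2, v3, iw0, iw1, iw2, iw3, hw0, hw1, hw2, hw3] at this
  have hq1 := congrArg (fun g : S2 => (g : M2) 1 0) hX2
  have hq0 := congrArg (fun g : S2 => (g : M2) 0 0) hX2
  simp [Linear.SL_mul_entries] at hq1 hq0
  have he : e = -a := by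
    have : c * (a + e) = 0 := by linear_combination hq1
    linear_combination (mul_eq_zero.mp this).resolve_left hc
  -- the braid relation
  obtain ⟨v0, v1, v2, v3⟩ := up_entries (1 : F)
  have hbr : up 1 * w * (up 1 * w) * (up 1 * w) = (-1 : S2) := by
    refine Linear.SL_ext_two ?_ ?_ ?_ ?_ <;>
      simp [Linear.SL_mul_entries, v0, v1, v2, v3, hw0, hw1, hw2, hw3]
  have hbr' := congrArg f hbr
  simp only [map_mul, hfu, hneg, ← hX] at hbr'
  have e10 := congrArg (fun g : S2 => (g : M2) 1 0) hbr'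
  have e11 := congrArg (fun g : S2 => (g : M2) 1 1) hbr'
  simp [Linear.SL_mul_entries, u0, u1, u2, u3] at e10 e11
  change _ = (0 : F) at e10
  set t := a + h * c + e
  have ht : t = h * c := by simp only [t, he]; ring
  have hbc : a * a + b * c = -1 := hq0
  have h10 : c * ((h * c) ^ 2 - 1) = 0 := by
    rw [show (X : M2) 1 1 = -a from he] at e10
    linear_combination e10 - c * hbc
  have ht2 : (h * c) ^ 2 = 1 := sub_eq_zero.mp ((mul_eq_zero.mp h10).resolve_left hc)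
  have hhc : h * c = 1 := by
    rw [show (X : M2) 1 1 = -a from he] at e11
    linear_combination -e11 - a * ht2 + (-a + h * c) * hbc
  have hh0 : h ≠ 0 := left_ne_zero_of_mul_eq_one hhc
  -- the diagonal element as a word
  obtain ⟨p0, p1, p2, p3⟩ := up_entries (2 : F)
  obtain ⟨q0, q1, q2, q3⟩ := up_entries (k : F)
  have hword : d = up 2 * w * up (k : F) * w⁻¹ * up 2 * w := by
    have hd3 : (d : M2) 1 1 = k := by
      have := Linear.SL_det_two d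
      rw [hd0, hd1, mul_zero, sub_zero] at this
      exact mul_left_cancel₀ h2 (this.trans hk.symm)
    refine Linear.SL_ext_two ?_ ?_ ?_ ?_ <;>
      simp [Linear.SL_mul_entries, p0, p1, p2, p3, q0, q1, q2, q3, hw0, hw1, hw2, hw3, iw0, iw1, iw2, iw3,
        hd0, hd1, hd2, hd3] <;>
      first
        | linear_combination hk
        | linear_combination -hk
        | (left; linear_combination hk)
        | (left; linear_combination -hk)
  have hf2 : f (up 2) = up (2 * h) := by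
    have := hupn 2
    rwa [Nat.cast_two] at this
  rw [hword, map_mul, map_mul, map_mul, map_mul, map_mul, map_inv, hf2, hupn k, ← hX]
  obtain ⟨r0, r1, r2, r3⟩ := up_entries ((2 : F) * h)
  obtain ⟨s0, s1, s2, s3⟩ := up_entries ((k : F) * h)
  simp [Linear.SL_mul_entries, r0, r1, r2, r3, s0, s1, s2, s3, iX0, iX1, iX2, iX3]
  have hcv : c = h⁻¹ := eq_inv_of_mul_eq_one_right hhc
  have hbv : b = -(1 + a * a) * h := by
    have : b * c * h = b := by rw [mul_assoc, mul_comm c h, hhc, mul_one]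
    linear_combination h * hbc - this
  have hkv : (k : F) = 2⁻¹ := eq_inv_of_mul_eq_one_right hk
  rw [show (X : M2) 0 1 = b from rfl, show (X : M2) 0 0 = a from rfl, show (X : M2) 1 0 = c from rfl,
    show (X : M2) 1 1 = e from rfl, he, hcv, hbv, hkv]
  field_simp
  ring

namespace Case2

variable {P : PU S F} (C : Case2 P)
include C

theorem engel_mul_Qa {a w k : G} (ha : a ∈ C.A) (hw : w ∈ C.W) (hk : k ∈ C.Qa) :
    ⁅⁅a, w * k⁆, a⁆ = ⁅⁅a, w⁆, a⁆ := by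
  have hm := C.Qa_A k hk a ha
  have haS := C.A_le ha
  have hwS := C.mem_sylow_W hw
  have e : ⁅a, w * k⁆ = ⁅a, w⁆ * ⁅a, k⁆ := by
    calc ⁅a, w * k⁆ = ⁅a, w⁆ * (w * ⁅a, k⁆ * w⁻¹) := by simp only [commutatorElement_def]; group
      _ = _ := by rw [C.L_comm hm hwS, mul_inv_cancel_right]
  rw [e]
  calc ⁅⁅a, w⁆ * ⁅a, k⁆, a⁆ = ⁅a, w⁆ * (⁅a, k⁆ * a) * ⁅a, k⁆⁻¹ * ⁅a, w⁆⁻¹ * a⁻¹ := by
        simp only [commutatorElement_def]; group
    _ = ⁅a, w⁆ * (a * ⁅a, k⁆) * ⁅a, k⁆⁻¹ * ⁅a, w⁆⁻¹ * a⁻¹ := by rw [C.L_comm hm haS]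
    _ = _ := by simp only [commutatorElement_def]; group

theorem engel_sq_right {a w : G} (ha : a ∈ C.A) (hw : w ∈ C.W) :
    ⁅⁅a, w * w⁆, a⁆ = ⁅⁅a, w⁆, a⁆ * ⁅⁅a, w⁆, a⁆ := by
  set d := ⁅a, w⁆ with hd
  have hdW : d ∈ C.W := C.comm_W hw
  have hδ : ⁅w, d⁆ ∈ C.D := C.QW w (C.W_le hw) d hdW
  have hδc := mem_center_iff.mp (C.D_central hδ)
  have e : ⁅a, w * w⁆ = ⁅w, d⁆ * (d * d) := by
    calc ⁅a, w * w⁆ = d * (⁅w, d⁆ * d) := by rw [hd]; simp only [commutatorElement_def]; group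
      _ = _ := by rw [← mul_assoc, hδc d, mul_assoc]
  have hl := C.engel_mem_L ha hw
  calc ⁅⁅a, w * w⁆, a⁆ = ⁅w, d⁆ * (d * d * a * (d * d)⁻¹) * ⁅w, d⁆⁻¹ * a⁻¹ := by
        rw [e]; simp only [commutatorElement_def]; group
    _ = (d * d * a * (d * d)⁻¹) * ⁅w, d⁆ * ⁅w, d⁆⁻¹ * a⁻¹ := by rw [← hδc]
    _ = d * ⁅d, a⁆ * d⁻¹ * ⁅d, a⁆ := by simp only [commutatorElement_def]; group
    _ = _ := by rw [C.L_comm hl (C.mem_sylow_W hdW), mul_inv_cancel_right]

theorem engel_sq_left {a w : G} (ha : a ∈ C.A) (hw : w ∈ C.W) :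
    ⁅⁅a * a, w⁆, a * a⁆ = (⁅⁅a, w⁆, a⁆ * ⁅⁅a, w⁆, a⁆) * (⁅⁅a, w⁆, a⁆ * ⁅⁅a, w⁆, a⁆) := by
  set d := ⁅a, w⁆ with hd
  set l := ⁅d, a⁆ with hl
  have hlL : l ∈ P.L := C.engel_mem_L ha hw
  have haS := C.A_le ha
  have hdS := C.mem_sylow_W (C.comm_W (a := a) hw)
  have hla := C.L_comm hlL haS
  have hld := C.L_comm hlL hdS
  have e1 : ⁅d, a * a⁆ = l * l := by
    calc ⁅d, a * a⁆ = l * (a * l * a⁻¹) := by rw [hl]; simp only [commutatorElement_def]; group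
      _ = _ := by rw [hla, mul_inv_cancel_right]
  have e2 : ⁅a * a, w⁆ = l⁻¹ * (d * d) := by
    calc ⁅a * a, w⁆ = a * d * a⁻¹ * d := by rw [hd]; simp only [commutatorElement_def]; group
      _ = _ := by rw [hl]; simp only [commutatorElement_def]; group
  have hli := C.L_comm (inv_mem hlL) (mul_mem (mul_mem hdS hdS) (mul_mem haS haS))
  have hcc := C.L_comm (inv_mem hlL) (mul_mem hdS hdS)
  rw [e2]
  calc ⁅l⁻¹ * (d * d), a * a⁆ = l⁻¹ * (d * d * (a * a)) * (d * d)⁻¹ * l * (a * a)⁻¹ := by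
        simp only [commutatorElement_def]; group
    _ = d * d * (a * a) * l⁻¹ * (d * d)⁻¹ * l * (a * a)⁻¹ := by rw [hli]
    _ = d * d * (a * a) * (l⁻¹ * (d * d)⁻¹) * l * (a * a)⁻¹ := by group
    _ = d * d * (a * a) * ((d * d)⁻¹ * l⁻¹) * l * (a * a)⁻¹ := by
        rw [C.L_comm (inv_mem hlL) (inv_mem (mul_mem hdS hdS))]
    _ = d * ⁅d, a * a⁆ * d⁻¹ * ⁅d, a * a⁆ := by simp only [commutatorElement_def]; group
    _ = _ := by rw [e1, C.L_comm (mul_mem hlL hlL) hdS, mul_inv_cancel_right]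

theorem engel_mul_Q {a w q : G} (ha : a ∈ C.A) (hw : w ∈ C.W) (hq : q ∈ Cfsg.pCore p G) :
    ∃ δ ∈ C.D, ⁅⁅a * q, w⁆, a * q⁆ = ⁅⁅a, w⁆, a⁆ * δ := by
  set d := ⁅a, w⁆ with hd
  have h1 : ⁅q, w⁆ ∈ C.D := C.QW q hq w hw
  have hc1 := mem_center_iff.mp (C.D_central h1)
  have h2 : ⁅d, q⁆ ∈ C.D := by
    rw [← commutatorElement_inv]
    exact inv_mem (C.QW q hq d (C.comm_W hw))
  have hc2 := mem_center_iff.mp (C.D_central h2)
  refine ⟨⁅d, q⁆, h2, ?_⟩
  have e : ⁅a * q, w⁆ = ⁅q, w⁆ * d := by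
    calc ⁅a * q, w⁆ = a * ⁅q, w⁆ * a⁻¹ * d := by rw [hd]; simp only [commutatorElement_def]; group
      _ = _ := by rw [hc1, mul_inv_cancel_right]
  rw [e]
  calc ⁅⁅q, w⁆ * d, a * q⁆ = ⁅q, w⁆ * (d * (a * q) * d⁻¹) * ⁅q, w⁆⁻¹ * (a * q)⁻¹ := by
        simp only [commutatorElement_def]; group
    _ = (d * (a * q) * d⁻¹) * ⁅q, w⁆ * ⁅q, w⁆⁻¹ * (a * q)⁻¹ := by rw [← hc1]
    _ = ⁅d, a⁆ * (a * ⁅d, q⁆ * a⁻¹) := by simp only [commutatorElement_def]; group
    _ = _ := by rw [hc2, mul_inv_cancel_right]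

theorem ker_e_eq : C.wL.e.ker = P.vL.e.ker := by
  have hW : Cfsg.pCore p G ≤ C.wL.e.ker := fun x hx => (C.wL.ker_S x (pCore_le_sylow S hx)).mpr hx
  have hV : P.vL.e.ker = Cfsg.pCore p G := le_antisymm C.ker_le
    fun x hx => (P.vL.ker_S x (pCore_le_sylow S hx)).mpr hx
  refine (eq_of_le_of_card_ge (hV.trans_le hW) ?_).symm
  have h1 := C.wL.e.ker.card_mul_index
  have h2 := P.vL.e.ker.card_mul_index
  rw [index_ker, MonoidHom.range_eq_top.mpr C.wL.surj] at h1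
  rw [index_ker, MonoidHom.range_eq_top.mpr P.vL.surj] at h2
  exact (Nat.eq_of_mul_eq_mul_right Nat.card_pos (h1.trans h2.symm)).le

theorem p_eq_three : p = 3 := by
  have hp2 := C.p_ne_two
  have h2 := P.two_ne_zero hp2
  haveI := P.R.char
  haveI := C.W_normal
  obtain ⟨a, ha, w, hw, hne⟩ := C.exists_engel
  obtain ⟨k, hk⟩ : ∃ k : ℕ, (2 : F) * k = 1 := by
    obtain ⟨m, hm⟩ := (Fact.out : p.Prime).odd_of_ne_two hp2
    refine ⟨m + 1, ?_⟩
    have h0 : ((2 * m + 1 : ℕ) : F) = 0 := by rw [← hm]; exact CharP.cast_eq_zero F p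
    push_cast at h0 ⊢
    linear_combination h0
  let dg : S2 := ⟨!![2, 0; 0, (k : F)], by simp [Matrix.det_fin_two_of, hk]⟩
  have hdg : (dg : M2) 0 0 = 2 ∧ (dg : M2) 0 1 = 0 ∧ (dg : M2) 1 0 = 0 ∧ (dg : M2) 1 1 = k := ⟨rfl, rfl, rfl, rfl⟩
  obtain ⟨hd0, hd1, hd2, hd3⟩ := hdg
  obtain ⟨g, hg⟩ := C.wL.surj dg
  clear_value dg
  -- the two natural representations agree on the prime field
  let φ : S2 →* S2 := ((QuotientGroup.quotientKerEquivOfSurjective C.wL.e C.wL.surj).symm.trans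
    ((QuotientGroup.quotientMulEquivOfEq C.ker_e_eq).trans
      (QuotientGroup.quotientKerEquivOfSurjective P.vL.e P.vL.surj))).toMonoidHom
  have hφ : ∀ x, φ (C.wL.e x) = P.vL.e x := fun x => by
    have e : (QuotientGroup.quotientKerEquivOfSurjective C.wL.e C.wL.surj).symm (C.wL.e x) = QuotientGroup.mk x :=
      (MulEquiv.symm_apply_eq _).mpr rfl
    show (QuotientGroup.quotientKerEquivOfSurjective P.vL.e P.vL.surj) ((QuotientGroup.quotientMulEquivOfEq C.ker_e_eq)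
      ((QuotientGroup.quotientKerEquivOfSurjective C.wL.e C.wL.surj).symm (C.wL.e x))) = _
    rw [e]; rfl
  have hV00 : ((P.vL.e g : S2) : M2) 0 0 = 2 := by
    rw [← hφ g, hg]
    refine map_diag_two (f := φ) (MulEquiv.injective _) (fun u hu => ?_) h2 hk hd0 hd2 hd1
    obtain ⟨s, hs, rfl⟩ := C.wL.surj_S u hu
    rw [hφ]; exact P.vL.mem_unitri s hs
  -- the conjugates
  set x := ⁅⁅a, w⁆, a⁆ with hx
  have hxL : x ∈ P.L := C.engel_mem_L ha hw
  obtain ⟨hxV, hx1⟩ := P.mem_Z.mp (P.L_le_Z hxL)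
  have hx0 : P.vL.ψ x 0 ≠ 0 := by
    intro h
    refine hne ?_
    have hx0 : P.vL.ψ x = 0 := funext fun i => by fin_cases i <;> assumption
    have hxc : x ∈ center G := mem_center_iff.mpr fun y =>
      commutatorElement_eq_one_iff_mul_comm.mp (mem_bot.mp ((P.vL.ψ_zero x hxV).mp hx0 y))
    have : x ∈ P.L ⊓ center G := ⟨hxL, hxc⟩
    rw [P.L_inf_center hp2, mem_bot] at this
    rw [this]; exact one_mem _
  set w' := g * w * g⁻¹ with hw'
  have hw'W : w' ∈ C.W := C.W_normal.conj_mem w hw g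
  set a' := g * a * g⁻¹ with ha'
  set k₁ := (w' * w')⁻¹ * w with hk₁
  have hk₁W : k₁ ∈ C.W := mul_mem (inv_mem (mul_mem hw'W hw'W)) hw
  have hk₁Q : k₁ ∈ C.Qa := by
    refine C.mem_Qa_of_line hk₁W ?_
    have h1 : C.wL.ψ w' 1 = (k : F) * C.wL.ψ w 1 := by
      rw [hw', C.wL.equiv g w (mem_sup_right hw), hg]
      simp [Matrix.mulVec, dotProduct, Fin.sum_univ_two, hd2, hd3]
    rw [hk₁, C.wL.ψ_mul _ (mem_sup_right (inv_mem (mul_mem hw'W hw'W))) _ (mem_sup_right hw),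
      C.wL.ψ_inv (mem_sup_right (mul_mem hw'W hw'W)), C.wL.ψ_mul _ (mem_sup_right hw'W) _ (mem_sup_right hw'W)]
    simp only [Pi.add_apply, Pi.neg_apply, h1]
    linear_combination -(C.wL.ψ w 1) * hk
  set q := (a * a * (a * a))⁻¹ * a' with hq
  have hqQ : q ∈ Cfsg.pCore p G := by
    have hker : C.wL.e q = 1 := by
      rw [hq, ha']
      simp only [map_mul, map_inv, hg]
      rw [inv_mul_eq_one, eq_up (C.wL.mem_unitri a (C.A_le ha)), up_mul, up_mul]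
      set y := (C.wL.e a : M2) 0 1
      obtain ⟨u0, u1, u2, u3⟩ := up_entries y
      obtain ⟨v0, v1, v2, v3⟩ := up_entries (y + y + (y + y))
      obtain ⟨i0, i1, i2, i3⟩ := Linear.SL_inv_entries dg
      refine Linear.SL_ext_two ?_ ?_ ?_ ?_ <;>
        simp [Linear.SL_mul_entries, u0, u1, u2, u3, v0, v1, v2, v3, i0, i1, i2, i3, hd0, hd1, hd2, hd3] <;>
        first
          | linear_combination hk
          | linear_combination -hk
          | linear_combination (4 * y) * hk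
          | linear_combination -(4 * y) * hk
          | ring1
    exact C.ker_le (C.ker_e_eq.le (MonoidHom.mem_ker.mpr hker))
  have e1 : x = ⁅⁅a, w'⁆, a⁆ * ⁅⁅a, w'⁆, a⁆ := by
    rw [hx, show w = w' * w' * k₁ by rw [hk₁]; group, C.engel_mul_Qa ha (mul_mem hw'W hw'W) hk₁Q,
      C.engel_sq_right ha hw'W]
  obtain ⟨δ, hδ, e2⟩ := C.engel_mul_Q (mul_mem (mul_mem ha ha) (mul_mem ha ha)) hw'W hqQ
  rw [show a * a * (a * a) * q = a' by rw [hq]; group] at e2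
  have e3 : g * x * g⁻¹ = ⁅⁅a', w'⁆, a'⁆ := by
    rw [hx, ha', hw']; simp only [commutatorElement_def]; group
  rw [← e3, C.engel_sq_left (mul_mem ha ha) hw'W, C.engel_sq_left ha hw'W] at e2
  set y := ⁅⁅a, w'⁆, a⁆
  have hyV : y ∈ Vm p G := P.Z_le (P.L_le_Z (C.engel_mem_L ha hw'W))
  have hψ2 : ∀ {z : G}, z ∈ Vm p G → P.vL.ψ (z * z) = P.vL.ψ z + P.vL.ψ z := fun hz => P.vL.ψ_mul _ hz _ hz
  have h1 : P.vL.ψ _ 0 = P.vL.ψ _ 0 := congrArg (fun z => P.vL.ψ z 0) e2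
  have hy2 := mul_mem hyV hyV
  have hy4 := mul_mem hy2 hy2
  have hy8 := mul_mem hy4 hy4
  have hδV : δ ∈ Vm p G := P.Z_le (C.D_le hδ)
  have hδ0 : P.vL.ψ δ = 0 := (P.vL.ψ_zero δ hδV).mpr fun z =>
    mem_bot.mpr (commutatorElement_eq_one_iff_mul_comm.mpr (mem_center_iff.mp (C.D_central hδ) z))
  rw [P.vL.equiv g x hxV, P.vL.ψ_mul _ (mul_mem hy8 hy8) _ hδV, hδ0, add_zero, hψ2 hy8, hψ2 hy4, hψ2 hy2,
    hψ2 hyV] at h1
  simp [Matrix.mulVec, dotProduct, Fin.sum_univ_two, hx1, hV00] at h1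
  rw [e1, hψ2 hyV, Pi.add_apply] at h1 hx0
  have hy0 : P.vL.ψ y 0 ≠ 0 := fun h => hx0 (by rw [h, add_zero])
  have h3 : ((12 : ℕ) : F) = 0 := by
    have : ((12 : ℕ) : F) * P.vL.ψ y 0 = 0 := by push_cast; linear_combination -h1
    exact (mul_eq_zero.mp this).resolve_right hy0
  have hdvd : p ∣ 2 * (2 * 3) := (CharP.cast_eq_zero_iff F p 12).mp h3
  have hpp : p.Prime := Fact.out
  rcases hpp.dvd_mul.mp hdvd with h | h
  · exact absurd ((Nat.prime_dvd_prime_iff_eq hpp Nat.prime_two).mp h) hp2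
  rcases hpp.dvd_mul.mp h with h | h
  · exact absurd ((Nat.prime_dvd_prime_iff_eq hpp Nat.prime_two).mp h) hp2
  exact (Nat.prime_dvd_prime_iff_eq hpp Nat.prime_three).mp h

end Case2

end Cfsg.Agent.H31.PushUp
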