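import Cfsg.Agent.H31.PushUp.Common

/-!
# Critical distance one: class two
-/

set_option autoImplicit false
set_option linter.unusedSectionVars false
set_option maxHeartbeats 800000

namespace Cfsg.Agent.H31.PushUp

open Subgroup Cfsg.Agent Cfsg.Agent.Cores Cfsg.Agent.H60
open scoped Pointwise commutatorElement

variable {F : Type} [Field F] [Fintype F] {p : ℕ} [Fact p.Prime]
variable {G : Type*} [Group G] [Finite G] {S : Sylow p G}

theorem mul_pow_class_two {a b l : G} (h : b * a = l * a * b) (ha : l * a = a * l) (hb : l * b = b * l) (n : ℕ) :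
    (a * b) ^ n = a ^ n * b ^ n * l ^ n.choose 2 := by
  have key : ∀ n : ℕ, b ^ n * a = l ^ n * a * b ^ n := fun n => by
    induction n with
    | zero => simp
    | succ n ih =>
      have hc : b * l ^ n = l ^ n * b := ((show Commute b l from hb.symm).pow_right n).eq
      calc b ^ (n + 1) * a = b * (b ^ n * a) := by rw [pow_succ', mul_assoc]
        _ = (b * l ^ n) * a * b ^ n := by rw [ih]; group
        _ = l ^ n * (b * a) * b ^ n := by rw [hc]; group
        _ = l ^ n * l * a * (b * b ^ n) := by rw [h]; group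
        _ = _ := by rw [← pow_succ, ← pow_succ']
  induction n with
  | zero => simp
  | succ n ih =>
    have ca : Commute l a := ha
    have cb : Commute l b := hb
    calc (a * b) ^ (n + 1) = a ^ n * b ^ n * l ^ n.choose 2 * (a * b) := by rw [pow_succ, ih]
      _ = a ^ n * (b ^ n * a) * b * l ^ n.choose 2 := by
          rw [mul_assoc (a ^ n * b ^ n), ((ca.mul_right cb).pow_left _).eq]; group
      _ = a ^ n * a * l ^ n * (b ^ n * b) * l ^ n.choose 2 := by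
          rw [key, (ca.pow_left n).eq]; group
      _ = a ^ (n + 1) * b ^ (n + 1) * (l ^ n * l ^ n.choose 2) := by
          rw [mul_assoc (a ^ n * a), ((cb.pow_left n).pow_right n |>.mul_right (cb.pow_left n)).eq, ← pow_succ,
            ← pow_succ]
          group
      _ = _ := by rw [← pow_add, Nat.choose_succ_succ, Nat.choose_one_right]

namespace Case1

variable {P : PU S F} (C : Case1 P)
include C

theorem exists_core : ∃ C1 : Subgroup G, C1 ≤ Cfsg.pCore p G ∧ (∀ c ∈ C1, ∀ a ∈ C.A, c * a = a * c) ∧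
    C1 ⊔ Vm p G = Cfsg.pCore p G := by
  obtain ⟨g, hg⟩ := P.R.exists_not_mem
  set q := Fintype.card F with hq
  set Cc := Cfsg.pCore p G ⊓ C.Qa with hCc
  set C1 := Cc ⊓ cj Cc g with hC1
  have hCcQ : Cc ≤ Cfsg.pCore p G := inf_le_left
  have hcjQ : cj Cc g ≤ Cfsg.pCore p G := (cj_mono hCcQ g).trans (le_of_eq (cj_normal g))
  refine ⟨C1, inf_le_left.trans hCcQ, fun c hc a ha => C.Qa_comm c hc.1.2 a ha, ?_⟩
  have hQpos : 0 < Nat.card (Cfsg.pCore p G) := Nat.card_pos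
  have h1 : Nat.card (Cfsg.pCore p G) ≤ q * Nat.card Cc := by
    have h := H31.card_mul_card_le (Cfsg.pCore p G) C.Qa
    have h' : Nat.card ↥(Cfsg.pCore p G ⊔ C.Qa) ≤ Nat.card S :=
      Subgroup.card_le_of_le (sup_le (pCore_le_sylow S) C.Qa_le)
    rw [C.Qa_card] at h
    rw [P.R.card_sylow] at h'
    refine Nat.le_of_mul_le_mul_left ?_ hQpos
    calc _ ≤ _ := h
      _ ≤ Nat.card (Cfsg.pCore p G) * q * Nat.card Cc := Nat.mul_le_mul_right _ h'
      _ = _ := by ring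
  have h2 : Nat.card (Cfsg.pCore p G) ≤ q ^ 2 * Nat.card C1 := by
    have h := H31.card_mul_card_le Cc (cj Cc g)
    rw [card_cj] at h
    have h' : Nat.card ↥(Cc ⊔ cj Cc g) ≤ Nat.card (Cfsg.pCore p G) :=
      Subgroup.card_le_of_le (sup_le hCcQ hcjQ)
    refine Nat.le_of_mul_le_mul_left ?_ hQpos
    calc _ ≤ (q * Nat.card Cc) * (q * Nat.card Cc) := Nat.mul_le_mul h1 h1
      _ = q ^ 2 * (Nat.card Cc * Nat.card Cc) := by ring
      _ ≤ q ^ 2 * (Nat.card ↥(Cc ⊔ cj Cc g) * Nat.card C1) := Nat.mul_le_mul_left _ h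
      _ ≤ q ^ 2 * (Nat.card (Cfsg.pCore p G) * Nat.card C1) :=
          Nat.mul_le_mul_left _ (Nat.mul_le_mul_right _ h')
      _ = _ := by ring
  obtain ⟨a, ha, haQ⟩ := SetLike.not_le_iff_exists.mp (not_le_pCore P.R C.A_sup)
  have hZ : ∀ x ∈ Cc, x ∈ Vm p G → x ∈ P.Z := fun x hx hxV =>
    P.fixed_mem_Z (C.A_le ha) haQ hxV (C.Qa_comm x hx.2 a ha).symm
  have h3 : C1 ⊓ Vm p G ≤ P.vL.fix0 := by
    intro v hv
    obtain ⟨⟨hv1, hv2⟩, hvV⟩ := hv
    have hz1 := hZ v hv1 hvV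
    have hv2 : g⁻¹ * v * g ∈ Cc := mem_cj.mp hv2
    have hv' : g⁻¹ * v * g ∈ Vm p G := by
      simpa using (inferInstance : (Vm p G).Normal).conj_mem v hvV g⁻¹
    have hz2 := hZ _ hv2 hv'
    refine ⟨hvV, (P.vL.ψ_zero v hvV).mpr fun h => mem_bot.mpr (commutatorElement_eq_one_iff_mul_comm.mpr ?_)⟩
    have hle : (S : Subgroup G) ⊔ cj (S : Subgroup G) g ≤ centralizer ({v} : Set G) := by
      refine sup_le (fun s hs => mem_centralizer_singleton_iff.mpr (mem_centralizer_iff.mp hz1.2 s hs)) ?_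
      intro s hs
      rw [mem_cj] at hs
      refine mem_centralizer_singleton_iff.mpr ?_
      calc s * v = g * ((g⁻¹ * s * g) * (g⁻¹ * v * g)) * g⁻¹ := by group
        _ = g * ((g⁻¹ * v * g) * (g⁻¹ * s * g)) * g⁻¹ := by rw [mem_centralizer_iff.mp hz2.2 _ hs]
        _ = v * s := by group
    rw [P.R.sup_conj_eq_top hg] at hle
    exact mem_centralizer_singleton_iff.mp (hle (mem_top h))
  refine eq_of_le_of_card_ge (sup_le (inf_le_left.trans hCcQ) (omegaZ_le _)) ?_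
  have h4 := Cores.card_sup_mul_card_inf C1 (Vm p G)
  rw [P.vL.card_fix0] at h4
  refine Nat.le_of_mul_le_mul_right ?_ (Nat.card_pos (α := P.vL.fix0))
  calc Nat.card (Cfsg.pCore p G) * Nat.card P.vL.fix0 ≤ q ^ 2 * Nat.card C1 * Nat.card P.vL.fix0 :=
        Nat.mul_le_mul_right _ h2
    _ = Nat.card C1 * (q ^ 2 * Nat.card P.vL.fix0) := by ring
    _ = _ := h4.symm
    _ ≤ _ := Nat.mul_le_mul_left _ (Subgroup.card_le_of_le h3)

theorem class_two : (S : Subgroup G).lowerCentralSeries 2 = ⊥ ∧ (S : Subgroup G).lowerCentralSeries 1 ≠ ⊥ ∧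
    (p = 2 → Monoid.exponent ↥(S : Subgroup G) = 4) ∧ (p ≠ 2 → Monoid.exponent ↥(S : Subgroup G) = p) := by
  obtain ⟨C1, hC1Q, hC1A, hC1V⟩ := C.exists_core
  set Q := Cfsg.pCore p G with hQdef
  have hC1v : ∀ c ∈ C1, ∀ v ∈ Vm p G, c * v = v * c := fun c hc v hv => omegaZ_comm hv (hC1Q hc)
  have hQdec : ∀ x ∈ Q, ∃ c ∈ C1, ∃ v ∈ Vm p G, x = c * v := fun x hx => by
    obtain ⟨c, hc, v, hv, rfl⟩ := mem_sup_of_normal_right.mp (hC1V.symm ▸ hx : x ∈ C1 ⊔ Vm p G)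
    exact ⟨c, hc, v, hv, rfl⟩
  have hSdec : ∀ s ∈ (S : Subgroup G), ∃ c ∈ C1, ∃ v ∈ Vm p G, ∃ a ∈ C.A, s = c * (v * a) := by
    intro s hs
    obtain ⟨x, hx, a, ha, rfl⟩ := mem_sup_of_normal_left.mp ((sup_comm C.A Q ▸ C.A_sup).symm ▸ hs : s ∈ Q ⊔ C.A)
    obtain ⟨c, hc, v, hv, rfl⟩ := hQdec x hx
    exact ⟨c, hc, v, hv, a, ha, mul_assoc _ _ _⟩
  have hcy : ∀ c ∈ C1, ∀ v ∈ Vm p G, ∀ a ∈ C.A, c * (v * a) = v * a * c := fun c hc v hv a ha => by
    rw [← mul_assoc, hC1v c hc v hv, mul_assoc, hC1A c hc a ha, mul_assoc]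
  have hLc : ∀ l ∈ P.L, ∀ s ∈ (S : Subgroup G), s * l = l * s := fun l hl s hs =>
    mem_centralizer_iff.mp (P.L_le_Z hl).2 s hs
  have hAV : ∀ a ∈ C.A, ∀ v ∈ Vm p G, ⁅a, v⁆ ∈ P.L := fun a ha v hv =>
    commutator_mem_commutator (C.A_le ha) hv
  have hVS : ∀ v ∈ Vm p G, v ∈ (S : Subgroup G) := fun v hv => pCore_le_sylow S (omegaZ_le _ hv)
  have hyy : ∀ v ∈ Vm p G, ∀ a ∈ C.A, ∀ v' ∈ Vm p G, ∀ a' ∈ C.A, ⁅v * a, v' * a'⁆ ∈ P.L := by
    intro v hv a ha v' hv' a' ha'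
    have e1 : ⁅a, v' * a'⁆ = ⁅a, v'⁆ := by
      calc ⁅a, v' * a'⁆ = ⁅a, v'⁆ * (v' * ⁅a, a'⁆ * v'⁻¹) := by simp only [commutatorElement_def]; group
        _ = _ := by
            rw [commutatorElement_eq_one_iff_mul_comm.mpr (elem_comm C.A_elem ha ha'), mul_one, mul_inv_cancel,
              mul_one]
    have e2 : ⁅v, v' * a'⁆ = (⁅a', v⁆)⁻¹ := by
      rw [comm_split (elem_comm (elem_omegaOne_center p _) hv hv'), ← commutatorElement_inv a' v,
        hLc _ (inv_mem (hAV a' ha' v hv)) v' (hVS v' hv'), mul_inv_cancel_right]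
    rw [show ⁅v * a, v' * a'⁆ = v * ⁅a, v' * a'⁆ * v⁻¹ * ⁅v, v' * a'⁆ by simp only [commutatorElement_def]; group,
      e1, e2, hLc _ (hAV a ha v' hv') v (hVS v hv), mul_inv_cancel_right]
    exact mul_mem (hAV a ha v' hv') (inv_mem (hAV a' ha' v hv))
  have hQQ : ⁅Q, Q⁆ ≤ C1 := commutator_le.mpr fun x hx y hy => by
    obtain ⟨c, hc, v, hv, rfl⟩ := hQdec x hx
    obtain ⟨c', hc', v', hv', rfl⟩ := hQdec y hy
    rw [comm_mul_comm (hC1v c hc v' hv') (hC1v c' hc' v hv) (hC1v c hc v hv) (hC1v c' hc' v' hv'),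
      commutatorElement_eq_one_iff_mul_comm.mpr (elem_comm (elem_omegaOne_center p _) hv hv'), mul_one]
    exact mul_mem (mul_mem (mul_mem hc hc') (inv_mem hc)) (inv_mem hc')
  haveI hQQn : (⁅Q, Q⁆).Normal := inferInstance
  have h1 : (S : Subgroup G).lowerCentralSeries 1 ≤ ⁅Q, Q⁆ ⊔ P.L := by
    rw [Subgroup.lowerCentralSeries_succ, Subgroup.lowerCentralSeries_zero]
    refine commutator_le.mpr fun s hs s' hs' => ?_
    obtain ⟨c, hc, v, hv, a, ha, rfl⟩ := hSdec s hs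
    obtain ⟨c', hc', v', hv', a', ha', rfl⟩ := hSdec s' hs'
    rw [comm_mul_comm (hcy c hc v' hv' a' ha') (hcy c' hc' v hv a ha) (hcy c hc v hv a ha)
      (hcy c' hc' v' hv' a' ha')]
    exact mul_mem (mem_sup_left (commutator_mem_commutator (hC1Q hc) (hC1Q hc')))
      (mem_sup_right (hyy v hv a ha v' hv' a' ha'))
  have hQ2 : (S : Subgroup G).lowerCentralSeries 2 = Q.lowerCentralSeries 2 := by
    refine le_antisymm ?_ (lcs_mono (pCore_le_sylow S) 2)
    rw [Subgroup.lowerCentralSeries_succ, Subgroup.lowerCentralSeries_succ Q, Subgroup.lowerCentralSeries_succ Q,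
      Subgroup.lowerCentralSeries_zero]
    refine (commutator_mono h1 le_rfl).trans (commutator_le.mpr fun x hx s hs => ?_)
    obtain ⟨k, hk, l, hl, rfl⟩ := mem_sup_of_normal_left.mp hx
    have hkS := pCore_le_sylow S (hC1Q (hQQ hk))
    have e : ⁅k * l, s⁆ = k * ⁅l, s⁆ * k⁻¹ * ⁅k, s⁆ := by simp only [commutatorElement_def]; group
    rw [e, commutatorElement_eq_one_iff_mul_comm.mpr (hLc l hl s hs).symm, mul_one, mul_inv_cancel, one_mul]
    obtain ⟨c, hc, v, hv, a, ha, rfl⟩ := hSdec s hs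
    have e2 : ⁅k, c * (v * a)⁆ = ⁅k, c⁆ * (c * ⁅k, v * a⁆ * c⁻¹) := by simp only [commutatorElement_def]; group
    rw [e2, commutatorElement_eq_one_iff_mul_comm.mpr (hcy k (hQQ hk) v hv a ha), mul_one, mul_inv_cancel, mul_one]
    exact commutator_mem_commutator hk (hC1Q hc)
  have hγ : (S : Subgroup G).lowerCentralSeries 2 = ⊥ :=
    P.lcs_eq_bot (by rw [hQ2]; exact lcs_normal Q 2)
  have hγ1 : (S : Subgroup G).lowerCentralSeries 1 ≠ ⊥ := fun h => P.L_ne_bot (le_bot_iff.mp (h ▸ P.L_le_lcs))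
  have hpow : ∀ n : ℕ, p ∣ n → p ∣ n.choose 2 → ∀ s ∈ (S : Subgroup G), s ^ n = 1 := by
    intro n hn hn2
    refine P.pow_eq_one n Q (pCore_le_sylow S) fun s hs => ?_
    obtain ⟨c, hc, v, hv, a, ha, rfl⟩ := hSdec s hs
    refine ⟨c, hC1Q hc, ?_⟩
    rw [(show Commute c (v * a) from hcy c hc v hv a ha).mul_pow]
    obtain ⟨m, rfl⟩ := hn
    obtain ⟨m', hm'⟩ := hn2
    have hl : ⁅a, v⁆ ^ p = 1 := omegaZ_pow (P.Z_le (P.L_le_Z (hAV a ha v hv)))
    have e : (v * a) ^ (p * m) = 1 := by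
      rw [mul_pow_class_two (a := v) (b := a) (l := ⁅a, v⁆) (by simp only [commutatorElement_def]; group)
          (hLc _ (hAV a ha v hv) v (hVS v hv)).symm (hLc _ (hAV a ha v hv) a (C.A_le ha)).symm,
        hm', pow_mul, pow_mul, pow_mul, omegaZ_pow hv, C.A_elem.2 a ha, hl, one_pow, one_pow, one_mul, one_mul]
    rw [e, mul_one]
  haveI : Nontrivial ↥(S : Subgroup G) := (nontrivial_iff_ne_bot _).mpr P.sylow_ne_bot
  have hexp : ∀ n : ℕ, p ∣ n → p ∣ n.choose 2 → Monoid.exponent ↥(S : Subgroup G) ∣ n := fun n h h' =>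
    Monoid.exponent_dvd_of_forall_pow_eq_one fun x => Subtype.ext (by
      rw [SubgroupClass.coe_pow]; exact hpow n h h' x x.2)
  have hne1 : Monoid.exponent ↥(S : Subgroup G) ≠ 1 := fun h => by
    haveI := Monoid.exp_eq_one_iff.mp h
    exact false_of_nontrivial_of_subsingleton ↥(S : Subgroup G)
  refine ⟨hγ, hγ1, fun hp => ?_, fun hp => ?_⟩
  · have h4 := hexp 4 (by rw [hp]; decide) (by rw [hp]; decide)
    have hne2 : Monoid.exponent ↥(S : Subgroup G) ≠ 2 := fun h => by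
      refine hγ1 (eq_bot_iff.mpr ?_)
      rw [Subgroup.lowerCentralSeries_succ, Subgroup.lowerCentralSeries_zero]
      refine commutator_le.mpr fun x hx y hy => mem_bot.mpr (commutatorElement_eq_one_iff_mul_comm.mpr ?_)
      have hinv : ∀ z : ↥(S : Subgroup G), z⁻¹ = z := fun z => inv_eq_of_mul_eq_one_right (by
        have := Monoid.pow_exponent_eq_one z
        rwa [h, pow_two] at this)
      have h := hinv ((⟨x, hx⟩ : ↥(S : Subgroup G)) * ⟨y, hy⟩)
      rw [mul_inv_rev, hinv, hinv] at h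
      exact (congrArg Subtype.val h).symm
    have hle := Nat.le_of_dvd (by norm_num) h4
    have hpos := Nat.pos_of_dvd_of_pos h4 (by norm_num)
    interval_cases hM : Monoid.exponent ↥(S : Subgroup G) <;> omega
  · have hpp : p.Prime := Fact.out
    have h := hexp p dvd_rfl (hpp.dvd_choose_self (by norm_num) (lt_of_le_of_ne hpp.two_le (Ne.symm hp)))
    exact ((Nat.dvd_prime hpp).mp h).resolve_left hne1

theorem chief_list : ∃ U W : Subgroup G, W ≤ U ∧ U ≤ Cfsg.pCore p G ∧ Cfsg.IsChiefFactor U W ∧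
    ¬ ⁅U, (⊤ : Subgroup G)⁆ ≤ W ∧ (∃ k : ℕ, Cfsg.iterCommutator W ⊤ k = ⊥) ∧
    (∃ k : ℕ, Cfsg.iterCommutator (Cfsg.pCore p G) ⊤ k ≤ U) := by
  obtain ⟨h1, h2⟩ := P.vL.chief P.not_sylow_le
  refine ⟨Vm p G, P.vL.fix0, P.vL.fix0_le, omegaZ_le _, h1, h2, P.bottom, exists_iter_le ?_⟩
  exact eq_top_of_sylow P.R _ C.A_sup (C.A_Sec.trans le_sup_left) le_sup_right

end Case1

end Cfsg.Agent.H31.PushUp
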