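import Cfsg.Agent.H31.PushUp.Graph

/-!
# The two configurations
-/

set_option autoImplicit false
set_option linter.unusedSectionVars false
set_option maxHeartbeats 800000

namespace Cfsg.Agent.H31.PushUp

open Subgroup Cfsg.Agent Cfsg.Agent.Cores Cfsg.Agent.H60
open scoped Pointwise commutatorElement

universe u

variable {F : Type} [Field F] [Fintype F] {p : ℕ} [Fact p.Prime]
variable {G : Type u} [Group G] [Finite G] {S : Sylow p G}

/-- Critical distance one. -/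
structure Case1 (P : PU S F) where
  A : Subgroup G
  A_le : A ≤ (S : Subgroup G)
  A_sup : A ⊔ Cfsg.pCore p G = (S : Subgroup G)
  A_norm : ∀ s ∈ (S : Subgroup G), ∀ a ∈ A, s * a * s⁻¹ ∈ A
  A_elem : IsElementaryAbelian p A
  A_card : Nat.card A = Nat.card (Vm p G)
  A_inf : A ⊓ Cfsg.pCore p G ≤ P.Z
  Qa : Subgroup G
  Qa_le : Qa ≤ (S : Subgroup G)
  Qa_card : Nat.card Qa = Nat.card (Cfsg.pCore p G)
  Qa_comm : ∀ x ∈ Qa, ∀ a ∈ A, x * a = a * x

/-- Critical distance two. -/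
structure Case2 (P : PU S F) where
  B : Subgroup G
  W : Subgroup G
  A : Subgroup G
  Qa : Subgroup G
  D : Subgroup G
  B_le : B ≤ Cfsg.pCore p G
  B_elem : IsElementaryAbelian p B
  B_W : B ≤ W
  W_normal : W.Normal
  W_le : W ≤ Cfsg.pCore p G
  S_B : ∀ s ∈ (S : Subgroup G), ∀ b ∈ B, s * b * s⁻¹ ∈ B
  SB_D : ∀ s ∈ (S : Subgroup G), ∀ b ∈ B, ⁅s, b⁆ ∈ D
  nontame : ¬ (Vm p G ⊔ B).Normal
  D_le : D ≤ P.Z
  D_central : D ≤ center G
  QW : ∀ x ∈ Cfsg.pCore p G, ∀ w ∈ W, ⁅x, w⁆ ∈ D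
  W_pow : ∀ w ∈ W, w ^ p ∈ D
  A_le : A ≤ (S : Subgroup G)
  A_sup : A ⊔ Cfsg.pCore p G = (S : Subgroup G)
  A_norm : ∀ s ∈ (S : Subgroup G), ∀ a ∈ A, s * a * s⁻¹ ∈ A
  A_comm : ∀ a ∈ A, ∀ b ∈ A, ⁅a, b⁆ ∈ P.L
  A_pow : ∀ a ∈ A, a ^ p ∈ P.L
  Qa_le : Qa ≤ (S : Subgroup G)
  Qa_card : Nat.card Qa = Nat.card (Cfsg.pCore p G)
  Qa_A : ∀ x ∈ Qa, ∀ a ∈ A, ⁅a, x⁆ ∈ P.L
  V_Qa : Vm p G ≤ Qa
  B_Qa : B ≤ Qa
  Qa_sup : Qa ⊔ W = (S : Subgroup G)
  W_card : Nat.card W ≤ Fintype.card F * Nat.card ↥(W ⊓ Qa)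
  edge : ∀ g : G, g ∉ P.R.M → ∀ b ∈ B, g * b * g⁻¹ ∈ Qa → g * b * g⁻¹ ∈ Vm p G
  V_B : Vm p G ⊓ B ≤ P.Z
  Z_B : P.Z ≤ B
  B_card : Nat.card B = Nat.card (Vm p G)
  pull : ∀ w ∈ (S : Subgroup G), ∃ s ∈ (S : Subgroup G), (s ∈ Cfsg.pCore p G → w ∈ Qa) ∧
    ((∀ a ∈ A, ⁅a, w⁆ ∈ B) → ∀ u ∈ W, ⁅u, s⁆ ∈ Vm p G)
  W_eq : W = normalClosure (B : Set G)
  comm_edge : ∀ g : G, g ∉ P.R.M → ⁅cj B g, B⁆ = D
  φ : G → G
  φ_mem : ∀ x ∈ (S : Subgroup G), φ x ∈ (S : Subgroup G)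
  φ_mul : ∀ x ∈ (S : Subgroup G), ∀ y ∈ (S : Subgroup G), φ (x * y) = φ x * φ y
  φ_surj : ∀ y ∈ (S : Subgroup G), ∃ x ∈ (S : Subgroup G), φ x = y
  φ_W : ∀ x ∈ (S : Subgroup G), (φ x ∈ A ↔ x ∈ W)
  φ_Q : ∀ x ∈ (S : Subgroup G), (φ x ∈ Qa ↔ x ∈ Cfsg.pCore p G)
  φ_V : ∀ x ∈ (S : Subgroup G), (φ x ∈ B ↔ x ∈ Vm p G)
  φ_L : ∀ x ∈ (S : Subgroup G), (φ x ∈ D ↔ x ∈ P.L)
  φ_D : ∀ x ∈ (S : Subgroup G), (φ x ∈ P.L ↔ x ∈ D)
  fix_c : p ≠ 2 → ∀ c ∈ normalizer ((S : Subgroup G) : Set G), cj B c = B ∧ cj Qa c = Qa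

variable {P : PU S F} {X : Type*} [Group X] [Finite X] (E : Amb P X)

namespace Amb

theorem le_S'_comap {H : Subgroup X} (h : H ≤ E.S') :
    H.comap E.ι ≤ (S : Subgroup G) ∧ (H.comap E.ι).map E.ι = H := by
  refine ⟨fun x hx => ?_, map_comap_eq_self (h.trans (map_le_range _ _))⟩
  obtain ⟨s, hs, he⟩ := h hx
  rwa [← E.inj he]

theorem card_comap {H : Subgroup X} (h : H ≤ E.S') : Nat.card (H.comap E.ι) = Nat.card H := by
  conv_rhs => rw [← (E.le_S'_comap h).2]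
  exact Nat.card_congr (equivMapOfInjective _ E.ι E.inj).toEquiv

theorem card_V' : Nat.card E.V' = Nat.card (Vm p G) :=
  (Nat.card_congr (equivMapOfInjective (Vm p G) E.ι E.inj).toEquiv).symm

theorem map_conj_mem {g x : G} {H : Subgroup X} (h : E.ι x ∈ H) (hn : E.ι g ∈ normalizer (H : Set X)) :
    E.ι (g * x * g⁻¹) ∈ H := by
  rw [map_mul, map_mul, map_inv]
  exact (mem_normalizer_iff.mp hn _).mp h

theorem case1 (hb : E.b = 1) : Nonempty (Case1 P) := by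
  obtain ⟨x, hx⟩ := E.exists_crit
  obtain ⟨g, z, hz, rfl⟩ := E.exists_first hx.1
  have hc := (E.crit_ι_mul g).mp hx
  obtain ⟨ν, hν, y, hy, rfl⟩ := hz
  rw [hb, Nat.sub_self] at hy
  obtain ⟨g', rfl⟩ := hy
  have hc' := (E.crit_mul_ι g').mp hc
  have hf : E.First ν := ⟨ν, hν, 1, by rw [hb]; exact E.one_mem_Rd0, (mul_one _).symm⟩
  have hf' : E.First ν⁻¹ := ⟨ν⁻¹, inv_mem hν, 1, by rw [hb]; exact E.one_mem_Rd0, (mul_one _).symm⟩
  have hle := E.first_le hf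
  obtain ⟨hA, hAm⟩ := E.le_S'_comap hle
  have hQS : cj E.Q' ν ≤ E.S' := (cj_mono E.Q'_le_S' ν).trans (le_of_eq (E.cj_S'_N hν))
  refine ⟨⟨(cj E.V' ν).comap E.ι, hA, ?_, ?_, ?_, ?_, ?_, (cj E.Q' ν).comap E.ι,
    (E.le_S'_comap hQS).1, ?_, ?_⟩⟩
  · apply Subgroup.map_injective E.inj
    rw [Subgroup.map_sup, hAm]
    exact E.sup_Q' hf hc'
  · intro s hs a ha
    show E.ι _ ∈ cj E.V' ν
    refine E.map_conj_mem (H := cj E.V' ν) ha ?_
    have h := normalizer_cj (K := E.S') ((map_le_range _ _).trans E.range_le_normalizer_V') ν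
    rw [E.cj_S'_N hν] at h
    exact h (mem_map_of_mem _ hs)
  · rw [← elem_map_iff E.inj, hAm]
    exact (elem_map_iff (MulAut.conj ν).injective).mpr ((elem_map_iff E.inj).mpr (elem_omegaOne_center p _))
  · rw [E.card_comap hle, card_cj, E.card_V']
  · intro a ha
    obtain ⟨haA, haQ⟩ := mem_inf.mp ha
    have h1 : E.ι a ∈ cj E.V' ν ⊓ centralizer (E.V' : Set X) :=
      ⟨haA, E.Q'_comm_V' (mem_map_of_mem _ haQ)⟩
    have h2 : cj E.V' ν ⊓ centralizer (E.V' : Set X) = E.Z' := by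
      rw [← E.cj_Z'_N hν, ← E.inf_centralizer_eq hf' (E.crit_inv hc'), cj_inf, cj_centralizer, cj_cj,
        mul_inv_cancel, cj_one]
    rw [h2] at h1
    obtain ⟨z, hz, he⟩ := h1
    rwa [← E.inj he]
  · rw [E.card_comap hQS, card_cj]
    exact (Nat.card_congr (equivMapOfInjective _ E.ι E.inj).toEquiv).symm
  · intro x hx a ha
    refine E.inj ?_
    rw [map_mul, map_mul]
    have h1 : E.ι x ∈ cj (centralizer (E.V' : Set X)) ν := cj_mono E.Q'_comm_V' ν hx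
    rw [cj_centralizer] at h1
    exact (mem_centralizer_iff.mp h1 _ ha).symm

theorem case2 (hb : E.b = 2) : Nonempty (Case2 P) := by
  obtain ⟨α, hα⟩ := E.exists_nontame
  have hαN := hα.1
  obtain ⟨hfix, -⟩ := E.exists_line hα (k := 1) le_rfl (by omega)
  rw [pow_one] at hfix
  obtain ⟨x0, hx0, hc0⟩ := E.exists_shift hα (k := 1) (by omega)
  rw [hb] at hx0
  cases hx0 with
  | step g hg h => cases h
  | one => ?_
  obtain ⟨x2, hx2, hc2⟩ := E.exists_PW_crit hα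
  rw [hb] at hx2
  cases hx2 with
  | step g₁ hg₁ h => ?_
  cases h with
  | step g hg h => cases h
  | one => ?_
  -- the edge
  have hedge : ∀ g : G, g ∉ P.R.M → E.Crit (α⁻¹ * E.ι g⁻¹ * α) := fun g hg => by
    have := hc0 _ (BW.step (E := E) g hg BW.zero)
    simpa [mul_assoc] using this
  have hR1 : ∀ g : G, E.ι g * α ∈ E.Rd 1 := fun g => E.T_Rd1 ⟨g, 1, α, hαN, by simp⟩
  have hfirst : ∀ g : G, E.First (α⁻¹ * E.ι g * α) := fun g =>
    ⟨α⁻¹, inv_mem hαN, E.ι g * α, by rw [hb]; exact hR1 g, mul_assoc _ _ _⟩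
  have hfirst2 : E.First (α * (E.ι g₁ * α)) := ⟨α, hαN, _, by rw [hb]; exact hR1 g₁, rfl⟩
  -- the groups
  have hBQ : cj E.V' α ≤ E.Q' := E.below (n := 1) (by omega) (E.N_Rd1 hαN)
  have hVQa : E.V' ≤ cj E.Q' α := by
    have := cj_mono (E.below (n := 1) (by omega) (E.N_Rd1 (inv_mem hαN))) α
    rwa [cj_cj, mul_inv_cancel, cj_one] at this
  have hQaS : cj E.Q' α ≤ E.S' := (cj_mono E.Q'_le_S' α).trans (le_of_eq (E.cj_S'_N hαN))
  have hDS : cj E.L' α ≤ E.S' :=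
    (cj_mono (E.L'_le_V'.trans (E.V'_le_Q'.trans E.Q'_le_S')) α).trans (le_of_eq (E.cj_S'_N hαN))
  obtain ⟨hB, hBm⟩ := E.le_S'_comap (hBQ.trans E.Q'_le_S')
  set B := (cj E.V' α).comap E.ι with hBdef
  obtain ⟨hD, hDm⟩ := E.le_S'_comap hDS
  set D := (cj E.L' α).comap E.ι with hDdef
  have hDn : D.Normal := ⟨fun d hd g => E.map_conj_mem (H := cj E.L' α) hd (hfix ⟨g, rfl⟩)⟩
  have hDZ : D ≤ P.Z := fun d hd => by
    have : E.ι d ∈ E.Z' := (by simpa using E.pow_L'_le hα 1 : cj E.L' α ≤ E.Z') hd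
    obtain ⟨z, hz, he⟩ := this
    rwa [← E.inj he]
  have hDc : D ≤ center G :=
    le_center_of_normal P.R D fun d hd s hs => mem_centralizer_iff.mp (hDZ hd).2 s hs
  have hS'V : E.S' ≤ normalizer (cj E.V' α : Set X) := by
    have h := normalizer_cj (K := E.S') ((map_le_range _ _).trans E.range_le_normalizer_V') α
    rwa [E.cj_S'_N hαN] at h
  have hBQ' : B ≤ Cfsg.pCore p G := fun b hb => by
    obtain ⟨q, hq, he⟩ := hBQ hb
    rwa [← E.inj he]
  have hSB : ∀ s ∈ (S : Subgroup G), ∀ b ∈ B, ⁅s, b⁆ ∈ D := by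
    intro s hs b hb
    show E.ι ⁅s, b⁆ ∈ cj E.L' α
    rw [map_commutatorElement]
    have h1 : ⁅E.S', cj E.V' α⁆ ≤ cj E.L' α := by
      rw [← E.cj_S'_N hαN, ← cj_commutator]
      exact cj_mono (E.comm_le_L' le_rfl) α
    exact h1 (commutator_mem_commutator (mem_map_of_mem _ hs) hb)
  set W := normalClosure (B : Set G) with hW
  have hWQ : W ≤ Cfsg.pCore p G := normalClosure_le_normal hBQ'
  have hQW : ∀ x ∈ Cfsg.pCore p G, ∀ w ∈ W, ⁅x, w⁆ ∈ D := by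
    intro x hx w hw
    have hsub : W ≤ (centralizer ((Cfsg.pCore p G).map (QuotientGroup.mk' D) : Set (G ⧸ D))).comap (QuotientGroup.mk' D) := by
      haveI : ((Cfsg.pCore p G).map (QuotientGroup.mk' D)).Normal :=
        Subgroup.Normal.map inferInstance _ (QuotientGroup.mk'_surjective D)
      refine normalClosure_le_normal fun b hb => mem_centralizer_iff.mpr ?_
      rintro _ ⟨y, hy, rfl⟩
      rw [← commutatorElement_eq_one_iff_mul_comm, ← map_commutatorElement]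
      exact (QuotientGroup.eq_one_iff _).mpr (hSB y (pCore_le_sylow S hy) b hb)
    have h := mem_centralizer_iff.mp (hsub hw) _ (mem_map_of_mem _ hx)
    rw [← commutatorElement_eq_one_iff_mul_comm, ← map_commutatorElement] at h
    exact (QuotientGroup.eq_one_iff _).mp h
  have hBe : IsElementaryAbelian p B := by
    rw [← elem_map_iff E.inj, hBm]
    exact (elem_map_iff (MulAut.conj α).injective).mpr ((elem_map_iff E.inj).mpr (elem_omegaOne_center p _))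
  have hWpow : ∀ w ∈ W, w ^ p ∈ D := by
    intro w hw
    have h := (elem_closure (p := p) (s := (QuotientGroup.mk' D) '' Group.conjugatesOfSet (B : Set G)) ?_ ?_).2
      (QuotientGroup.mk' D w) (by
        rw [← MonoidHom.map_closure]
        exact mem_map_of_mem _ hw)
    · rw [← map_pow] at h
      exact (QuotientGroup.eq_one_iff _).mp h
    · rintro _ ⟨a, ha, rfl⟩ _ ⟨b, hb, rfl⟩
      rw [← commutatorElement_eq_one_iff_mul_comm, ← map_commutatorElement]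
      exact (QuotientGroup.eq_one_iff _).mpr
        (hQW a (hWQ (conjugatesOfSet_subset_normalClosure ha)) b (conjugatesOfSet_subset_normalClosure hb))
    · rintro _ ⟨a, ha, rfl⟩
      obtain ⟨b, hb, hc⟩ := Group.mem_conjugatesOfSet_iff.mp ha
      obtain ⟨g, rfl⟩ := isConj_iff.mp hc
      rw [← map_pow, conj_pow, hBe.2 b hb, mul_one, mul_inv_cancel, map_one]
  set W' := W.map E.ι with hW'
  have hW'S : W' ≤ E.S' := map_mono (hWQ.trans (pCore_le_sylow S))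
  have hW'n : E.ι.range ≤ normalizer (W' : Set X) := by
    rintro _ ⟨g, rfl⟩
    rw [← cj_eq_self_iff]
    haveI : W.Normal := normalClosure_normal
    exact E.cj_ι g
  have hAS : cj W' α ≤ E.S' := (cj_mono hW'S α).trans (le_of_eq (E.cj_S'_N hαN))
  obtain ⟨hA, hAm⟩ := E.le_S'_comap hAS
  set A := (cj W' α).comap E.ι with hAdef
  obtain ⟨hQa, hQam⟩ := E.le_S'_comap hQaS
  set Qa := (cj E.Q' α).comap E.ι with hQadef
  have hBW : cj E.V' α ≤ W' := hBm ▸ map_mono subset_normalClosure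
  have hgBW : ∀ g : G, cj (cj E.V' α) (E.ι g) ≤ W' := fun g =>
    (cj_mono hBW _).trans (le_of_eq (cj_eq_self_iff.mpr (hW'n ⟨g, rfl⟩)))
  have hLL : cj (D.map E.ι) α = E.L' := by
    have hfi : E.First (α * (E.ι g₁ * α))⁻¹ := ⟨α⁻¹, inv_mem hαN, (α * E.ι g₁)⁻¹, by
      rw [hb]; exact E.Rd_inv (E.Rd_mul_ι (E.N_Rd1 hαN) g₁), by group⟩
    have h := E.line_eq hc2 hfirst2 hfi
    rw [← cj_cj, ← cj_cj, cj_eq_self_iff.mpr (hfix ⟨g₁, rfl⟩)] at h
    rw [hDm]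
    exact h
  have hcomm : ∀ {U T : Subgroup X}, ⁅U, T⁆ ≤ D.map E.ι → ⁅cj U α, cj T α⁆ ≤ E.L' := fun {U T} h => by
    rw [← cj_commutator, ← hLL]
    exact cj_mono h α
  have hLpull : ∀ {x : G}, E.ι x ∈ E.L' → x ∈ P.L := fun {x} hx => by
    obtain ⟨z, hz, he⟩ := hx
    rwa [← E.inj he]
  have hQW' : ⁅E.Q', W'⁆ ≤ D.map E.ι := by
    rw [Q', hW', ← map_commutator]
    exact map_mono (commutator_le.mpr hQW)
  have hmapN : ∀ {H : Subgroup X}, E.S' ≤ normalizer (H : Set X) →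
      ∀ s ∈ (S : Subgroup G), ∀ a ∈ H.comap E.ι, s * a * s⁻¹ ∈ H.comap E.ι :=
    fun {H} hH s hs a ha => E.map_conj_mem (H := H) ha (hH (mem_map_of_mem _ hs))
  have hZpull : ∀ {x : G}, E.ι x ∈ E.Z' → x ∈ P.Z := fun {x} hx => by
    obtain ⟨z, hz, he⟩ := hx
    rwa [← E.inj he]
  -- the automorphism of the Sylow subgroup
  have hex : ∀ x : G, ∃ y : G, x ∈ (S : Subgroup G) → y ∈ (S : Subgroup G) ∧ E.ι y = α * E.ι x * α⁻¹ := fun x => by
    by_cases hx : x ∈ (S : Subgroup G)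
    · obtain ⟨y, hy, he⟩ : α * E.ι x * α⁻¹ ∈ E.S' := (E.cj_S'_N hαN).le (mem_map_of_mem _ (mem_map_of_mem _ hx))
      exact ⟨y, fun _ => ⟨hy, he⟩⟩
    · exact ⟨x, fun h => absurd h hx⟩
  choose φ hφ using hex
  have hφS : ∀ x ∈ (S : Subgroup G), φ x ∈ (S : Subgroup G) := fun x hx => (hφ x hx).1
  have hφmul : ∀ x ∈ (S : Subgroup G), ∀ y ∈ (S : Subgroup G), φ (x * y) = φ x * φ y := fun x hx y hy =>
    E.inj (by rw [(hφ _ (mul_mem hx hy)).2, map_mul, map_mul, (hφ x hx).2, (hφ y hy).2]; group)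
  have hφsurj : ∀ y ∈ (S : Subgroup G), ∃ x ∈ (S : Subgroup G), φ x = y := fun y hy => by
    obtain ⟨_, ⟨x, hx, rfl⟩, he⟩ := (E.cj_S'_N hαN).ge (mem_map_of_mem _ hy)
    exact ⟨x, hx, E.inj ((hφ x hx).2.trans he)⟩
  have hφiff : ∀ (H K : Subgroup G), K.map E.ι = cj (H.map E.ι) α →
      ∀ x ∈ (S : Subgroup G), (φ x ∈ K ↔ x ∈ H) := by
    intro H K hHK x hx
    rw [← Subgroup.mem_map_iff_mem E.inj, hHK, (hφ x hx).2, mem_cj,
      show α⁻¹ * (α * E.ι x * α⁻¹) * α = E.ι x by group, Subgroup.mem_map_iff_mem E.inj]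
  refine ⟨⟨B, W, A, Qa, D, hBQ', hBe, subset_normalClosure, normalClosure_normal, hWQ, hmapN hS'V, hSB, ?_,
    hDZ, hDc, hQW, hWpow, hA, ?_, ?_, ?_, ?_, hQa, ?_, ?_, ?_, ?_, ?_, ?_, ?_, ?_, ?_, ?_, ?_,
    rfl, ?_, φ, hφS, hφmul, hφsurj, ?_, ?_, ?_, ?_, ?_, ?_⟩⟩
  · intro hn
    refine hα.2 ?_
    rintro _ ⟨g, rfl⟩
    rw [← cj_eq_self_iff]
    have : E.V' ⊔ cj E.V' α = (Vm p G ⊔ B).map E.ι := by rw [Subgroup.map_sup, hBm, V']
    rw [this]
    exact E.cj_ι g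
  · apply Subgroup.map_injective E.inj
    rw [Subgroup.map_sup, hAm]
    refine le_antisymm (sup_le hAS E.Q'_le_S') ?_
    show E.S' ≤ _
    rw [← E.sup_Q' hfirst2 hc2]
    refine sup_le_sup ?_ le_rfl
    rw [← cj_cj, ← cj_cj]
    exact cj_mono (hgBW g₁) α
  · refine hmapN ?_
    have h := normalizer_cj (K := E.S') ((map_le_range _ _).trans hW'n) α
    rwa [E.cj_S'_N hαN] at h
  · intro a ha b hb
    refine hLpull ?_
    rw [map_commutatorElement]
    refine hcomm ?_ (commutator_mem_commutator (show E.ι a ∈ cj W' α from ha) (show E.ι b ∈ cj W' α from hb))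
    rw [hW', ← map_commutator]
    exact map_mono (commutator_le.mpr fun x hx y hy => hQW x (hWQ hx) y hy)
  · intro a ha
    obtain ⟨_, ⟨w, hw, rfl⟩, he⟩ := (show E.ι a ∈ cj W' α from ha)
    refine hLpull ?_
    rw [map_pow, ← he, ← map_pow, ← map_pow, ← hLL]
    exact mem_map_of_mem _ (mem_map_of_mem _ (hWpow w hw))
  · rw [E.card_comap hQaS, card_cj]
    exact (Nat.card_congr (equivMapOfInjective _ E.ι E.inj).toEquiv).symm
  · intro x hx a ha
    refine hLpull ?_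
    rw [map_commutatorElement]
    refine hcomm (U := W') (T := E.Q') ?_ (commutator_mem_commutator ha hx)
    rw [Subgroup.commutator_comm]
    exact hQW'
  · exact fun v hv => hVQa (mem_map_of_mem _ hv)
  · intro b hb
    exact cj_mono E.V'_le_Q' α hb
  · apply Subgroup.map_injective E.inj
    rw [Subgroup.map_sup, hQam]
    refine le_antisymm (sup_le hQaS hW'S) ?_
    show E.S' ≤ _
    obtain ⟨g, hg⟩ := P.R.exists_not_mem
    have hgi : g⁻¹ ∉ P.R.M := fun e => hg (inv_inv g ▸ inv_mem e)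
    have hc := hedge g⁻¹ hgi
    rw [inv_inv] at hc
    have := congrArg (fun H => cj H α) (E.sup_Q' (hfirst g) hc)
    simp only [cj_sup, cj_cj, E.cj_S'_N hαN] at this
    rw [← this]
    refine sup_le ?_ le_sup_left
    rw [show α * (α⁻¹ * E.ι g * α) = E.ι g * α by group, ← cj_cj]
    exact le_sup_of_le_right (hgBW g)
  · have h1 := H31.card_mul_card_le W Qa
    have h2 : Nat.card ↥(W ⊔ Qa) ≤ Nat.card (S : Subgroup G) :=
      Subgroup.card_le_of_le (sup_le (hWQ.trans (pCore_le_sylow S)) hQa)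
    have h3 : Nat.card Qa = Nat.card (Cfsg.pCore p G) := by
      rw [E.card_comap hQaS, card_cj]
      exact (Nat.card_congr (equivMapOfInjective _ E.ι E.inj).toEquiv).symm
    refine Nat.le_of_mul_le_mul_right ?_ (Nat.card_pos (α := Qa))
    refine h1.trans ((Nat.mul_le_mul_right _ h2).trans (le_of_eq ?_))
    rw [show Nat.card (S : Subgroup G) = Nat.card (Cfsg.pCore p G) * Fintype.card F from P.R.card_sylow, h3]
    ring
  · intro g hg b hb hgb
    set d := α⁻¹ * E.ι g⁻¹ * α with hd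
    obtain ⟨_, ⟨v, hv, rfl⟩, he⟩ := (show E.ι b ∈ cj E.V' α from hb)
    have h1 : E.ι v ∈ E.V' ⊓ centralizer (cj E.V' d : Set X) := by
      refine ⟨mem_map_of_mem _ hv, ?_⟩
      have h := (cj_mono E.Q'_comm_V' α) hgb
      rw [cj_centralizer] at h
      have h' : E.ι v ∈ cj (centralizer (cj E.V' α : Set X)) (α⁻¹ * E.ι g⁻¹) := by
        rw [mem_cj]
        have e : (α⁻¹ * E.ι g⁻¹)⁻¹ * E.ι v * (α⁻¹ * E.ι g⁻¹) = E.ι (g * b * g⁻¹) := by
          rw [map_mul, map_mul, ← he]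
          simp [MulAut.conj_apply, mul_assoc]
        rw [e]
        exact h
      rwa [cj_centralizer, cj_cj] at h'
    rw [E.inf_centralizer_eq (hfirst g⁻¹) (hedge g hg)] at h1
    have h2 : E.ι (g * b * g⁻¹) ∈ E.V' := by
      rw [← E.cj_V'_ι g, map_mul, map_mul, map_inv, ← he]
      refine mem_map_of_mem _ (E.Z'_le_V' ?_)
      rw [← E.cj_Z'_N hαN]
      exact mem_map_of_mem _ h1
    obtain ⟨v', hv', he'⟩ := h2
    rwa [← E.inj he']
  · intro v hv
    obtain ⟨hvV, hvB⟩ := mem_inf.mp hv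
    refine hZpull ?_
    rw [← E.inf_centralizer_eq hfirst2 hc2]
    refine ⟨mem_map_of_mem _ hvV, ?_⟩
    have hle : cj E.V' (α * (E.ι g₁ * α)) ≤ cj E.Q' α :=
      E.below' (n := 1) (by omega) (by rw [inv_mul_cancel_left]; exact hR1 g₁)
    have hh := hle.trans (cj_mono E.Q'_comm_V' α)
    rw [cj_centralizer] at hh
    exact (le_centralizer_iff.mp hh) hvB
  · intro z hz
    have : E.ι z ∈ cj E.Z' α := by rw [E.cj_Z'_N hαN]; exact mem_map_of_mem _ hz
    exact cj_mono E.Z'_le_V' α this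
  · rw [E.card_comap (hBQ.trans E.Q'_le_S'), card_cj, E.card_V']
  · intro w hw
    obtain ⟨s, hs, he⟩ : E.ι w ∈ cj E.S' α := by rw [E.cj_S'_N hαN]; exact mem_map_of_mem _ hw
    obtain ⟨s, hs', rfl⟩ := hs
    refine ⟨s, hs', fun hsQ => ?_, fun hA u hu => ?_⟩
    · show E.ι w ∈ cj E.Q' α
      rw [← he]
      exact mem_map_of_mem _ (mem_map_of_mem _ hsQ)
    · have hua : α * E.ι u * α⁻¹ ∈ cj W' α := mem_map_of_mem _ (mem_map_of_mem _ hu)
      obtain ⟨a, ha⟩ := map_le_range (f := E.ι) (H := (S : Subgroup G)) (hAS hua)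
      have h := hA a (show E.ι a ∈ cj W' α by rw [ha]; exact hua)
      have h2 : E.ι ⁅a, w⁆ ∈ cj E.V' α := h
      have e : E.ι ⁅a, w⁆ = α * E.ι ⁅u, s⁆ * α⁻¹ := by
        rw [map_commutatorElement, ha, ← he, map_commutatorElement]
        simp only [MulEquiv.coe_toMonoidHom, MulAut.conj_apply, commutatorElement_def]
        group
      rw [e, mem_cj, show α⁻¹ * (α * E.ι ⁅u, s⁆ * α⁻¹) * α = E.ι ⁅u, s⁆ by group] at h2
      obtain ⟨v, hv, hev⟩ := h2
      rwa [← E.inj hev]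
  · intro g hg
    apply Subgroup.map_injective E.inj
    rw [map_commutator, map_cj, hBm, hDm]
    have hgi : g⁻¹ ∉ P.R.M := fun e => hg (inv_inv g ▸ inv_mem e)
    have hc := hedge g⁻¹ hgi
    rw [inv_inv] at hc
    have h := congrArg (fun H => cj H α) (E.commutator_first (hfirst g) hc)
    simp only [cj_commutator, cj_cj] at h
    rw [show α * (α⁻¹ * E.ι g * α) = E.ι g * α by group] at h
    rw [cj_cj]
    exact h
  · exact hφiff W A hAm
  · exact hφiff (Cfsg.pCore p G) Qa hQam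
  · exact hφiff (Vm p G) B hBm
  · exact hφiff P.L D hDm
  · exact hφiff D P.L hLL.symm
  · intro hp c hc
    have hcN : E.ι c ∈ E.N := (le_normalizer_map E.ι) (mem_map_of_mem _ hc)
    set δ := α⁻¹ * E.ι c * α with hδ
    have hδN : δ ∈ E.N := mul_mem (mul_mem (inv_mem hαN) hcN) hαN
    have hδL : cj E.L' δ = E.L' := by
      rw [hδ, mul_assoc, ← cj_cj, ← cj_cj, cj_eq_self_iff.mpr (hfix ⟨c, rfl⟩), cj_cj, inv_mul_cancel, cj_one]
    have htame : E.ι.range ≤ normalizer ((E.V' ⊔ cj E.V' δ : Subgroup X) : Set X) := by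
      by_contra hnt
      obtain ⟨hfix', -⟩ := E.exists_line (α := δ) ⟨hδN, hnt⟩ (k := 1) le_rfl (by omega)
      rw [pow_one, hδL] at hfix'
      refine P.L_not_central ?_
      have hn : P.L.Normal := ⟨fun v hv g => by
        obtain ⟨v', hv', he⟩ := E.map_conj_mem (H := E.L') (mem_map_of_mem _ hv) (hfix' ⟨g, rfl⟩)
        rwa [← E.inj he]⟩
      exact le_center_of_normal P.R P.L fun v hv s hs => mem_centralizer_iff.mp (P.L_le_Z hv).2 s hs
    have hVδ : cj E.V' δ ≤ E.S' :=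
      (cj_mono (E.V'_le_Q'.trans E.Q'_le_S') δ).trans (le_of_eq (E.cj_S'_N hδN))
    obtain ⟨hT, hTm⟩ := E.le_S'_comap hVδ
    set T := (cj E.V' δ).comap E.ι with hTdef
    have hTQ : ∀ t ∈ T, ∀ x ∈ Cfsg.pCore p G, ⁅t, x⁆ ∈ P.L := by
      intro t ht x hx
      have h1 : ⁅cj E.V' δ, E.Q'⁆ ≤ E.L' := by
        have e : cj (cj E.Q' δ⁻¹) δ = E.Q' := by rw [cj_cj, mul_inv_cancel, cj_one]
        rw [← e, ← cj_commutator, Subgroup.commutator_comm]
        refine (cj_mono (E.comm_le_L' ?_) δ).trans (le_of_eq hδL)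
        exact (cj_mono E.Q'_le_S' _).trans (le_of_eq (E.cj_S'_N (inv_mem hδN)))
      have h2 := h1 (commutator_mem_commutator (show E.ι t ∈ cj E.V' δ from ht) (mem_map_of_mem E.ι hx))
      rw [← map_commutatorElement] at h2
      obtain ⟨l, hl, he⟩ := h2
      rwa [← E.inj he]
    have hH : (Vm p G ⊔ T).Normal := by
      rw [← normalizer_eq_top_iff, eq_top_iff]
      intro g _
      rw [← cj_eq_self_iff]
      apply Subgroup.map_injective E.inj
      rw [map_cj, Subgroup.map_sup, hTm]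
      exact cj_eq_self_iff.mpr (htame ⟨g, rfl⟩)
    have hHL : ⁅Vm p G ⊔ T, Cfsg.pCore p G⁆ ≤ P.L := by
      refine commutator_le.mpr fun h hh x hx => ?_
      obtain ⟨v, hv, t, ht, rfl⟩ := mem_sup_of_normal_left.mp hh
      have hl := hTQ t ht x hx
      have hlV : ⁅t, x⁆ ∈ Vm p G := P.Z_le (P.L_le_Z hl)
      have e : ⁅v * t, x⁆ = v * ⁅t, x⁆ * v⁻¹ * ⁅v, x⁆ := by simp only [commutatorElement_def]; group
      rw [e, commutatorElement_eq_one_iff_mul_comm.mpr (omegaZ_comm hv hx).symm, mul_one,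
        elem_comm (elem_omegaOne_center p _) hv hlV, mul_inv_cancel_right]
      exact hl
    have hHbot : ⁅Vm p G ⊔ T, Cfsg.pCore p G⁆ = ⊥ := by
      refine le_bot_iff.mp ((le_inf hHL ?_).trans (le_of_eq (P.L_inf_center hp)))
      exact le_center_of_normal P.R _ fun v hv s hs => mem_centralizer_iff.mp (P.L_le_Z (hHL hv)).2 s hs
    have hQδ : cj E.Q' δ = E.Q' := by
      have hle : cj E.Q' δ⁻¹ ≤ E.Q' := by
        intro y hy
        obtain ⟨s, hs, rfl⟩ := (cj_mono E.Q'_le_S' _).trans (le_of_eq (E.cj_S'_N (inv_mem hδN))) hy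
        refine mem_map_of_mem _ (P.mem_pCore_of_comm hs fun v hv => E.inj ?_)
        rw [map_mul, map_mul]
        obtain ⟨_, ⟨x, hx, rfl⟩, hey⟩ := hy
        have hcv : δ * E.ι v * δ⁻¹ ∈ cj E.V' δ := mem_map_of_mem _ (mem_map_of_mem _ hv)
        obtain ⟨t, ht⟩ := map_le_range (f := E.ι) (H := (S : Subgroup G)) (hVδ hcv)
        have hc1 : ⁅t, x⁆ = 1 := mem_bot.mp (hHbot ▸ commutator_mem_commutator
          (mem_sup_right (show E.ι t ∈ cj E.V' δ by rw [ht]; exact hcv)) hx)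
        have hc2 : E.ι t * E.ι x = E.ι x * E.ι t := by
          rw [← map_mul, ← map_mul, commutatorElement_eq_one_iff_mul_comm.mp hc1]
        rw [ht] at hc2
        rw [← hey]
        simp only [MulEquiv.coe_toMonoidHom, MulAut.conj_apply]
        calc δ⁻¹ * E.ι x * δ⁻¹⁻¹ * E.ι v = δ⁻¹ * (E.ι x * (δ * E.ι v * δ⁻¹)) * δ := by group
          _ = δ⁻¹ * (δ * E.ι v * δ⁻¹ * E.ι x) * δ := by rw [hc2]
          _ = _ := by group
      have heq := eq_of_le_of_card_ge hle (by rw [card_cj])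
      conv_lhs => rw [← heq]
      rw [cj_cj, mul_inv_cancel, cj_one]
    have hVd := E.cj_V'_of_Q' hQδ
    constructor
    · apply Subgroup.map_injective E.inj
      rw [map_cj, hBm, cj_cj, show E.ι c * α = α * δ by rw [hδ]; group, ← cj_cj, hVd]
    · apply Subgroup.map_injective E.inj
      rw [map_cj, hQam, cj_cj, show E.ι c * α = α * δ by rw [hδ]; group, ← cj_cj, hQδ]

end Amb

theorem exists_cases (P : PU S F) : Nonempty (Case1 P) ∨ Nonempty (Case2 P) := by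
  obtain ⟨X, _, _, ⟨E⟩⟩ := exists_amb P
  obtain ⟨α, hα⟩ := E.exists_nontame
  have := E.b_le_two hα
  have := E.b_pos
  rcases (show E.b = 1 ∨ E.b = 2 by omega) with h | h
  · exact Or.inl (E.case1 h)
  · exact Or.inr (E.case2 h)

end Cfsg.Agent.H31.PushUp
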