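import Cfsg.Agent.H31.PushUp.Factors

/-!
# Consequences of the absence of characteristic normal subgroups
-/

set_option autoImplicit false
set_option linter.unusedSectionVars false

namespace Cfsg.Agent.H31.PushUp

open Subgroup Cfsg.Agent Cfsg.Agent.Cores Cfsg.Agent.H60
open scoped Pointwise commutatorElement

variable {F : Type} [Field F] [Fintype F] {p : ℕ} [Fact p.Prime]
variable {G : Type*} [Group G] [Finite G] {S : Sylow p G}

theorem lcs_normal (H : Subgroup G) [H.Normal] : ∀ n, (H.lowerCentralSeries n).Normal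
  | 0 => by rw [Subgroup.lowerCentralSeries_zero]; infer_instance
  | n + 1 => by
    haveI := lcs_normal H n
    rw [Subgroup.lowerCentralSeries_succ]
    infer_instance

theorem lcs_mono {H K : Subgroup G} (h : H ≤ K) : ∀ n, H.lowerCentralSeries n ≤ K.lowerCentralSeries n
  | 0 => by simpa [Subgroup.lowerCentralSeries_zero] using h
  | n + 1 => by
    rw [Subgroup.lowerCentralSeries_succ, Subgroup.lowerCentralSeries_succ]
    exact commutator_mono (lcs_mono h n) h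

theorem comm_split {x y g : G} (h : g * x = x * g) : ⁅g, x * y⁆ = x * ⁅g, y⁆ * x⁻¹ := by
  calc ⁅g, x * y⁆ = g * x * y * g⁻¹ * y⁻¹ * x⁻¹ := by simp only [commutatorElement_def]; group
    _ = x * g * y * g⁻¹ * y⁻¹ * x⁻¹ := by rw [h]
    _ = _ := by simp only [commutatorElement_def]; group

theorem comm_mul_comm {c c' y y' : G} (h₁ : c * y' = y' * c) (h₂ : c' * y = y * c')
    (h₃ : c * y = y * c) (h₄ : c' * y' = y' * c') :
    ⁅c * y, c' * y'⁆ = ⁅c, c'⁆ * ⁅y, y'⁆ := by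
  have e1 : Commute c y' := h₁
  have e2 : Commute c' y := h₂
  have e3 : Commute c y := h₃
  have e4 : Commute c' y' := h₄
  rw [commutatorElement_def, mul_inv_rev, mul_inv_rev, ← (e3.inv_inv).eq, ← (e4.inv_inv).eq]
  calc c * y * (c' * y') * (c⁻¹ * y⁻¹) * (c'⁻¹ * y'⁻¹)
      = c * (y * c') * (y' * c⁻¹) * (y⁻¹ * c'⁻¹) * y'⁻¹ := by group
    _ = c * (c' * y) * (c⁻¹ * y') * (c'⁻¹ * y⁻¹) * y'⁻¹ := by
        rw [← h₂, ← e1.inv_left.eq, ← e2.inv_inv.eq]
    _ = c * c' * (y * c⁻¹) * (y' * c'⁻¹) * y⁻¹ * y'⁻¹ := by group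
    _ = c * c' * (c⁻¹ * y) * (c'⁻¹ * y') * y⁻¹ * y'⁻¹ := by rw [← e3.inv_left.eq, ← e4.inv_left.eq]
    _ = c * c' * c⁻¹ * (y * c'⁻¹) * y' * y⁻¹ * y'⁻¹ := by group
    _ = c * c' * c⁻¹ * (c'⁻¹ * y) * y' * y⁻¹ * y'⁻¹ := by rw [← e2.inv_left.eq]
    _ = _ := by simp only [commutatorElement_def]; group

theorem iterCommutator_one (N : Subgroup G) : Cfsg.iterCommutator N ⊤ 1 = ⁅N, (⊤ : Subgroup G)⁆ := rfl

theorem exists_iter_le {N : Subgroup G} [N.Normal]
    (h : Sec N (Cfsg.pCore p G) ⊔ Cfsg.pCore p G = ⊤) :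
    ∃ k : ℕ, Cfsg.iterCommutator (Cfsg.pCore p G) ⊤ k ≤ N := by
  have hle : ∀ k, Cfsg.iterCommutator (Cfsg.pCore p G) ⊤ k ≤ N ⊔ (Cfsg.pCore p G).lowerCentralSeries k := by
    intro k
    induction k with
    | zero => exact le_sup_right
    | succ k ih =>
      show ⁅Cfsg.iterCommutator (Cfsg.pCore p G) ⊤ k, (⊤ : Subgroup G)⁆ ≤ _
      refine (commutator_mono ih le_rfl).trans (commutator_le.mpr fun x hx g _ => ?_)
      haveI := lcs_normal (Cfsg.pCore p G) k
      haveI := lcs_normal (Cfsg.pCore p G) (k + 1)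
      set M := N ⊔ (Cfsg.pCore p G).lowerCentralSeries (k + 1) with hM
      have hMn : M.Normal := inferInstance
      have hNn : N.Normal := inferInstance
      obtain ⟨n, hn, c, hc, rfl⟩ := mem_sup_of_normal_left.mp hx
      obtain ⟨t, ht, q, hq, rfl⟩ := mem_sup_of_normal_left.mp (h ▸ mem_top g)
      have hcQ : c ∈ Cfsg.pCore p G := by
        have := Subgroup.lowerCentralSeries_antitone (Cfsg.pCore p G) (Nat.zero_le k) hc
        rwa [Subgroup.lowerCentralSeries_zero] at this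
      have h1 : ⁅n, t * q⁆ ∈ N := by
        rw [show ⁅n, t * q⁆ = n * ((t * q) * n⁻¹ * (t * q)⁻¹) by simp only [commutatorElement_def]; group]
        exact mul_mem hn (hNn.conj_mem _ (inv_mem hn) _)
      have h2 : ⁅c, t⁆ ∈ N := by
        rw [← commutatorElement_inv]; exact inv_mem (mem_Sec.mp ht c hcQ)
      have h3 : ⁅c, q⁆ ∈ (Cfsg.pCore p G).lowerCentralSeries (k + 1) := by
        rw [Subgroup.lowerCentralSeries_succ]; exact commutator_mem_commutator hc hq
      rw [show ⁅n * c, t * q⁆ = n * (⁅c, t⁆ * (t * ⁅c, q⁆ * t⁻¹)) * n⁻¹ * ⁅n, t * q⁆ by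
        simp only [commutatorElement_def]; group]
      exact mul_mem (hMn.conj_mem _ (mul_mem (mem_sup_left h2) (hMn.conj_mem _ (mem_sup_right h3) t)) n)
        (mem_sup_left h1)
  obtain ⟨k, hk⟩ := (Subgroup.isNilpotent_iff_lowerCentralSeries (Cfsg.pCore p G)).mp
    (pCore_isPGroup (p := p) (G := G)).isNilpotent
  refine ⟨k, (hle k).trans ?_⟩
  rw [hk, sup_bot_eq]

namespace PreLayer

variable {R : RankOne S F} {lo hi : Subgroup G} (N : PreLayer R lo hi)
include N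

/-- The fixed points of the group in a layer. -/
def fix0 : Subgroup G where
  carrier := {v | v ∈ hi ∧ N.ψ v = 0}
  one_mem' := ⟨hi.one_mem, N.ψ_one⟩
  mul_mem' := fun {a b} ha hb => ⟨mul_mem ha.1 hb.1, by rw [N.ψ_mul a ha.1 b hb.1, ha.2, hb.2, add_zero]⟩
  inv_mem' := fun {a} ha => ⟨inv_mem ha.1, by rw [N.ψ_inv ha.1, ha.2, neg_zero]⟩

theorem fix0_le : N.fix0 ≤ hi := fun _ hv => hv.1

theorem lo_le_fix0 : lo ≤ N.fix0 := fun _ hv => ⟨N.le hv, N.ψ_lo hv⟩

theorem fix0_normal : N.fix0.Normal :=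
  ⟨fun v hv g => ⟨N.hi_normal.conj_mem v hv.1 g, by rw [N.equiv g v hv.1, hv.2, Matrix.mulVec_zero]⟩⟩

theorem fix0_commutator : ⁅N.fix0, (⊤ : Subgroup G)⁆ ≤ lo :=
  commutator_le.mpr fun v hv g _ => by
    rw [← commutatorElement_inv]; exact inv_mem ((N.ψ_zero v hv.1).mp hv.2 g)

theorem card_fix0 : Nat.card hi = Fintype.card F ^ 2 * Nat.card N.fix0 := by
  let f : hi →* Multiplicative (Fin 2 → F) := MonoidHom.mk' (fun v => Multiplicative.ofAdd (N.ψ v)) fun a b => by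
    rw [← ofAdd_add, coe_mul, N.ψ_mul a a.2 b b.2]
  have hf : Function.Surjective f := fun x => by
    obtain ⟨v, hv, hψ⟩ := N.ψ_surj (Multiplicative.toAdd x)
    exact ⟨⟨v, hv⟩, congrArg Multiplicative.ofAdd hψ⟩
  have hk : f.ker = N.fix0.subgroupOf hi := by
    ext v
    rw [MonoidHom.mem_ker, mem_subgroupOf]
    exact ⟨fun h => ⟨v.2, congrArg Multiplicative.toAdd h⟩, fun h => congrArg Multiplicative.ofAdd h.2⟩
  have := f.ker.card_mul_index
  rw [index_ker, MonoidHom.range_eq_top.mpr hf, card_top, hk,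
    Nat.card_congr (subgroupOfEquivOfLe N.fix0_le).toEquiv, Nat.card_congr Multiplicative.toAdd,
    Nat.card_fun, Nat.card_eq_fintype_card (α := F), Nat.card_fin] at this
  rw [← this, mul_comm]

theorem chief (hne : ¬ (S : Subgroup G) ≤ Cfsg.pCore p G) :
    Cfsg.IsChiefFactor hi N.fix0 ∧ ¬ ⁅hi, (⊤ : Subgroup G)⁆ ≤ N.fix0 := by
  obtain ⟨x, hx, hxQ⟩ := SetLike.not_le_iff_exists.mp hne
  obtain ⟨v, hv, hψ⟩ := N.exists_comm_ne_zero hx hxQ
  have hnc : ¬ ⁅hi, (⊤ : Subgroup G)⁆ ≤ N.fix0 := fun h => by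
    have h1 := h (commutator_mem_commutator hv (mem_top x))
    rw [← commutatorElement_inv] at h1
    exact hψ (inv_mem_iff.mp h1).2
  refine ⟨⟨lt_of_le_of_ne N.fix0_le fun e => hψ (e.ge (N.comm_mem hv)).2, N.hi_normal, N.fix0_normal,
    fun M hM h1 h2 => ?_⟩, hnc⟩
  by_cases hz : ∀ m ∈ M, N.ψ m = 0
  · exact Or.inl (le_antisymm (fun m hm => ⟨h2 hm, hz m hm⟩) h1)
  · push Not at hz
    obtain ⟨m, hm, hm0⟩ := hz
    refine Or.inr (le_antisymm h2 fun u hu => ?_)
    haveI := hM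
    obtain ⟨m', hm', he⟩ := N.full_of_ne_zero h2 hm hm0 (N.ψ u)
    have := mul_mem hm' (h1 (show m'⁻¹ * u ∈ N.fix0 from ⟨mul_mem (inv_mem (h2 hm')) hu, by
      rw [N.ψ_mul _ (inv_mem (h2 hm')) _ hu, N.ψ_inv (h2 hm'), he, neg_add_cancel]⟩))
    rwa [mul_inv_cancel_left] at this

end PreLayer

namespace PU

variable (P : PU S F)
include P

theorem eq_bot_of_char (T : Subgroup (S : Subgroup G)) (h : T.Characteristic)
    (hn : (T.map (S : Subgroup G).subtype).Normal) : T = ⊥ :=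
  by_contra fun hne => P.nochar T hne h hn

theorem lcs_eq_bot {k : ℕ} (hn : ((S : Subgroup G).lowerCentralSeries k).Normal) :
    (S : Subgroup G).lowerCentralSeries k = ⊥ := by
  have h := P.eq_bot_of_char ((⊤ : Subgroup (S : Subgroup G)).lowerCentralSeries k) inferInstance
    (by rw [top_subtype_lowerCentralSeries]; exact hn)
  rw [← top_subtype_lowerCentralSeries, h, Subgroup.map_bot]

/-- If the `n`-th powers of `S` are those of a `G`-invariant set then they vanish. -/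
theorem pow_eq_one (n : ℕ) (C : Subgroup G) [hC : C.Normal] (hCS : C ≤ (S : Subgroup G))
    (h : ∀ s ∈ (S : Subgroup G), ∃ c ∈ C, s ^ n = c ^ n) : ∀ s ∈ (S : Subgroup G), s ^ n = 1 := by
  set T := Subgroup.closure {x : (S : Subgroup G) | ∃ y, y ^ n = x} with hT
  have hchar : T.Characteristic := by
    rw [characteristic_iff_map_eq]
    intro φ
    rw [hT, MonoidHom.map_closure]
    congr 1
    ext x
    constructor
    · rintro ⟨_, ⟨y, rfl⟩, rfl⟩
      exact ⟨φ y, (map_pow φ y n).symm⟩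
    · rintro ⟨y, rfl⟩
      exact ⟨_, ⟨φ.symm y, rfl⟩, by simp⟩
  have hmap : T.map (S : Subgroup G).subtype = Subgroup.closure {x : G | ∃ c ∈ C, c ^ n = x} := by
    rw [hT, MonoidHom.map_closure]
    congr 1
    ext x
    constructor
    · rintro ⟨_, ⟨y, rfl⟩, rfl⟩
      obtain ⟨c, hc, he⟩ := h y y.2
      exact ⟨c, hc, he.symm.trans (SubgroupClass.coe_pow y n).symm⟩
    · rintro ⟨c, hc, rfl⟩
      exact ⟨_, ⟨⟨c, hCS hc⟩, rfl⟩, SubgroupClass.coe_pow _ n⟩
  have hn : (T.map (S : Subgroup G).subtype).Normal := by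
    rw [hmap]
    refine ⟨fun x hx g => ?_⟩
    have : Subgroup.closure {x : G | ∃ c ∈ C, c ^ n = x} ≤
        (Subgroup.closure {x : G | ∃ c ∈ C, c ^ n = x}).comap (MulAut.conj g).toMonoidHom :=
      (Subgroup.closure_le _).mpr fun y ⟨c, hc, he⟩ => Subgroup.subset_closure
        ⟨g * c * g⁻¹, hC.conj_mem c hc g, by rw [conj_pow, he]; rfl⟩
    exact this hx
  intro s hs
  have hbot := P.eq_bot_of_char T hchar hn
  have h1 : (⟨s, hs⟩ : (S : Subgroup G)) ^ n ∈ T := Subgroup.subset_closure ⟨_, rfl⟩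
  rw [hbot, mem_bot] at h1
  simpa using congrArg Subtype.val h1

theorem L_le_lcs : P.L ≤ (S : Subgroup G).lowerCentralSeries 1 := by
  rw [Subgroup.lowerCentralSeries_succ, Subgroup.lowerCentralSeries_zero]
  exact commutator_mono le_rfl ((omegaZ_le _).trans (pCore_le_sylow S))

theorem L_ne_bot : P.L ≠ ⊥ := fun h => P.L_not_central (h ▸ bot_le)

theorem sylow_ne_bot : (S : Subgroup G) ≠ ⊥ := fun h =>
  P.pCore_ne_bot (le_bot_iff.mp (h ▸ pCore_le_sylow S))

theorem not_sylow_le : ¬ (S : Subgroup G) ≤ Cfsg.pCore p G := fun h =>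
  ne_pCore P.R (le_antisymm h (pCore_le_sylow S))

theorem bottom : ∃ k : ℕ, Cfsg.iterCommutator P.vL.fix0 ⊤ k = ⊥ :=
  ⟨1, le_bot_iff.mp (by rw [iterCommutator_one]; exact P.vL.fix0_commutator)⟩

end PU

end Cfsg.Agent.H31.PushUp
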