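import Cfsg.Agent.H31.PushUp.Cases
import Cfsg.Agent.Coprime.Centralize
import Cfsg.Prelude.Def_LocalEven

/-!
# Chief factors and the centralizer of the module
-/

set_option autoImplicit false
set_option linter.unusedSectionVars false
set_option maxHeartbeats 800000

namespace Cfsg.Agent.H31.PushUp

open Subgroup Cfsg.Agent Cfsg.Agent.Cores Cfsg.Agent.H60
open scoped Pointwise commutatorElement

variable {F : Type} [Field F] [Fintype F] {p : ℕ} [Fact p.Prime]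
variable {G : Type*} [Group G] [Finite G] {S : Sylow p G}

local notation "S2" => Matrix.SpecialLinearGroup (Fin 2) F
local notation "M2" => Matrix (Fin 2) (Fin 2) F

/-- The elements acting trivially on the section `U / W`. -/
def Sec (W U : Subgroup G) [W.Normal] : Subgroup G :=
  (centralizer (U.map (QuotientGroup.mk' W) : Set (G ⧸ W))).comap (QuotientGroup.mk' W)

theorem mem_Sec {W U : Subgroup G} [W.Normal] {g : G} : g ∈ Sec W U ↔ ∀ x ∈ U, ⁅g, x⁆ ∈ W := by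
  rw [Sec, mem_comap, mem_centralizer_iff]
  constructor
  · intro h x hx
    have h1 := h _ (mem_map_of_mem _ hx)
    refine (QuotientGroup.eq_one_iff _).mp ?_
    show QuotientGroup.mk' W ⁅g, x⁆ = 1
    rw [map_commutatorElement]
    exact commutatorElement_eq_one_iff_mul_comm.mpr h1.symm
  · rintro h _ ⟨x, hx, rfl⟩
    refine (commutatorElement_eq_one_iff_mul_comm.mp ?_).symm
    rw [← map_commutatorElement]
    exact (QuotientGroup.eq_one_iff _).mpr (h x hx)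

instance Sec_normal (W U : Subgroup G) [W.Normal] [U.Normal] : (Sec W U).Normal := by
  haveI : (U.map (QuotientGroup.mk' W)).Normal :=
    Subgroup.Normal.map inferInstance _ (QuotientGroup.mk'_surjective W)
  unfold Sec
  infer_instance

theorem commutator_le_of_Sec {W U : Subgroup G} [W.Normal] (h : Sec W U = ⊤) : ⁅U, (⊤ : Subgroup G)⁆ ≤ W :=
  commutator_le.mpr fun x hx g _ => by
    rw [← commutatorElement_inv]
    exact inv_mem (mem_Sec.mp (h ▸ mem_top g : g ∈ Sec W U) x hx)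

theorem ne_pCore (R : RankOne S F) : (S : Subgroup G) ≠ Cfsg.pCore p G := fun h => by
  have h1 := R.card_sylow
  rw [show Nat.card S = Nat.card (Cfsg.pCore p G) from congrArg (fun H : Subgroup G => Nat.card H) h] at h1
  have h2 : 1 < Fintype.card F := Fintype.one_lt_card
  have h3 : 0 < Nat.card (Cfsg.pCore p G) := Nat.card_pos
  nlinarith

theorem not_le_pCore (R : RankOne S F) {A : Subgroup G} (hA : A ⊔ Cfsg.pCore p G = (S : Subgroup G)) :
    ¬ A ≤ Cfsg.pCore p G := fun h => ne_pCore R (by rw [← hA, sup_eq_right.mpr h])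

theorem card_of_sup (R : RankOne S F) {A : Subgroup G} (hA : A ⊔ Cfsg.pCore p G = (S : Subgroup G)) :
    Nat.card A = Fintype.card F * Nat.card ↥(A ⊓ Cfsg.pCore p G) := by
  have h := Cores.card_sup_mul_card_inf A (Cfsg.pCore p G)
  rw [hA, show Nat.card (S : Subgroup G) = Nat.card (Cfsg.pCore p G) * Fintype.card F from R.card_sylow] at h
  refine Nat.eq_of_mul_eq_mul_right (Nat.card_pos (α := Cfsg.pCore p G)) ?_
  rw [← h]; ring

theorem eq_top_of_sylow (R : RankOne S F) (K : Subgroup G) [K.Normal] {A : Subgroup G}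
    (hA : A ⊔ Cfsg.pCore p G = (S : Subgroup G)) (h1 : A ≤ K) (h2 : Cfsg.pCore p G ≤ K) : K = ⊤ :=
  R.le_of_normal inferInstance (hA ▸ sup_le h1 h2)

theorem mem_of_coprime (R : RankOne S F) (K : Subgroup G) [K.Normal] {A : Subgroup G}
    (hA : A ⊔ Cfsg.pCore p G = (S : Subgroup G)) (h1 : A ≤ K) {c : G} (hc : (orderOf c).Coprime p) : c ∈ K := by
  have htop : K ⊔ Cfsg.pCore p G = ⊤ :=
    eq_top_of_sylow R _ hA (h1.trans le_sup_left) le_sup_right
  obtain ⟨k, hk, q, hq, rfl⟩ := mem_sup_of_normal_left.mp (htop ▸ mem_top c)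
  obtain ⟨j, hj⟩ := pCore_isPGroup (p := p) (G := G) ⟨q, hq⟩
  have hq1 : q ^ p ^ j = 1 := by simpa using congrArg Subtype.val hj
  refine (QuotientGroup.eq_one_iff _).mp (orderOf_eq_one_iff.mp ?_)
  have he : ((k * q : G) : G ⧸ K) = (q : G ⧸ K) := by
    rw [QuotientGroup.mk_mul, (QuotientGroup.eq_one_iff k).mpr hk, one_mul]
  refine Nat.eq_one_of_dvd_coprimes (hc.pow_right j) (orderOf_map_dvd (QuotientGroup.mk' K) (k * q)) ?_
  rw [he]
  exact orderOf_dvd_of_pow_eq_one (by rw [← QuotientGroup.mk_pow, hq1]; rfl)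

theorem eq_one_of_mem_pCore {c : G} (hc : (orderOf c).Coprime p) (h : c ∈ Cfsg.pCore p G) : c = 1 := by
  obtain ⟨j, hj⟩ := pCore_isPGroup (p := p) (G := G) ⟨c, h⟩
  have h1 : c ^ p ^ j = 1 := by simpa using congrArg Subtype.val hj
  exact orderOf_eq_one_iff.mp
    (Nat.eq_one_of_dvd_coprimes (hc.pow_right j) dvd_rfl (orderOf_dvd_of_pow_eq_one h1))

/-- An element of order prime to `p` centralizing `K` and `H / K` centralizes `H`. -/
theorem comm_step {K H : Subgroup G} (hK : K ≤ Cfsg.pCore p G) {c : G} (hc : (orderOf c).Coprime p)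
    (h1 : ∀ z ∈ K, c * z = z * c) (h2 : ∀ x ∈ H, ⁅c, x⁆ ∈ K) : ∀ x ∈ H, c * x = x * c := by
  intro x hx
  set z := ⁅c, x⁆ with hz
  have hzK : z ∈ K := h2 x hx
  have hcx : c * x * c⁻¹ = z * x := by rw [hz, commutatorElement_def]; group
  have hn : ∀ n : ℕ, c ^ n * x * (c ^ n)⁻¹ = z ^ n * x := fun n => by
    induction n with
    | zero => simp
    | succ n ih =>
      calc c ^ (n + 1) * x * (c ^ (n + 1))⁻¹ = c * (c ^ n * x * (c ^ n)⁻¹) * c⁻¹ := by
            rw [pow_succ']; group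
        _ = c * z ^ n * c⁻¹ * (c * x * c⁻¹) := by rw [ih]; group
        _ = z ^ n * (z * x) := by rw [h1 _ (pow_mem hzK n), mul_inv_cancel_right, hcx]
        _ = z ^ (n + 1) * x := by rw [pow_succ]; group
  have h3 := hn (orderOf c)
  rw [pow_orderOf_eq_one, one_mul, inv_one, mul_one, eq_comm, mul_eq_right] at h3
  obtain ⟨j, hj⟩ := pCore_isPGroup (p := p) (G := G) ⟨z, hK hzK⟩
  have h4 : z ^ p ^ j = 1 := by simpa using congrArg Subtype.val hj
  have hz1 : z = 1 := orderOf_eq_one_iff.mp (Nat.eq_one_of_dvd_coprimes (hc.pow_right j)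
    (orderOf_dvd_of_pow_eq_one h3) (orderOf_dvd_of_pow_eq_one h4))
  exact commutatorElement_eq_one_iff_mul_comm.mp hz1

theorem le_pCore_of_coprime {K : Subgroup G} [K.Normal]
    (h : ∀ c ∈ K, (orderOf c).Coprime p → c = 1) : K ≤ Cfsg.pCore p G := by
  refine le_pCore (IsPGroup.of_card (n := (Nat.card K).primeFactorsList.length)
    (Nat.eq_prime_pow_of_unique_prime_dvd Nat.card_pos.ne' fun {d} hd hdvd => ?_))
  haveI := Fact.mk hd
  obtain ⟨c, hc⟩ := exists_prime_orderOf_dvd_card' (G := K) d hdvd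
  by_contra hne
  have h1 := h c c.2 (by
    rw [Subgroup.orderOf_coe, hc]; exact (Nat.coprime_primes hd Fact.out).mpr hne)
  rw [show c = 1 from Subtype.ext h1, orderOf_one] at hc
  exact hd.one_lt.ne hc

theorem mem_of_sq {H : Subgroup G} (hp : p ≠ 2) {x : G} (h2 : x * x ∈ H) (hx : x ^ p ∈ H) : x ∈ H := by
  obtain ⟨k, hk⟩ := (Fact.out : p.Prime).odd_of_ne_two hp
  have e : x = x ^ p * ((x * x) ^ k)⁻¹ := by
    rw [← pow_two, ← pow_mul, hk, pow_succ']
    group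
  rw [e]
  exact mul_mem hx (inv_mem (pow_mem h2 k))

theorem pCore_le_Sec {U W : Subgroup G} [W.Normal] (hU : U ≤ Cfsg.pCore p G) (hch : Cfsg.IsChiefFactor U W) :
    Cfsg.pCore p G ≤ Sec W U := by
  obtain ⟨hlt, hUn, -, hmin⟩ := hch
  haveI := hUn
  have hle : ⁅U, Cfsg.pCore p G⁆ ≤ U := commutator_le_left _ _
  rcases hmin (W ⊔ ⁅U, Cfsg.pCore p G⁆) inferInstance le_sup_left (sup_le hlt.le hle) with h | h
  · intro x hx
    refine mem_Sec.mpr fun u hu => ?_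
    rw [← commutatorElement_inv]
    exact inv_mem (h ▸ mem_sup_right (commutator_mem_commutator hu hx))
  · exfalso
    set mk := QuotientGroup.mk' W
    have hne : U.map mk ≠ ⊥ := fun e => hlt.not_ge (fun u hu =>
      (QuotientGroup.eq_one_iff u).mp (mem_bot.mp (e ▸ mem_map_of_mem mk hu)))
    have := Coprime.commutator_lt_of_isPGroup (p := p) (U := U.map mk) (P := (Cfsg.pCore p G).map mk)
      (((pCore_isPGroup (p := p)).to_le hU).map mk) (pCore_isPGroup.map mk) (by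
        haveI : (U.map mk).Normal := Subgroup.Normal.map hUn _ (QuotientGroup.mk'_surjective W)
        rw [normalizer_eq_top_iff.mpr inferInstance]; exact le_top) hne
    refine this.ne ?_
    rw [← map_commutator]
    conv_rhs => rw [← h, Subgroup.map_sup, (Subgroup.map_eq_bot_iff W).mpr (by rw [QuotientGroup.ker_mk']),
      bot_sup_eq]

theorem chief_cases {U W : Subgroup G} [W.Normal] (hch : Cfsg.IsChiefFactor U W) (N : Subgroup G) [N.Normal] :
    U ⊓ N ≤ W ∨ (U ⊓ N) ⊔ W = U := by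
  obtain ⟨hlt, hUn, -, hmin⟩ := hch
  haveI := hUn
  rcases hmin ((U ⊓ N) ⊔ W) inferInstance le_sup_right (sup_le inf_le_left hlt.le) with h | h
  · exact Or.inl (le_sup_left.trans h.le)
  · exact Or.inr h

theorem Sec_mem_of_split {U W hi : Subgroup G} [W.Normal] (hsup : (U ⊓ hi) ⊔ W = U) {g : G}
    (h : ∀ x ∈ U ⊓ hi, ⁅g, x⁆ ∈ W) : g ∈ Sec W U := by
  refine mem_Sec.mpr fun u hu => ?_
  obtain ⟨x, hx, w, hw, rfl⟩ := mem_sup_of_normal_right.mp (hsup.symm ▸ hu : u ∈ (U ⊓ hi) ⊔ W)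
  have hn : W.Normal := inferInstance
  rw [show ⁅g, x * w⁆ = ⁅g, x⁆ * (x * ((g * w * g⁻¹) * w⁻¹) * x⁻¹) by simp only [commutatorElement_def]; group]
  exact mul_mem (h x hx) (hn.conj_mem _ (mul_mem (hn.conj_mem w hw g) (inv_mem hw)) x)

/-- A chief factor in a section on which an offender acts trivially is central. -/
theorem chief_trivial (R : RankOne S F) {U W : Subgroup G} [W.Normal] (hU : U ≤ Cfsg.pCore p G)
    (hch : Cfsg.IsChiefFactor U W) {lo hi : Subgroup G} [lo.Normal] (hlo : U ⊓ lo ≤ W)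
    (hhi : (U ⊓ hi) ⊔ W = U) {A : Subgroup G} (hA : A ⊔ Cfsg.pCore p G = (S : Subgroup G))
    (h : A ≤ Sec lo hi) : ⁅U, (⊤ : Subgroup G)⁆ ≤ W := by
  haveI := hch.2.1
  refine commutator_le_of_Sec (eq_top_of_sylow R _ hA (fun a ha => Sec_mem_of_split hhi fun x hx => hlo ⟨?_, ?_⟩)
    (pCore_le_Sec hU hch))
  · show ⁅a, x⁆ ∈ U
    exact mul_mem (hch.2.1.conj_mem x hx.1 a) (inv_mem hx.1)
  · exact mem_Sec.mp (h ha) x hx.2

/-- A noncentral chief factor in a natural layer is natural. -/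
theorem chief_natural {R : RankOne S F} {lo hi : Subgroup G} (N : NatLayer R lo hi)
    (hQe : ∀ x ∈ Cfsg.pCore p G, N.e x = 1)
    {U W : Subgroup G} [W.Normal] (hU : U ≤ Cfsg.pCore p G) (hch : Cfsg.IsChiefFactor U W)
    (hlo : U ⊓ lo ≤ W) (hhi : (U ⊓ hi) ⊔ W = U) (hnc : ¬ ⁅U, (⊤ : Subgroup G)⁆ ≤ W) :
    Cfsg.IsNaturalSL2Module F (U.map (QuotientGroup.mk' W)) (⊤ : Subgroup (G ⧸ W)) := by
  classical
  haveI hUn := hch.2.1
  haveI := N.hi_normal
  set U₁ := U ⊓ hi with hU₁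
  haveI : U₁.Normal := inferInstance
  have hcent : ∀ k : G, k ∈ U₁ → N.ψ k = 0 → ∀ g : G, ⁅g, k⁆ ∈ W := fun k hk h g =>
    hlo ⟨(show ⁅g, k⁆ ∈ U from mul_mem (hUn.conj_mem k hk.1 g) (inv_mem hk.1)), (N.ψ_zero k hk.2).mp h g⟩
  have hnc' : ∀ H : Subgroup G, (∀ x ∈ H, ∀ g : G, ⁅g, x⁆ ∈ W) → ¬ U ≤ H := fun H h hle =>
    hnc (commutator_le.mpr fun u hu g _ => by
      rw [← commutatorElement_inv]; exact inv_mem (h u (hle hu) g))
  have hWn : W.Normal := inferInstance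
  have hWc : ∀ w ∈ W, ∀ g : G, ⁅g, w⁆ ∈ W := fun w hw g =>
    mul_mem (hWn.conj_mem w hw g) (inv_mem hw)
  have hmulc : ∀ x k : G, (∀ g : G, ⁅g, x⁆ ∈ W) → (∀ g : G, ⁅g, k⁆ ∈ W) → ∀ g : G, ⁅g, x * k⁆ ∈ W := fun x k hx hk g => by
    rw [show ⁅g, x * k⁆ = ⁅g, x⁆ * (x * ⁅g, k⁆ * x⁻¹) by simp only [commutatorElement_def]; group]
    exact mul_mem (hx g) (hWn.conj_mem _ (hk g) x)
  obtain ⟨u0, hu0, hu0ne⟩ : ∃ u ∈ U₁, N.ψ u ≠ 0 := by
    by_contra hno
    push Not at hno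
    exact hnc (commutator_le.mpr fun u hu g _ => by
      obtain ⟨x, hx, w, hw, rfl⟩ := mem_sup_of_normal_right.mp (hhi.symm ▸ hu : u ∈ U₁ ⊔ W)
      rw [← commutatorElement_inv]
      exact inv_mem (hmulc x w (hcent x hx (hno x hx)) (hWc w hw) g))
  have hψW : ∀ w ∈ U₁, w ∈ W → N.ψ w = 0 := by
    intro w hw hwW
    by_contra hne
    refine hnc (commutator_le.mpr fun u hu g _ => ?_)
    obtain ⟨x, hx, w', hw', rfl⟩ := mem_sup_of_normal_right.mp (hhi.symm ▸ hu : u ∈ U₁ ⊔ W)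
    obtain ⟨w'', hw'', he⟩ := N.full_of_ne_zero (H := U₁ ⊓ W) (inf_le_left.trans inf_le_right) ⟨hw, hwW⟩ hne (N.ψ x)
    have hk : N.ψ (w''⁻¹ * x) = 0 := by
      rw [N.ψ_mul _ (inv_mem hw''.1.2) _ hx.2, N.ψ_inv hw''.1.2, he, neg_add_cancel]
    have := hmulc _ _ (hmulc w'' _ (hWc _ hw''.2) (hcent _ (mul_mem (inv_mem hw''.1) hx) hk)) (hWc w' hw') g
    rw [mul_inv_cancel_left] at this
    rw [← commutatorElement_inv]
    exact inv_mem this
  have hψker : ∀ x ∈ U₁, N.ψ x = 0 → x ∈ W := by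
    let K : Subgroup G :=
      { carrier := {x | x ∈ U ∧ ∀ g : G, ⁅g, x⁆ ∈ W}
        one_mem' := ⟨one_mem _, fun g => by rw [commutatorElement_one_right]; exact one_mem _⟩
        mul_mem' := fun {a b} ha hb => ⟨mul_mem ha.1 hb.1, hmulc a b ha.2 hb.2⟩
        inv_mem' := fun {a} ha => ⟨inv_mem ha.1, fun g => by
          rw [show ⁅g, a⁻¹⁆ = a⁻¹ * ⁅g, a⁆⁻¹ * a⁻¹⁻¹ by simp only [commutatorElement_def]; group]
          exact hWn.conj_mem _ (inv_mem (ha.2 g)) _⟩ }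
    have hKn : K.Normal := ⟨fun x hx h => ⟨hUn.conj_mem x hx.1 h, fun g => by
      rw [show ⁅g, h * x * h⁻¹⁆ = h * ⁅h⁻¹ * g * h, x⁆ * h⁻¹ by simp only [commutatorElement_def]; group]
      exact hWn.conj_mem _ (hx.2 _) h⟩⟩
    rcases hch.2.2.2 K hKn (fun w hw => ⟨hch.1.le hw, hWc w hw⟩) (fun x hx => hx.1) with h | h
    · exact fun x hx hψ => h ▸ (⟨hx.1, hcent x hx hψ⟩ : x ∈ K)
    · exact absurd h.ge (hnc' K fun x hx => hx.2)
  -- the module
  set π := QuotientGroup.mk' W with hπ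
  let φV : U₁ →* U.map π := MonoidHom.mk' (fun x => ⟨π (x : G), (x : G), x.2.1, rfl⟩)
    fun a b => Subtype.ext (map_mul π (a : G) b)
  have hφs : Function.Surjective φV := by
    rintro ⟨_, u, hu, rfl⟩
    obtain ⟨x, hx, w, hw, rfl⟩ := mem_sup_of_normal_right.mp (hhi.symm ▸ hu : u ∈ U₁ ⊔ W)
    exact ⟨⟨x, hx⟩, Subtype.ext (by
      show π x = π (x * w)
      rw [map_mul, show π w = 1 from (QuotientGroup.eq_one_iff w).mpr hw, mul_one])⟩
  let ψ' : U₁ →* Multiplicative (Fin 2 → F) := MonoidHom.mk' (fun x => Multiplicative.ofAdd (N.ψ x))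
    (fun a b => by rw [← ofAdd_add, coe_mul, N.ψ_mul _ a.2.2 _ b.2.2])
  have hψs : Function.Surjective ψ' := fun y => by
    obtain ⟨w, hw, he⟩ := N.full_of_ne_zero (H := U₁) inf_le_right hu0 hu0ne (Multiplicative.toAdd y)
    exact ⟨⟨w, hw⟩, congrArg Multiplicative.ofAdd he⟩
  have hker : ψ'.ker = φV.ker := by
    ext x
    rw [MonoidHom.mem_ker, MonoidHom.mem_ker]
    exact ⟨fun h => Subtype.ext ((QuotientGroup.eq_one_iff _).mpr
        (hψker x x.2 (congrArg Multiplicative.toAdd h))),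
      fun h => congrArg Multiplicative.ofAdd
        (hψW x x.2 ((QuotientGroup.eq_one_iff _).mp (congrArg Subtype.val h)))⟩
  let E : U.map π ≃* Multiplicative (Fin 2 → F) :=
    (QuotientGroup.quotientKerEquivOfSurjective φV hφs).symm.trans
      ((QuotientGroup.quotientMulEquivOfEq hker.symm).trans (QuotientGroup.quotientKerEquivOfSurjective ψ' hψs))
  have hE : ∀ x : U₁, E (φV x) = ψ' x := fun x => by
    have : (QuotientGroup.quotientKerEquivOfSurjective φV hφs).symm (φV x) = QuotientGroup.mk x :=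
      (MulEquiv.symm_apply_eq _).mpr rfl
    show (QuotientGroup.quotientKerEquivOfSurjective ψ' hψs) ((QuotientGroup.quotientMulEquivOfEq hker.symm)
      ((QuotientGroup.quotientKerEquivOfSurjective φV hφs).symm (φV x))) = _
    rw [this]; rfl
  have hWe : W ≤ N.e.ker := fun w hw => hQe w (hU (hch.1.le hw))
  let ρ₀ : G ⧸ W →* S2 := QuotientGroup.lift W N.e hWe
  refine ⟨?_, ρ₀.comp (⊤ : Subgroup (G ⧸ W)).subtype, MulEquiv.toAdditiveLeft E, ?_, ?_, ?_⟩
  · haveI : (U.map π).Normal := Subgroup.Normal.map hUn _ (QuotientGroup.mk'_surjective W)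
    rw [normalizer_eq_top_iff.mpr inferInstance]
  · intro z
    obtain ⟨g, rfl⟩ := N.surj z
    exact ⟨⟨π g, mem_top _⟩, rfl⟩
  · ext ⟨l, hl⟩
    obtain ⟨g, rfl⟩ := QuotientGroup.mk'_surjective W l
    rw [MonoidHom.mem_ker, mem_subgroupOf]
    show N.e g = 1 ↔ π g ∈ _
    have key : ∀ x : U₁, π g * π (x : G) = π (x : G) * π g ↔ (N.e g : M2).mulVec (N.ψ (x : G)) = N.ψ (x : G) := by
      intro x
      have hx' : g * (x : G) * g⁻¹ ∈ U₁ := (inferInstance : U₁.Normal).conj_mem _ x.2 g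
      rw [← N.equiv g _ x.2.2]
      constructor
      · intro h
        have h1 : φV ⟨_, hx'⟩ = φV x := Subtype.ext (by
          show π (g * (x : G) * g⁻¹) = π (x : G)
          rw [map_mul, map_mul, map_inv, h, mul_inv_cancel_right])
        have := congrArg E h1
        rw [hE, hE] at this
        exact congrArg Multiplicative.toAdd this
      · intro h
        have h1 : E (φV ⟨_, hx'⟩) = E (φV x) := by
          rw [hE, hE]; exact congrArg Multiplicative.ofAdd h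
        have := congrArg Subtype.val (E.injective h1)
        change π (g * (x : G) * g⁻¹) = π (x : G) at this
        rw [map_mul, map_mul, map_inv, mul_inv_eq_iff_eq_mul] at this
        exact this
    rw [mem_centralizer_iff]
    constructor
    · intro h y hy
      obtain ⟨x, hx⟩ := hφs ⟨y, hy⟩
      have e : π (x : G) = y := congrArg Subtype.val hx
      rw [← e, (key x).mpr (by rw [h, Matrix.SpecialLinearGroup.coe_one, Matrix.one_mulVec])]
    · intro h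
      ext i j
      obtain ⟨w, hw, he⟩ := N.full_of_ne_zero (H := U₁) inf_le_right hu0 hu0ne (Pi.single j 1)
      have h1 := (key ⟨w, hw⟩).mp (h _ (φV ⟨w, hw⟩).2).symm
      simp only [he] at h1
      have h2 := congrFun h1 i
      simp only [Matrix.mulVec_single, MulOpposite.op_one, one_smul, Matrix.col_apply, Pi.single_apply] at h2
      rw [h2, Matrix.SpecialLinearGroup.coe_one, Matrix.one_apply]
  · intro l v
    obtain ⟨g, hg⟩ := QuotientGroup.mk'_surjective W (l : G ⧸ W)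
    obtain ⟨x, rfl⟩ := hφs v
    refine ⟨φV ⟨g * (x : G) * g⁻¹, (inferInstance : U₁.Normal).conj_mem _ x.2 g⟩, ?_, ?_⟩
    · show π (g * (x : G) * g⁻¹) = (l : G ⧸ W) * π (x : G) * (l : G ⧸ W)⁻¹
      rw [← hg, map_mul, map_mul, map_inv]
    · show Multiplicative.toAdd (E _) = (ρ₀ (l : G ⧸ W) : M2).mulVec (Multiplicative.toAdd (E (φV x)))
      rw [toMul_ofMul, hE, hE, ← hg]
      exact N.equiv g _ x.2.2

theorem upper_conj_scalar {h : S2} (H : ∀ x : S2, ((x * h * x⁻¹ : S2) : M2) 1 0 = 0) : h = 1 ∨ h = -1 := by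
  have h10 : (h : M2) 1 0 = 0 := by simpa using H 1
  let w : S2 := ⟨!![0, -1; 1, 0], by simp [Matrix.det_fin_two_of]⟩
  let l : S2 := ⟨!![1, 0; 1, 1], by simp [Matrix.det_fin_two_of]⟩
  have hw : (w : M2) 0 0 = 0 ∧ (w : M2) 0 1 = -1 ∧ (w : M2) 1 0 = 1 ∧ (w : M2) 1 1 = 0 := ⟨rfl, rfl, rfl, rfl⟩
  have hl : (l : M2) 0 0 = 1 ∧ (l : M2) 0 1 = 0 ∧ (l : M2) 1 0 = 1 ∧ (l : M2) 1 1 = 1 := ⟨rfl, rfl, rfl, rfl⟩
  obtain ⟨a, b, c, d⟩ := Linear.SL_inv_entries w
  obtain ⟨a', b', c', d'⟩ := Linear.SL_inv_entries l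
  have h1 := H w
  have h2 := H l
  clear_value w l
  simp [Linear.SL_mul_entries, a, b, c, d, hw.1, hw.2.1, hw.2.2.1, hw.2.2.2, h10] at h1
  simp [Linear.SL_mul_entries, a', b', c', d', hl.1, hl.2.1, hl.2.2.1, hl.2.2.2, h10, h1] at h2
  have hdet := Linear.SL_det_two h
  rw [h10, h1, mul_zero, sub_zero] at hdet
  have e : (h : M2) 1 1 = (h : M2) 0 0 := by linear_combination -h2
  rw [e] at hdet
  rcases mul_self_eq_one_iff.mp hdet with hs | hs
  · exact Or.inl (Linear.SL_ext_two (by simp [hs]) (by simp [h1]) (by simp [h10]) (by simp [e, hs]))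
  · exact Or.inr (Linear.SL_ext_two (by simp [hs]) (by simp [h1]) (by simp [h10]) (by simp [e, hs]))

namespace Case1

variable {P : PU S F} (C : Case1 P)
include C

theorem A_Sec : C.A ≤ Sec (Vm p G) (Cfsg.pCore p G) := fun a ha => mem_Sec.mpr fun x hx => by
  refine P.Z_le (C.A_inf ⟨?_, ?_⟩)
  · rw [show ⁅a, x⁆ = a * (x * a⁻¹ * x⁻¹) by simp only [commutatorElement_def]; group]
    exact mul_mem ha (C.A_norm x (pCore_le_sylow S hx) _ (inv_mem ha))
  · show ⁅a, x⁆ ∈ Cfsg.pCore p G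
    rw [commutatorElement_def]
    exact mul_mem ((inferInstance : (Cfsg.pCore p G).Normal).conj_mem x hx a) (inv_mem hx)

theorem ker_le : P.vL.e.ker ≤ Cfsg.pCore p G := by
  refine le_pCore_of_coprime fun c hc hco => ?_
  have hV : ∀ z ∈ Vm p G, c * z = z * c := fun z hz =>
    commutatorElement_eq_one_iff_mul_comm.mp (mem_bot.mp ((P.vL.mem_ker c).mp hc z hz))
  have hQ := comm_step (omegaZ_le _) hco hV
    (mem_Sec.mp (mem_of_coprime P.R (Sec (Vm p G) (Cfsg.pCore p G)) C.A_sup C.A_Sec hco))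
  exact eq_one_of_mem_pCore hco (P.cent (mem_centralizer_iff.mpr fun x hx => (hQ x hx).symm))

theorem natural {U W : Subgroup G} [W.Normal] (hU : U ≤ Cfsg.pCore p G) (hch : Cfsg.IsChiefFactor U W)
    (hnc : ¬ ⁅U, (⊤ : Subgroup G)⁆ ≤ W) :
    Cfsg.IsNaturalSL2Module F (U.map (QuotientGroup.mk' W)) (⊤ : Subgroup (G ⧸ W)) := by
  rcases chief_cases hch (Vm p G) with h | h
  · refine absurd (chief_trivial P.R hU hch h (hi := Cfsg.pCore p G) ?_ C.A_sup C.A_Sec) hnc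
    rw [inf_eq_left.mpr hU, sup_eq_left.mpr hch.1.le]
  · exact chief_natural P.vL (fun x hx => (P.vL.ker_S x (pCore_le_sylow S hx)).mpr hx) hU hch
      (by rw [inf_bot_eq]; exact bot_le) h hnc

end Case1

namespace Case2

variable {P : PU S F} (C : Case2 P)
include C

theorem H2_le : Vm p G ⊔ C.W ≤ Cfsg.pCore p G := sup_le (omegaZ_le _) C.W_le

theorem QH2 {x h : G} (hx : x ∈ Cfsg.pCore p G) (hh : h ∈ Vm p G ⊔ C.W) : ⁅x, h⁆ ∈ Vm p G := by
  obtain ⟨v, hv, w, hw, rfl⟩ := mem_sup_of_normal_left.mp hh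
  rw [show ⁅x, v * w⁆ = ⁅x, v⁆ * (v * ⁅x, w⁆ * v⁻¹) by simp only [commutatorElement_def]; group,
    commutatorElement_eq_one_iff_mul_comm.mpr (omegaZ_comm hv hx), one_mul]
  exact mul_mem (mul_mem hv (P.Z_le (C.D_le (C.QW x hx w hw)))) (inv_mem hv)

theorem H2_pow {h : G} (hh : h ∈ Vm p G ⊔ C.W) : h ^ p ∈ Vm p G := by
  obtain ⟨v, hv, w, hw, rfl⟩ := mem_sup_of_normal_left.mp hh
  refine (QuotientGroup.eq_one_iff _).mp ?_
  rw [QuotientGroup.mk_pow, QuotientGroup.mk_mul, (QuotientGroup.eq_one_iff v).mpr hv, one_mul,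
    ← QuotientGroup.mk_pow]
  exact (QuotientGroup.eq_one_iff _).mpr (P.Z_le (C.D_le (C.W_pow w hw)))

theorem exists_layer : Nonempty (NatLayer P.R (Vm p G) (Vm p G ⊔ C.W)) := by
  haveI := C.W_normal
  have hAcard := card_of_sup P.R C.A_sup
  have hsub : Vm p G ⊔ (C.W ⊓ C.Qa) ≤ Vm p G ⊔ C.W := sup_le_sup_left inf_le_left _
  refine (exists_natLayer P.R (Vm p G) (Vm p G ⊔ C.W) le_sup_left (fun a ha b hb => C.QH2 (C.H2_le ha) hb)
    (fun a ha => C.H2_pow ha) (fun x hx v hv => C.QH2 hx hv) C.A C.A_le (not_le_pCore P.R C.A_sup)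
    (fun a ha b hb => omegaZ_le _ (P.Z_le (P.L_le_Z (C.A_comm a ha b hb))))
    (fun a ha => omegaZ_le _ (P.Z_le (P.L_le_Z (C.A_pow a ha)))) (Vm p G ⊔ (C.W ⊓ C.Qa)) le_sup_left hsub ?_ ?_ ?_).1
  · intro a ha d hd
    obtain ⟨v, hv, x, hx, rfl⟩ := mem_sup_of_normal_left.mp hd
    rw [show ⁅a, v * x⁆ = a * v * a⁻¹ * ⁅a, x⁆ * v⁻¹ by simp only [commutatorElement_def]; group]
    exact mul_mem (mul_mem ((inferInstance : (Vm p G).Normal).conj_mem v hv a)
      (P.Z_le (P.L_le_Z (C.Qa_A x hx.2 a ha)))) (inv_mem hv)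
  · have h1 := Cores.card_sup_mul_card_inf C.W (Vm p G)
    have h2 := Cores.card_sup_mul_card_inf (C.W ⊓ C.Qa) (Vm p G)
    rw [inf_assoc, inf_eq_right.mpr C.V_Qa] at h2
    rw [sup_comm] at h1 h2
    rw [hAcard]
    have hpos : 0 < Nat.card ↥(C.W ⊓ Vm p G) := Nat.card_pos
    have h3 := C.W_card
    have h4 : Nat.card ↥(Vm p G ⊔ C.W) ≤ Fintype.card F * Nat.card ↥(Vm p G ⊔ C.W ⊓ C.Qa) := by
      refine Nat.le_of_mul_le_mul_right ?_ hpos
      rw [h1, mul_assoc, h2]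
      calc _ ≤ Fintype.card F * Nat.card ↥(C.W ⊓ C.Qa) * Nat.card (Vm p G) := Nat.mul_le_mul_right _ h3
        _ = _ := mul_assoc _ _ _
    calc _ ≤ Fintype.card F * Nat.card ↥(Vm p G ⊔ C.W ⊓ C.Qa) * Nat.card ↥(C.A ⊓ Cfsg.pCore p G) :=
          Nat.mul_le_mul_right _ h4
      _ = _ := by ring
  · by_contra hno
    push Not at hno
    refine C.nontame ⟨fun x hx g => ?_⟩
    obtain ⟨v, hv, b, hb, rfl⟩ := mem_sup_of_normal_left.mp hx
    have h : ⁅g, b⁆ ∈ Vm p G := hno b (mem_sup_right (C.B_W hb)) (fun s hs => P.Z_le (C.D_le (C.SB_D s hs b hb))) g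
    rw [show g * (v * b) * g⁻¹ = g * v * g⁻¹ * ⁅g, b⁆ * b by simp only [commutatorElement_def]; group]
    exact mul_mem (mem_sup_left (mul_mem ((inferInstance : (Vm p G).Normal).conj_mem v hv g) h))
      (mem_sup_right hb)

/-- The second natural layer. -/
noncomputable def wL : NatLayer P.R (Vm p G) (Vm p G ⊔ C.W) := C.exists_layer.some

theorem A_Sec : haveI := C.W_normal; C.A ≤ Sec (Vm p G ⊔ C.W) (Cfsg.pCore p G) := by
  haveI := C.W_normal
  intro a ha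
  refine mem_Sec.mpr fun x hx => ?_
  obtain ⟨y, hy, w, hw, rfl⟩ := mem_sup_of_normal_right.mp (C.Qa_sup.symm ▸ pCore_le_sylow S hx : x ∈ C.Qa ⊔ C.W)
  rw [show ⁅a, y * w⁆ = ⁅a, y⁆ * (y * (a * w * a⁻¹ * w⁻¹) * y⁻¹) by simp only [commutatorElement_def]; group]
  exact mul_mem (mem_sup_left (P.Z_le (P.L_le_Z (C.Qa_A y hy a ha)))) (mem_sup_right
    (C.W_normal.conj_mem _ (mul_mem (C.W_normal.conj_mem w hw a) (inv_mem hw)) y))

theorem eq_one_of_trivial {c : G} (hco : (orderOf c).Coprime p) (h1 : P.vL.e c = 1) (h2 : C.wL.e c = 1) :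
    c = 1 := by
  haveI := C.W_normal
  have hV : ∀ z ∈ Vm p G, c * z = z * c := fun z hz =>
    commutatorElement_eq_one_iff_mul_comm.mp (mem_bot.mp ((P.vL.mem_ker c).mp h1 z hz))
  have hH := comm_step (omegaZ_le _) hco hV ((C.wL.mem_ker c).mp h2)
  have hQ := comm_step C.H2_le hco hH
    (mem_Sec.mp (mem_of_coprime P.R (Sec (Vm p G ⊔ C.W) (Cfsg.pCore p G)) C.A_sup C.A_Sec hco))
  exact eq_one_of_mem_pCore hco (P.cent (mem_centralizer_iff.mpr fun x hx => (hQ x hx).symm))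

theorem both_le : P.vL.e.ker ⊓ C.wL.e.ker ≤ Cfsg.pCore p G :=
  le_pCore_of_coprime fun _ hc hco => C.eq_one_of_trivial hco hc.1 hc.2

theorem scalar_of_ker {c : G} (hc : P.vL.e c = 1) : C.wL.e c = 1 ∨ C.wL.e c = -1 := by
  refine upper_conj_scalar fun x => ?_
  obtain ⟨g, rfl⟩ := C.wL.surj x
  rw [← map_inv, ← map_mul, ← map_mul, ← C.wL.mem_M]
  refine P.vL.ker_le ?_
  rw [MonoidHom.mem_ker, map_mul, map_mul, map_inv, hc, mul_one, mul_inv_cancel]

/-- No element inverts the second layer and centralizes the first. -/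
theorem not_neg (hp : p ≠ 2) {c : G} (hc : P.vL.e c = 1) (hne : C.wL.e c = -1)
    (hsq : c * c = 1) (hcS : ∀ s ∈ (S : Subgroup G), ∃ u ∈ Cfsg.pCore p G, c * s * c⁻¹ = s * u) : False := by
  haveI := C.W_normal
  have h2 := P.two_ne_zero hp
  set N := C.wL with hN
  have hcinv : c⁻¹ = c := inv_eq_of_mul_eq_one_right hsq
  have hcn : c ∈ normalizer ((S : Subgroup G) : Set G) := by
    rw [← cj_eq_self_iff]
    refine eq_of_le_of_card_ge ?_ (by rw [card_cj])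
    rintro _ ⟨s, hs, rfl⟩
    obtain ⟨u, hu, he⟩ := hcS s hs
    show c * s * c⁻¹ ∈ (S : Subgroup G)
    rw [he]
    exact mul_mem hs (pCore_le_sylow S hu)
  obtain ⟨hcB, -⟩ := C.fix_c hp c hcn
  have hcV : ∀ v ∈ Vm p G, c * v * c⁻¹ = v := fun v hv => by
    rw [commutatorElement_eq_one_iff_mul_comm.mp (mem_bot.mp ((P.vL.mem_ker c).mp hc v hv)), mul_inv_cancel_right]
  have hψc : ∀ x ∈ Vm p G ⊔ C.W, N.ψ (c * x * c⁻¹) = -N.ψ x := fun x hx => by
    rw [N.equiv c x hx, hne, Matrix.SpecialLinearGroup.coe_neg, Matrix.SpecialLinearGroup.coe_one,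
      Matrix.neg_mulVec, Matrix.one_mulVec]
  have hBH : C.B ≤ Vm p G ⊔ C.W := C.B_W.trans le_sup_right
  obtain ⟨a₀, ha₀, ha₀Q⟩ := SetLike.not_le_iff_exists.mp (not_le_pCore P.R C.A_sup)
  have hBline : ∀ b ∈ C.B, N.ψ b 1 = 0 := fun b hb =>
    N.line_of_fixed (C.A_le ha₀) ha₀Q (hBH hb) (P.Z_le (C.D_le (C.SB_D a₀ (C.A_le ha₀) b hb)))
  have hB0 : ∀ x ∈ C.B, N.ψ x = 0 → x ∈ Vm p G := by
    intro x hx hψ
    obtain ⟨g, hg⟩ := P.R.exists_not_mem
    have h1 : ⁅g, x⁆ ∈ Vm p G := (N.ψ_zero x (hBH hx)).mp hψ g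
    have h3 : g * x * g⁻¹ = ⁅g, x⁆ * x := by simp only [commutatorElement_def]; group
    have h4 := C.edge g hg x hx (h3 ▸ mul_mem (C.V_Qa h1) (C.B_Qa hx))
    rw [h3] at h4
    exact (mul_mem_cancel_left h1).mp h4
  have hBc : ∀ x ∈ C.B, c * x * c⁻¹ ∈ C.B := fun x hx => by
    have : c * x * c⁻¹ ∈ cj C.B c := mem_map_of_mem _ hx
    rwa [hcB] at this
  have hneg : ∀ x ∈ C.B, c * x * c⁻¹ * x ∈ P.Z := by
    intro x hx
    refine C.V_B ⟨hB0 _ (mul_mem (hBc x hx) hx) ?_, mul_mem (hBc x hx) hx⟩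
    rw [N.ψ_mul _ (hBH (hBc x hx)) _ (hBH hx), hψc x (hBH hx), neg_add_cancel]
  -- the image of `B` is the whole line
  have hfull : ∀ t : F, ∃ x ∈ C.B, N.ψ x 0 = t := by
    let f : C.B →* Multiplicative F := MonoidHom.mk' (fun x => Multiplicative.ofAdd (N.ψ x 0))
      fun a b => by rw [← ofAdd_add, coe_mul, N.ψ_mul _ (hBH a.2) _ (hBH b.2), Pi.add_apply]
    have hk : f.ker ≤ P.Z.subgroupOf C.B := fun x hx => by
      refine C.V_B ⟨hB0 x x.2 (funext fun i => ?_), x.2⟩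
      fin_cases i
      · exact congrArg Multiplicative.toAdd hx
      · exact hBline x x.2
    have h1 := f.ker.card_mul_index
    rw [index_ker, C.B_card, P.card_V] at h1
    have h3 : Nat.card f.ker ≤ Nat.card P.Z :=
      (Subgroup.card_le_of_le hk).trans (le_of_eq (Nat.card_congr (subgroupOfEquivOfLe C.Z_B).toEquiv))
    have h4 : Fintype.card F ≤ Nat.card f.range := by
      refine Nat.le_of_mul_le_mul_right ?_ (Nat.card_pos (α := P.Z))
      rw [← h1, mul_comm (Nat.card f.range)]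
      exact Nat.mul_le_mul_right _ h3
    have h5 : f.range = ⊤ := eq_of_le_of_card_ge le_top (by
      rw [card_top, Nat.card_congr Multiplicative.toAdd, Nat.card_eq_fintype_card]; exact h4)
    intro t
    obtain ⟨x, hx⟩ := MonoidHom.range_eq_top.mp h5 (Multiplicative.ofAdd t)
    exact ⟨x, x.2, congrArg Multiplicative.toAdd hx⟩
  -- an element of `W` inverted modulo the module
  obtain ⟨v0, hv0, hψv0⟩ := N.ψ_surj ![0, 1]
  set u0 := v0 * (c * v0⁻¹ * c⁻¹) with hu0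
  have hH2n : (Vm p G ⊔ C.W).Normal := inferInstance
  have hu0H : u0 ∈ Vm p G ⊔ C.W := mul_mem hv0 (hH2n.conj_mem _ (inv_mem hv0) c)
  have hcu0 : c * u0 * c⁻¹ = u0⁻¹ := by
    have e1 : c * u0 * c⁻¹ = c * v0 * c⁻¹ * (c * c * v0⁻¹ * (c * c)⁻¹) := by rw [hu0]; group
    rw [e1, hsq, hu0]; group
  obtain ⟨v', hv', w, hw, he⟩ := mem_sup_of_normal_left.mp hu0H
  have hwH : w ∈ Vm p G ⊔ C.W := mem_sup_right hw
  have hψw : N.ψ w 1 = 2 := by
    have h1 : N.ψ u0 = N.ψ w := by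
      rw [← he, N.ψ_mul v' (mem_sup_left hv') w hwH, N.ψ_lo hv', zero_add]
    rw [← h1, hu0, N.ψ_mul _ hv0 _ (hH2n.conj_mem _ (inv_mem hv0) c), hψc _ (inv_mem hv0), N.ψ_inv hv0, hψv0]
    simp
    norm_num
  have hwQ : w ∈ Cfsg.pCore p G := C.W_le hw
  obtain ⟨v1, hv1, hcw⟩ : ∃ v1 ∈ Vm p G, c * w * c⁻¹ = v1 * w⁻¹ := by
    refine ⟨v'⁻¹ * v'⁻¹, mul_mem (inv_mem hv') (inv_mem hv'), ?_⟩
    have h := omegaZ_comm (inv_mem hv') (inv_mem hwQ)
    calc c * w * c⁻¹ = (c * v' * c⁻¹)⁻¹ * (c * (v' * w) * c⁻¹) := by group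
      _ = v'⁻¹ * (v' * w)⁻¹ := by rw [hcV v' hv', he, hcu0]
      _ = v'⁻¹ * (w⁻¹ * v'⁻¹) := by group
      _ = v'⁻¹ * v'⁻¹ * w⁻¹ := by rw [h, mul_assoc]
  have hwQa : w ∉ C.Qa := fun h => h2 (by
    rw [← hψw]; exact N.line_of_fixed (C.A_le ha₀) ha₀Q hwH (P.Z_le (P.L_le_Z (C.Qa_A w h a₀ ha₀))))
  -- a suitable element of `A`
  obtain ⟨a, ha, haQ, had⟩ : ∃ a ∈ C.A, a ∉ Cfsg.pCore p G ∧ ⁅a, w⁆ ∉ C.B := by
    by_contra hno
    push Not at hno
    obtain ⟨s, hs, hs1, hs2⟩ := C.pull w (pCore_le_sylow S hwQ)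
    have hall : ∀ a ∈ C.A, ⁅a, w⁆ ∈ C.B := by
      intro a ha
      by_cases haQ : a ∈ Cfsg.pCore p G
      · have h' : a * a₀ ∉ Cfsg.pCore p G := fun e => ha₀Q (by simpa using mul_mem (inv_mem haQ) e)
        have h := hno _ (mul_mem ha ha₀) h'
        rw [show ⁅a * a₀, w⁆ = a * ⁅a₀, w⁆ * a⁻¹ * ⁅a, w⁆ by simp only [commutatorElement_def]; group] at h
        exact (mul_mem_cancel_left (C.S_B a (C.A_le ha) _ (hno a₀ ha₀ ha₀Q))).mp h
      · exact hno a ha haQ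
    obtain ⟨v, hv, hne'⟩ := N.exists_comm_ne_zero hs (fun e => hwQa (hs1 e))
    refine hne' (N.ψ_lo ?_)
    obtain ⟨v₂, hv₂, u, hu, rfl⟩ := mem_sup_of_normal_left.mp hv
    rw [show ⁅s, v₂ * u⁆ = s * v₂ * s⁻¹ * ⁅u, s⁆⁻¹ * v₂⁻¹ by simp only [commutatorElement_def]; group]
    exact mul_mem (mul_mem ((inferInstance : (Vm p G).Normal).conj_mem v₂ hv₂ s) (inv_mem (hs2 hall u hu)))
      (inv_mem hv₂)
  set d := ⁅a, w⁆ with hd
  have hdW : d ∈ C.W := mul_mem (C.W_normal.conj_mem w hw a) (inv_mem hw)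
  have hdQ := C.W_le hdW
  have hdH : d ∈ Vm p G ⊔ C.W := mem_sup_right hdW
  obtain ⟨u, hu, hau⟩ := hcS a (C.A_le ha)
  have hcd : c * d * c⁻¹ * d ∈ P.Z := by
    have hy : c * d * c⁻¹ = ⁅a * u, v1 * w⁻¹⁆ := by
      rw [← hau, ← hcw, hd]; simp only [commutatorElement_def]; group
    have hd1 : ⁅u, w⁻¹⁆ ∈ C.D := C.QW u hu _ (inv_mem hw)
    have hd3 : ⁅d, w⁻¹⁆ ∈ C.D := C.QW d hdQ _ (inv_mem hw)
    have hl : ⁅a, v1⁆ ∈ P.Z := P.L_le_Z (commutator_mem_commutator (C.A_le ha) hv1)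
    have hz1 := mem_center_iff.mp (C.D_central hd1) a
    have hz2 := omegaZ_comm hv1 hu
    have e1 : ⁅a * u, v1 * w⁻¹⁆ = a * ⁅u, w⁻¹⁆ * a⁻¹ * ⁅a, v1 * w⁻¹⁆ := by
      have : ⁅u, v1 * w⁻¹⁆ = ⁅u, w⁻¹⁆ := by
        have h3 := omegaZ_comm hv1 (C.W_le (show u * w⁻¹ * u⁻¹ * w ∈ C.W from
          mul_mem (C.W_normal.conj_mem _ (inv_mem hw) u) hw))
        calc ⁅u, v1 * w⁻¹⁆ = u * v1 * w⁻¹ * u⁻¹ * w * v1⁻¹ := by simp only [commutatorElement_def]; group
          _ = v1 * (u * w⁻¹ * u⁻¹ * w) * v1⁻¹ := by rw [hz2]; group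
          _ = _ := by rw [← h3, mul_inv_cancel_right]; simp only [commutatorElement_def]; group
      rw [← this]; simp only [commutatorElement_def]; group
    have e2 : ⁅a, v1 * w⁻¹⁆ = ⁅a, v1⁆ * (v1 * (d⁻¹ * ⁅d, w⁻¹⁆) * v1⁻¹) := by
      rw [hd]; simp only [commutatorElement_def]; group
    have hv1c : v1 * (d⁻¹ * ⁅d, w⁻¹⁆) * v1⁻¹ = d⁻¹ * ⁅d, w⁻¹⁆ := by
      rw [← omegaZ_comm hv1 (mul_mem (inv_mem hdQ) (omegaZ_le _ (P.Z_le (C.D_le hd3)))), mul_inv_cancel_right]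
    have hdd := mem_center_iff.mp (C.D_central hd3) d⁻¹
    rw [hy, e1, hz1, mul_inv_cancel_right, e2, hv1c, hdd]
    rw [show ⁅u, w⁻¹⁆ * (⁅a, v1⁆ * (⁅d, w⁻¹⁆ * d⁻¹)) * d = ⁅u, w⁻¹⁆ * (⁅a, v1⁆ * ⁅d, w⁻¹⁆) by group]
    exact mul_mem (C.D_le hd1) (mul_mem hl (C.D_le hd3))
  obtain ⟨x, hx, hψx⟩ := hfull (N.ψ d 0)
  have hψdx : N.ψ x = N.ψ d := funext fun i => by
    fin_cases i
    · exact hψx
    · exact (hBline x hx).trans (N.comm_line (C.A_le ha) hwH).symm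
  set z := d * x⁻¹ with hzdef
  have hxW := C.B_W hx
  have hzW : z ∈ C.W := mul_mem hdW (inv_mem hxW)
  have hψz : N.ψ z = 0 := by
    rw [hzdef, N.ψ_mul _ hdH _ (hBH (inv_mem hx)), N.ψ_inv (hBH hx), hψdx, add_neg_cancel]
  have hzV : z ∈ Vm p G := by
    refine mem_of_sq hp ?_ (C.H2_pow (mem_sup_right hzW))
    have hcz := (N.ψ_zero z (mem_sup_right hzW)).mp hψz c
    let q := QuotientGroup.mk' (Vm p G)
    have hq1 : ∀ {g : G}, g ∈ Vm p G → q g = 1 := fun hg => (QuotientGroup.eq_one_iff _).mpr hg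
    have hcz' : q c * q z * (q c)⁻¹ = q z := by
      have := hq1 hcz
      rw [map_commutatorElement, commutatorElement_def, mul_inv_eq_one] at this
      exact this
    have hcd' : q c * q d * (q c)⁻¹ * q d = 1 := by
      rw [← map_inv, ← map_mul, ← map_mul, ← map_mul]; exact hq1 (P.Z_le hcd)
    have hcx : q c * q x * (q c)⁻¹ * q x = 1 := by
      rw [← map_inv, ← map_mul, ← map_mul, ← map_mul]; exact hq1 (P.Z_le (hneg x hx))
    have hdx : q d * q x = q x * q d := by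
      rw [← commutatorElement_eq_one_iff_mul_comm, ← map_commutatorElement]
      exact hq1 (C.QH2 hdQ (hBH hx))
    refine (QuotientGroup.eq_one_iff _).mp ?_
    show q (z * z) = 1
    have key : q c * q z * (q c)⁻¹ * q z = 1 := by
      rw [show q z = q d * (q x)⁻¹ by rw [hzdef, map_mul, map_inv]]
      calc q c * (q d * (q x)⁻¹) * (q c)⁻¹ * (q d * (q x)⁻¹)
          = (q c * q d * (q c)⁻¹) * (q c * q x * (q c)⁻¹)⁻¹ * q d * (q x)⁻¹ := by group
        _ = (q d)⁻¹ * q x * q d * (q x)⁻¹ := by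
            rw [eq_inv_of_mul_eq_one_left hcd', eq_inv_of_mul_eq_one_left hcx, inv_inv]
        _ = (q d)⁻¹ * (q x * q d) * (q x)⁻¹ := by group
        _ = 1 := by rw [← hdx]; group
    rw [hcz'] at key
    rw [map_mul]; exact key
  have hdzx : d = z * x := by rw [hzdef]; group
  have hzz : z * z ∈ P.Z := by
    have hyQ := mul_mem (C.B_le (hBc x hx)) (one_mem (Cfsg.pCore p G))
    have e : c * d * c⁻¹ * d = z * z * (c * x * c⁻¹ * x) := by
      calc c * d * c⁻¹ * d = c * z * c⁻¹ * (c * x * c⁻¹) * z * x := by rw [hdzx]; group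
        _ = z * ((c * x * c⁻¹) * z) * x := by rw [hcV z hzV]; group
        _ = _ := by rw [omegaZ_comm hzV (C.B_le (hBc x hx))]; group
    have := mul_mem hcd (inv_mem (hneg x hx))
    rwa [e, mul_inv_cancel_right] at this
  have hzZ : z ∈ P.Z := mem_of_sq hp hzz (by rw [omegaZ_pow hzV]; exact one_mem _)
  exact had (hdzx ▸ mul_mem (C.Z_B hzZ) hx)

theorem ker_le : P.vL.e.ker ≤ Cfsg.pCore p G := by
  refine le_pCore_of_coprime fun c hc hco => ?_
  rcases C.scalar_of_ker hc with h | h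
  · exact C.eq_one_of_trivial hco hc h
  rcases eq_or_ne p 2 with hp | hp
  · refine C.eq_one_of_trivial hco hc (h.trans ?_)
    haveI := P.R.char
    subst hp
    ext i j
    rw [Matrix.SpecialLinearGroup.coe_neg, Matrix.neg_apply, CharTwo.neg_eq]
  exfalso
  have hsq : c * c = 1 := by
    refine C.eq_one_of_trivial (Nat.Coprime.coprime_dvd_left ?_ hco) (by rw [map_mul, hc, one_mul]) ?_
    · rw [← pow_two]
      exact orderOf_pow_dvd 2
    · rw [map_mul, h]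
      ext i j
      simp [Matrix.SpecialLinearGroup.coe_mul]
  refine C.not_neg hp hc h hsq fun s hs => ?_
  set d := s * c * s⁻¹ with hd
  have hd1 : P.vL.e d = 1 := by rw [hd, map_mul, map_mul, map_inv, hc, mul_one, mul_inv_cancel]
  have hd2 : C.wL.e d = -1 := by
    rw [hd, map_mul, map_mul, map_inv, h]
    ext i j
    simp [Matrix.SpecialLinearGroup.coe_mul, ← Matrix.SpecialLinearGroup.coe_mul]
  have hcd : c * d ∈ Cfsg.pCore p G := C.both_le ⟨by
      show c * d ∈ P.vL.e.ker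
      rw [MonoidHom.mem_ker, map_mul, hc, hd1, mul_one], by
      show c * d ∈ C.wL.e.ker
      rw [MonoidHom.mem_ker, map_mul, h, hd2]
      ext i j
      simp [Matrix.SpecialLinearGroup.coe_mul]⟩
  refine ⟨s⁻¹ * (c * d) * s, ?_, ?_⟩
  · simpa using (inferInstance : (Cfsg.pCore p G).Normal).conj_mem _ hcd s⁻¹
  · rw [hd, inv_eq_of_mul_eq_one_right hsq]; group

theorem natural {U W : Subgroup G} [W.Normal] (hU : U ≤ Cfsg.pCore p G) (hch : Cfsg.IsChiefFactor U W)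
    (hnc : ¬ ⁅U, (⊤ : Subgroup G)⁆ ≤ W) :
    Cfsg.IsNaturalSL2Module F (U.map (QuotientGroup.mk' W)) (⊤ : Subgroup (G ⧸ W)) := by
  haveI := C.W_normal
  rcases chief_cases hch (Vm p G) with h | h
  · rcases chief_cases hch (Vm p G ⊔ C.W) with h' | h'
    · refine absurd (chief_trivial P.R hU hch h' (hi := Cfsg.pCore p G) ?_ C.A_sup C.A_Sec) hnc
      rw [inf_eq_left.mpr hU, sup_eq_left.mpr hch.1.le]
    · exact chief_natural C.wL (fun x hx => (C.wL.ker_S x (pCore_le_sylow S hx)).mpr hx) hU hch h h' hnc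
  · exact chief_natural P.vL (fun x hx => (P.vL.ker_S x (pCore_le_sylow S hx)).mpr hx) hU hch
      (by rw [inf_bot_eq]; exact bot_le) h hnc

end Case2

theorem pushing_up_rank_one (P : PU S F) :
    Nonempty (G ⧸ Cfsg.pCore p G ≃* S2) ∧ ∀ (U W : Subgroup G) [W.Normal], U ≤ Cfsg.pCore p G →
      Cfsg.IsChiefFactor U W → ¬ ⁅U, (⊤ : Subgroup G)⁆ ≤ W →
        Cfsg.IsNaturalSL2Module F (U.map (QuotientGroup.mk' W)) (⊤ : Subgroup (G ⧸ W)) := by
  have hker : P.vL.e.ker ≤ Cfsg.pCore p G := by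
    rcases exists_cases P with ⟨⟨C⟩⟩ | ⟨⟨C⟩⟩
    · exact C.ker_le
    · exact C.ker_le
  refine ⟨⟨(QuotientGroup.quotientMulEquivOfEq (le_antisymm (fun x hx => ?_) hker)).trans
    (QuotientGroup.quotientKerEquivOfSurjective P.vL.e P.vL.surj)⟩, fun U W _ hU hch hnc => ?_⟩
  · exact (P.vL.ker_S x (pCore_le_sylow S hx)).mpr hx
  · rcases exists_cases P with ⟨⟨C⟩⟩ | ⟨⟨C⟩⟩
    · exact C.natural hU hch hnc
    · exact C.natural hU hch hnc

end Cfsg.Agent.H31.PushUp
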