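import Cfsg.Agent.H31.PushUp.Setup

/-!
# The coset graph: the critical distance is at most two
-/

set_option autoImplicit false
set_option linter.unusedSectionVars false

namespace Cfsg.Agent.H31.PushUp

open Subgroup Cfsg.Agent Cfsg.Agent.Cores Cfsg.Agent.H60
open scoped Pointwise commutatorElement

variable {F : Type} [Field F] [Fintype F] {p : ℕ} [Fact p.Prime]
universe u
variable {G : Type u} [Group G] [Finite G] {S : Sylow p G}

theorem cj_normal {H : Subgroup G} [H.Normal] (g : G) : cj H g = H :=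
  cj_eq_self_iff.mpr (by rw [normalizer_eq_top_iff.mpr inferInstance]; exact mem_top g)

theorem map_cj {X : Type*} [Group X] (f : G →* X) (H : Subgroup G) (g : G) :
    (cj H g).map f = cj (H.map f) (f g) := by
  ext x
  constructor
  · rintro ⟨_, ⟨h, hh, rfl⟩, rfl⟩
    exact ⟨f h, ⟨h, hh, rfl⟩, by simp [MulAut.conj_apply]⟩
  · rintro ⟨_, ⟨h, hh, rfl⟩, rfl⟩
    exact ⟨_, ⟨h, hh, rfl⟩, by simp [MulAut.conj_apply]⟩

theorem cj_commutator {X : Type*} [Group X] (A B : Subgroup X) (g : X) : cj ⁅A, B⁆ g = ⁅cj A g, cj B g⁆ :=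
  Subgroup.map_commutator _ _ _

theorem cj_map_omegaZ {X : Type*} [Group X] (K : Subgroup X) (g : X) : cj (omegaZ p K) g = omegaZ p (cj K g) :=
  map_omegaZ (MulAut.conj g).injective

variable (P : PU S F)

/-- An overgroup of `G` in which no nontrivial subgroup of `S` is normalized by `G` and the normalizer of `S`. -/
structure Amb {G : Type u} [Group G] [Finite G] {S : Sylow p G} (_P : PU S F) (X : Type*) [Group X] where
  ι : G →* X
  inj : Function.Injective ι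
  nohom : ∀ H : Subgroup G, H ≤ (S : Subgroup G) → H.Normal →
    normalizer (((S : Subgroup G).map ι : Subgroup X) : Set X) ≤ normalizer ((H.map ι : Subgroup X) : Set X) → H = ⊥

theorem exists_amb : ∃ (X : Type u) (_ : Group X) (_ : Finite X), Nonempty (Amb P X) := by
  classical
  let ι : G →* Equiv.Perm G := MulAction.toPermHom G G
  have hι : Function.Injective ι := fun a b h => by
    have : a * 1 = b * 1 := DFunLike.congr_fun h 1
    simpa using this
  refine ⟨Equiv.Perm G, inferInstance, inferInstance, ⟨⟨ι, hι, fun H hHS hHn hN => ?_⟩⟩⟩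
  by_contra hne
  refine P.nochar (H.subgroupOf S) (fun h => hne ?_) ?_ ?_
  · rw [← map_subgroupOf_eq_of_le hHS, h, Subgroup.map_bot]
  · rw [characteristic_iff_map_eq]
    intro φ
    obtain ⟨T, hT, -⟩ := exists_isComplement_right (S : Subgroup G) (1 : G)
    let d := hT.equiv
    let π : Equiv.Perm G := d.trans ((Equiv.prodCongr φ.toEquiv (Equiv.refl T)).trans d.symm)
    have hd : ∀ (s : (S : Subgroup G)) (x : G), d ((s : G) * x) = (s * (d x).1, (d x).2) := by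
      intro s x
      apply d.symm.injective
      rw [Equiv.symm_apply_apply, IsComplement.equiv_symm_apply, coe_mul, mul_assoc, hT.equiv_fst_mul_equiv_snd]
    have hdsymm : ∀ (s u : (S : Subgroup G)) (t : T), (s : G) * d.symm (u, t) = d.symm (s * u, t) := by
      intro s u t
      rw [IsComplement.equiv_symm_apply, IsComplement.equiv_symm_apply, coe_mul, mul_assoc]
    have hconj : ∀ s : (S : Subgroup G), π * ι s * π⁻¹ = ι (φ s) := by
      intro s
      rw [mul_inv_eq_iff_eq_mul]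
      refine Equiv.ext fun x => ?_
      show π ((s : G) * x) = ((φ s : (S : Subgroup G)) : G) * π x
      simp only [π, Equiv.trans_apply, hd, Equiv.prodCongr_apply, Prod.map, Equiv.refl_apply,
        MulEquiv.toEquiv_eq_coe, EquivLike.coe_coe, map_mul, hdsymm]
    have hπN : π ∈ normalizer (((S : Subgroup G).map ι : Subgroup (Equiv.Perm G)) : Set (Equiv.Perm G)) := by
      rw [← cj_eq_self_iff]
      ext x
      constructor
      · rintro ⟨_, ⟨s, hs, rfl⟩, rfl⟩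
        exact ⟨_, (φ ⟨s, hs⟩).2, (hconj ⟨s, hs⟩).symm⟩
      · rintro ⟨s, hs, rfl⟩
        refine ⟨_, ⟨_, (φ.symm ⟨s, hs⟩).2, rfl⟩, ?_⟩
        show π * ι _ * π⁻¹ = _
        rw [hconj, MulEquiv.apply_symm_apply]
    have hπH := cj_eq_self_iff.mpr (hN hπN)
    ext x
    constructor
    · rintro ⟨s, hs, rfl⟩
      have : ι (φ s) ∈ cj (H.map ι) π := ⟨ι s, ⟨s, hs, rfl⟩, hconj s⟩
      rw [hπH] at this
      obtain ⟨h, hh, he⟩ := this
      show ((φ s : (S : Subgroup G)) : G) ∈ H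
      rwa [← hι he]
    · intro hx
      have : ι (x : G) ∈ cj (H.map ι) π := by rw [hπH]; exact ⟨x, hx, rfl⟩
      obtain ⟨_, ⟨h, hh, rfl⟩, he⟩ := this
      refine ⟨⟨h, hHS hh⟩, hh, Subtype.ext (hι ?_)⟩
      rw [← he]
      exact (hconj ⟨h, hHS hh⟩).symm
  · rwa [map_subgroupOf_eq_of_le hHS]

variable {P} {X : Type*} [Group X] [Finite X] (E : Amb P X)

namespace Amb

/-- The image of the Sylow subgroup. -/
def S' : Subgroup X := (S : Subgroup G).map E.ι
/-- The image of the core. -/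
def Q' : Subgroup X := (Cfsg.pCore p G).map E.ι
/-- The image of the module. -/
def V' : Subgroup X := (Vm p G).map E.ι
/-- The image of the fixed points. -/
def Z' : Subgroup X := P.Z.map E.ι
/-- The image of the line. -/
def L' : Subgroup X := P.L.map E.ι
/-- The normalizer of the Sylow subgroup. -/
def N : Subgroup X := normalizer ((E.S' : Subgroup X) : Set X)

theorem Q'_le_S' : E.Q' ≤ E.S' := map_mono (pCore_le_sylow S)
theorem V'_le_Q' : E.V' ≤ E.Q' := map_mono (omegaZ_le _)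
theorem Z'_le_V' : E.Z' ≤ E.V' := map_mono P.Z_le
theorem L'_le_Z' : E.L' ≤ E.Z' := map_mono P.L_le_Z
theorem L'_le_V' : E.L' ≤ E.V' := E.L'_le_Z'.trans E.Z'_le_V'

theorem cj_ι {H : Subgroup G} [H.Normal] (g : G) : cj (H.map E.ι) (E.ι g) = H.map E.ι := by
  rw [← map_cj, cj_normal]

theorem cj_V'_ι (g : G) : cj E.V' (E.ι g) = E.V' := E.cj_ι g
theorem cj_Q'_ι (g : G) : cj E.Q' (E.ι g) = E.Q' := E.cj_ι g

theorem cj_S'_N {ν : X} (hν : ν ∈ E.N) : cj E.S' ν = E.S' := cj_eq_self_iff.mpr hν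

theorem cj_Z'_N {ν : X} (hν : ν ∈ E.N) : cj E.Z' ν = E.Z' := by
  have : E.Z' = omegaZ p E.S' := by
    rw [Z', S', ← map_omegaZ E.inj, P.omegaZ_sylow_eq]; rfl
  rw [this, cj_map_omegaZ, E.cj_S'_N hν]

theorem cj_V'_of_Q' {x : X} (h : cj E.Q' x = E.Q') : cj E.V' x = E.V' := by
  have : E.V' = omegaZ p E.Q' := by rw [V', Q', ← map_omegaZ E.inj]
  rw [this, cj_map_omegaZ, h]

theorem Q'_comm_V' : E.Q' ≤ centralizer (E.V' : Set X) := by
  rintro _ ⟨x, hx, rfl⟩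
  refine mem_centralizer_iff.mpr ?_
  rintro _ ⟨v, hv, rfl⟩
  rw [← map_mul, ← map_mul, omegaZ_comm hv hx]

theorem comm_le_L' {H : Subgroup X} (h : H ≤ E.S') : ⁅H, E.V'⁆ ≤ E.L' :=
  (commutator_mono h le_rfl).trans (le_of_eq (map_commutator _ _ _).symm)

/-- No nontrivial subgroup of the Sylow subgroup is normalized by `G` and `N`. -/
theorem bot_of_inv {H : Subgroup X} (hH : H ≤ E.S') (h1 : E.ι.range ≤ normalizer (H : Set X))
    (h2 : E.N ≤ normalizer (H : Set X)) : H = ⊥ := by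
  have hmap : (H.comap E.ι).map E.ι = H := map_comap_eq_self (hH.trans (map_le_range _ _))
  have := E.nohom (H.comap E.ι) ?_ ?_ (by rw [hmap]; exact h2)
  · rw [← hmap, this, Subgroup.map_bot]
  · intro x hx
    obtain ⟨s, hs, he⟩ := hH hx
    rwa [← E.inj he]
  · refine ⟨fun x hx g => ?_⟩
    show E.ι (g * x * g⁻¹) ∈ H
    rw [map_mul, map_mul, map_inv]
    exact (mem_normalizer_iff.mp (h1 ⟨g, rfl⟩) _).mp hx

theorem V'_ne_bot : E.V' ≠ ⊥ := by
  rw [V', Ne, Subgroup.map_eq_bot_iff_of_injective _ E.inj]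
  intro h
  obtain ⟨w, hw, -, g, hg⟩ := P.exists_moved
  rw [h, mem_bot] at hw
  exact hg (by rw [hw, commutatorElement_one_right])

/-- The steps of the graph. -/
def T : Set X := {t | ∃ g g' : G, ∃ ν ∈ E.N, t = E.ι g * ν * E.ι g'}

/-- The vertices at distance at most `n`. -/
def Rd : ℕ → Set X
  | 0 => Set.range E.ι
  | n + 1 => {x | ∃ y ∈ Rd n, ∃ t ∈ E.T, x = y * t}

theorem one_mem_Rd0 : (1 : X) ∈ E.Rd 0 := ⟨1, map_one _⟩

theorem ι_mul_Rd {n : ℕ} {x : X} (hx : x ∈ E.Rd n) (g : G) : E.ι g * x ∈ E.Rd n := by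
  induction n generalizing x with
  | zero => obtain ⟨h, rfl⟩ := hx; exact ⟨g * h, map_mul _ _ _⟩
  | succ n ih =>
    obtain ⟨y, hy, t, ht, rfl⟩ := hx
    exact ⟨_, ih hy, t, ht, (mul_assoc _ _ _).symm⟩

theorem Rd_mul_ι {n : ℕ} {x : X} (hx : x ∈ E.Rd n) (g : G) : x * E.ι g ∈ E.Rd n := by
  cases n with
  | zero => obtain ⟨h, rfl⟩ := hx; exact ⟨h * g, map_mul _ _ _⟩
  | succ n =>
    obtain ⟨y, hy, _, ⟨a, a', ν, hν, rfl⟩, rfl⟩ := hx
    exact ⟨y, hy, _, ⟨a, a' * g, ν, hν, rfl⟩, by rw [map_mul]; simp only [mul_assoc]⟩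

theorem Rd_mul {m n : ℕ} {x y : X} (hx : x ∈ E.Rd m) (hy : y ∈ E.Rd n) : x * y ∈ E.Rd (m + n) := by
  induction n generalizing y with
  | zero => obtain ⟨g, rfl⟩ := hy; exact E.Rd_mul_ι hx g
  | succ n ih =>
    obtain ⟨z, hz, t, ht, rfl⟩ := hy
    exact ⟨_, ih hz, t, ht, (mul_assoc _ _ _).symm⟩

theorem T_Rd1 {t : X} (ht : t ∈ E.T) : t ∈ E.Rd 1 := ⟨1, E.one_mem_Rd0, t, ht, (one_mul t).symm⟩

theorem N_T {ν : X} (hν : ν ∈ E.N) : ν ∈ E.T := ⟨1, 1, ν, hν, by simp⟩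

theorem N_Rd1 {ν : X} (hν : ν ∈ E.N) : ν ∈ E.Rd 1 := E.T_Rd1 (E.N_T hν)

theorem Rd_inv {n : ℕ} {x : X} (hx : x ∈ E.Rd n) : x⁻¹ ∈ E.Rd n := by
  induction n generalizing x with
  | zero => obtain ⟨g, rfl⟩ := hx; exact ⟨g⁻¹, map_inv _ _⟩
  | succ n ih =>
    obtain ⟨y, hy, _, ⟨a, a', ν, hν, rfl⟩, rfl⟩ := hx
    rw [mul_inv_rev, add_comm]
    exact E.Rd_mul (E.T_Rd1 ⟨a'⁻¹, a⁻¹, ν⁻¹, inv_mem hν, by simp [mul_assoc]⟩) (ih hy)

theorem Rd_succ_left {n : ℕ} {x : X} (hx : x ∈ E.Rd (n + 1)) :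
    ∃ (g : G) (ν : X) (y : X), ν ∈ E.N ∧ y ∈ E.Rd n ∧ x = E.ι g * ν * y := by
  obtain ⟨y, hy, _, ⟨a, a', ν, hν, rfl⟩, he⟩ := E.Rd_inv hx
  refine ⟨a'⁻¹, ν⁻¹, E.ι a⁻¹ * y⁻¹, inv_mem hν, E.ι_mul_Rd (E.Rd_inv hy) _, ?_⟩
  rw [← inv_inj, he]
  simp [mul_assoc]

theorem exists_far : ∃ n, ∃ x ∈ E.Rd n, ¬ cj E.V' x ≤ E.Q' := by
  by_contra hno
  push Not at hno
  set H := ⨆ x : {x : X // ∃ n, x ∈ E.Rd n}, cj E.V' x.1 with hH
  have hstab : ∀ g : X, (∀ n, ∀ x ∈ E.Rd n, ∃ m, g * x ∈ E.Rd m) → cj H g ≤ H := by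
    intro g hg
    rw [hH, show cj (⨆ x : {x : X // ∃ n, x ∈ E.Rd n}, cj E.V' x.1) g = _ from Subgroup.map_iSup _ _]
    refine iSup_le fun x => ?_
    obtain ⟨n, hn⟩ := x.2
    obtain ⟨m, hm⟩ := hg n x.1 hn
    refine le_trans (le_of_eq (cj_cj E.V' x.1 g)) ?_
    exact le_iSup (fun y : {x : X // ∃ n, x ∈ E.Rd n} => cj E.V' y.1) ⟨g * x.1, m, hm⟩
  have hnorm : ∀ g : X, (∀ n, ∀ x ∈ E.Rd n, ∃ m, g * x ∈ E.Rd m) → g ∈ normalizer (H : Set X) := fun g hg =>
    cj_eq_self_iff.mp (eq_of_le_of_card_ge (hstab g hg) (by rw [card_cj]))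
  have hle : H ≤ E.S' := iSup_le fun x => by
    obtain ⟨n, hn⟩ := x.2
    exact (hno n x.1 hn).trans E.Q'_le_S'
  refine E.V'_ne_bot (le_bot_iff.mp (le_trans ?_ (le_of_eq (E.bot_of_inv hle ?_ ?_))))
  · refine le_trans (le_of_eq (cj_one E.V').symm) ?_
    exact le_iSup (fun y : {x : X // ∃ n, x ∈ E.Rd n} => cj E.V' y.1) ⟨1, 0, E.one_mem_Rd0⟩
  · rintro _ ⟨g, rfl⟩
    exact hnorm _ fun n x hx => ⟨n, E.ι_mul_Rd hx g⟩
  · exact fun ν hν => hnorm _ fun n x hx => ⟨1 + n, E.Rd_mul (E.N_Rd1 hν) hx⟩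

open Classical in
/-- The critical distance. -/
noncomputable def b : ℕ := Nat.find E.exists_far

theorem below {n : ℕ} (hn : n < E.b) {x : X} (hx : x ∈ E.Rd n) : cj E.V' x ≤ E.Q' := by
  classical
  have := Nat.find_min E.exists_far hn
  push Not at this
  exact this x hx

theorem below' {n : ℕ} (hn : n < E.b) {x y : X} (h : x⁻¹ * y ∈ E.Rd n) : cj E.V' y ≤ cj E.Q' x := by
  have := cj_mono (E.below hn h) x
  rwa [cj_cj, mul_inv_cancel_left] at this

theorem b_pos : 1 ≤ E.b := by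
  classical
  rw [Nat.one_le_iff_ne_zero]
  intro h
  obtain ⟨x, hx, hxV⟩ := Nat.find_spec E.exists_far
  rw [show Nat.find E.exists_far = 0 from h] at hx
  obtain ⟨g, rfl⟩ := hx
  exact hxV (by rw [E.cj_V'_ι]; exact E.V'_le_Q')

/-- A critical vertex. -/
def Crit (x : X) : Prop := x ∈ E.Rd E.b ∧ ¬ cj E.V' x ≤ E.Q'

theorem exists_crit : ∃ x, E.Crit x := by
  classical
  obtain ⟨x, hx, hxV⟩ := Nat.find_spec E.exists_far
  exact ⟨x, hx, hxV⟩

theorem crit_ι_mul {x : X} (g : G) : E.Crit (E.ι g * x) ↔ E.Crit x := by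
  refine and_congr ⟨fun h => ?_, fun h => E.ι_mul_Rd h g⟩ (not_congr ?_)
  · have := E.ι_mul_Rd h g⁻¹
    rwa [map_inv, inv_mul_cancel_left] at this
  · rw [← cj_cj, ← E.cj_Q'_ι g, cj_le_cj_iff, E.cj_Q'_ι]

theorem crit_mul_ι {x : X} (g : G) : E.Crit (x * E.ι g) ↔ E.Crit x := by
  refine and_congr ⟨fun h => ?_, fun h => E.Rd_mul_ι h g⟩ (not_congr ?_)
  · have := E.Rd_mul_ι h g⁻¹
    rwa [map_inv, mul_inv_cancel_right] at this
  · rw [← cj_cj, E.cj_V'_ι]

/-- The vertices whose first edge is the Sylow subgroup. -/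
def First (x : X) : Prop := ∃ ν ∈ E.N, ∃ y ∈ E.Rd (E.b - 1), x = ν * y

theorem first_le {x : X} (h : E.First x) : cj E.V' x ≤ E.S' := by
  obtain ⟨ν, hν, y, hy, rfl⟩ := h
  have hb := E.b_pos
  rw [← cj_cj, ← E.cj_S'_N hν]
  exact cj_mono ((E.below (by omega) hy).trans E.Q'_le_S') ν

theorem first_Rd {x : X} (h : E.First x) : x ∈ E.Rd E.b := by
  obtain ⟨ν, hν, y, hy, rfl⟩ := h
  have hb := E.b_pos
  have := E.Rd_mul (E.N_Rd1 hν) hy
  rwa [show 1 + (E.b - 1) = E.b by omega] at this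

theorem exists_first {x : X} (hx : x ∈ E.Rd E.b) : ∃ g : G, ∃ z, E.First z ∧ x = E.ι g * z := by
  have hb := E.b_pos
  rw [show E.b = E.b - 1 + 1 by omega] at hx
  obtain ⟨g, ν, y, hν, hy, rfl⟩ := E.Rd_succ_left hx
  exact ⟨g, ν * y, ⟨ν, hν, y, hy, rfl⟩, mul_assoc _ _ _⟩

/-- The vertex module of a critical vertex is not centralized by the module. -/
theorem crit_iff {x : X} (hx : x ∈ E.Rd E.b) : E.Crit x ↔ ¬ cj E.V' x ≤ centralizer (E.V' : Set X) := by
  refine ⟨fun h hc => ?_, fun h => ⟨hx, fun hle => h (hle.trans E.Q'_comm_V')⟩⟩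
  obtain ⟨g, z, hz, rfl⟩ := E.exists_first hx
  refine ((E.crit_ι_mul g).mp h).2 fun a ha => ?_
  obtain ⟨s, hs, rfl⟩ := E.first_le hz ha
  refine ⟨s, P.mem_pCore_of_comm hs fun v hv => E.inj ?_, rfl⟩
  rw [map_mul, map_mul]
  have h1 : E.ι g * E.ι s * (E.ι g)⁻¹ ∈ cj E.V' (E.ι g * z) := by
    rw [← cj_cj]
    exact mem_map_of_mem _ ha
  have h2 := mem_centralizer_iff.mp (hc h1) (E.ι g * E.ι v * (E.ι g)⁻¹) (by
    rw [← E.cj_V'_ι g]; exact mem_map_of_mem _ (mem_map_of_mem _ hv))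
  rw [show E.ι g * E.ι v * (E.ι g)⁻¹ * (E.ι g * E.ι s * (E.ι g)⁻¹) = E.ι g * (E.ι v * E.ι s) * (E.ι g)⁻¹ by group,
    show E.ι g * E.ι s * (E.ι g)⁻¹ * (E.ι g * E.ι v * (E.ι g)⁻¹) = E.ι g * (E.ι s * E.ι v) * (E.ι g)⁻¹ by group,
    mul_left_inj, mul_right_inj] at h2
  exact h2.symm

theorem crit_inv {x : X} (h : E.Crit x) : E.Crit x⁻¹ := by
  refine (E.crit_iff (E.Rd_inv h.1)).mpr fun hc => (E.crit_iff h.1).mp h ?_
  rw [le_centralizer_iff]
  have := cj_mono hc x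
  rwa [cj_cj, mul_inv_cancel, cj_one, cj_centralizer] at this

theorem comap_first {x : X} (hf : E.First x) :
    ∃ B : Subgroup G, B ≤ (S : Subgroup G) ∧ B.map E.ι = cj E.V' x := by
  refine ⟨(cj E.V' x).comap E.ι, fun b hb => ?_, map_comap_eq_self ((E.first_le hf).trans (map_le_range _ _))⟩
  obtain ⟨s, hs, he⟩ := E.first_le hf hb
  rwa [← E.inj he]

theorem inf_centralizer_eq {x : X} (hf : E.First x) (h : E.Crit x) :
    E.V' ⊓ centralizer (cj E.V' x : Set X) = E.Z' := by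
  obtain ⟨B, hB, hBm⟩ := E.comap_first hf
  have hBQ : ¬ B ≤ Cfsg.pCore p G := fun e => h.2 (hBm ▸ map_mono e)
  obtain ⟨b, hb, hbQ⟩ := SetLike.not_le_iff_exists.mp hBQ
  refine le_antisymm ?_ (le_inf E.Z'_le_V' ?_)
  · rintro _ ⟨⟨v, hv, rfl⟩, hc⟩
    refine mem_map_of_mem _ (P.fixed_mem_Z (hB hb) hbQ hv (E.inj ?_))
    rw [map_mul, map_mul]
    exact mem_centralizer_iff.mp hc _ (hBm ▸ mem_map_of_mem _ hb)
  · rintro _ ⟨v, hv, rfl⟩
    refine mem_centralizer_iff.mpr fun a ha => ?_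
    obtain ⟨s, hs, rfl⟩ := E.first_le hf ha
    rw [← map_mul, ← map_mul, mem_centralizer_iff.mp hv.2 s hs]

theorem card_inf_centralizer {x : X} (h : E.Crit x) :
    Nat.card ↥(E.V' ⊓ centralizer (cj E.V' x : Set X)) = Nat.card E.Z' := by
  obtain ⟨g, z, hz, rfl⟩ := E.exists_first h.1
  conv_lhs => rw [← E.cj_V'_ι g, ← cj_cj, E.cj_V'_ι, ← cj_centralizer]
  rw [show E.V' ⊓ cj (centralizer (cj E.V' z : Set X)) (E.ι g) =
      cj (E.V' ⊓ centralizer (cj E.V' z : Set X)) (E.ι g) by rw [cj_inf, E.cj_V'_ι],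
    card_cj, E.inf_centralizer_eq hz ((E.crit_ι_mul g).mp h)]

/-- A critical vertex module covers the first edge. -/
theorem sup_Q' {x : X} (hf : E.First x) (h : E.Crit x) : cj E.V' x ⊔ E.Q' = E.S' := by
  obtain ⟨B, hB, hBm⟩ := E.comap_first hf
  have h1 : Nat.card ↥(cj E.V' x ⊓ centralizer (E.V' : Set X)) = Nat.card E.Z' := by
    rw [← E.card_inf_centralizer (E.crit_inv h), ← card_cj (E.V' ⊓ _) x, cj_inf, cj_centralizer,
      cj_cj, mul_inv_cancel, cj_one]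
  have h2 : Nat.card ↥(B ⊓ Cfsg.pCore p G) ≤ Nat.card P.Z := by
    rw [show Nat.card E.Z' = Nat.card P.Z from (Nat.card_congr (equivMapOfInjective P.Z E.ι E.inj).toEquiv).symm] at h1
    refine le_trans (le_of_eq ?_) (le_trans (Subgroup.card_le_of_le (H := (B ⊓ Cfsg.pCore p G).map E.ι) ?_)
      (le_of_eq h1))
    · exact Nat.card_congr (equivMapOfInjective _ E.ι E.inj).toEquiv
    · exact le_inf ((map_mono inf_le_left).trans hBm.le) ((map_mono inf_le_right).trans E.Q'_comm_V')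
  have hBc : Nat.card B = Nat.card (Vm p G) := by
    rw [Nat.card_congr (equivMapOfInjective B E.ι E.inj).toEquiv, hBm, card_cj,
      Nat.card_congr (equivMapOfInjective (Vm p G) E.ι E.inj).toEquiv]
    rfl
  have h3 : B ⊔ Cfsg.pCore p G = (S : Subgroup G) := by
    refine eq_of_le_of_card_ge (sup_le hB (pCore_le_sylow S)) ?_
    have h4 := Cores.card_sup_mul_card_inf B (Cfsg.pCore p G)
    rw [hBc, P.card_V] at h4
    refine Nat.le_of_mul_le_mul_right ?_ (Nat.card_pos (α := P.Z))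
    calc Nat.card (S : Subgroup G) * Nat.card P.Z
        = Fintype.card F * Nat.card P.Z * Nat.card (Cfsg.pCore p G) := by rw [P.R.card_sylow]; ring
      _ = _ := h4.symm
      _ ≤ _ := Nat.mul_le_mul_left _ h2
  rw [← hBm, S', Q', ← Subgroup.map_sup, h3]

theorem commutator_first {x : X} (hf : E.First x) (h : E.Crit x) : ⁅cj E.V' x, E.V'⁆ = E.L' := by
  obtain ⟨B, hB, hBm⟩ := E.comap_first hf
  have hBS : B ⊔ Cfsg.pCore p G = (S : Subgroup G) := Subgroup.map_injective E.inj (by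
    rw [Subgroup.map_sup, hBm]; exact E.sup_Q' hf h)
  rw [← hBm, V', ← map_commutator, P.commutator_eq_L hBS]
  rfl

/-- The line equation. -/
theorem line_eq {x : X} (h : E.Crit x) (hf : E.First x) (hf' : E.First x⁻¹) : cj E.L' x = E.L' := by
  have h2 := congrArg (fun H => cj H x) (E.commutator_first hf' (E.crit_inv h))
  simp only [cj_commutator, cj_cj, mul_inv_cancel, cj_one] at h2
  rw [← h2, Subgroup.commutator_comm]
  exact E.commutator_first hf h

/-- An element of `N` whose module together with the module is not normalized by `G`. -/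
def Nontame (α : X) : Prop := α ∈ E.N ∧ ¬ E.ι.range ≤ normalizer ((E.V' ⊔ cj E.V' α : Subgroup X) : Set X)

theorem exists_nontame : ∃ α, E.Nontame α := by
  by_contra hno
  push Not at hno
  simp only [Nontame, not_and, not_not] at hno
  set H := ⨆ ν : E.N, cj E.V' ν.1 with hH
  have hle : H ≤ E.S' := iSup_le fun ν =>
    (cj_mono (E.V'_le_Q'.trans E.Q'_le_S') _).trans (le_of_eq (E.cj_S'_N ν.2))
  have h1 : E.V' ≤ H :=
    le_trans (le_of_eq (cj_one E.V').symm) (le_iSup (fun ν : E.N => cj E.V' ν.1) 1)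
  refine E.V'_ne_bot (le_bot_iff.mp (h1.trans (le_of_eq (E.bot_of_inv hle ?_ ?_))))
  · intro g hg
    refine cj_eq_self_iff.mp (eq_of_le_of_card_ge ?_ (by rw [card_cj]))
    rw [hH, show cj (⨆ ν : E.N, cj E.V' ν.1) g = _ from Subgroup.map_iSup _ _]
    refine iSup_le fun ν => ?_
    refine le_trans (le_trans ?_ (le_of_eq (cj_eq_self_iff.mpr (hno ν.1 ν.2 hg)))) (sup_le h1 ?_)
    · exact cj_mono le_sup_right g
    · exact le_iSup (fun ν : E.N => cj E.V' ν.1) ν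
  · intro μ hμ
    refine cj_eq_self_iff.mp (eq_of_le_of_card_ge ?_ (by rw [card_cj]))
    rw [hH, show cj (⨆ ν : E.N, cj E.V' ν.1) μ = _ from Subgroup.map_iSup _ _]
    refine iSup_le fun ν => ?_
    refine le_trans (le_of_eq (cj_cj E.V' ν.1 μ)) ?_
    exact le_iSup (fun ν : E.N => cj E.V' ν.1) (⟨μ, hμ⟩ * ν)

theorem normalizer_cj {H K : Subgroup X} (h : K ≤ normalizer (H : Set X)) (g : X) :
    cj K g ≤ normalizer (cj H g : Set X) := by
  rw [← cj_normalizer]; exact cj_mono h g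

theorem range_le_normalizer_V' : E.ι.range ≤ normalizer (E.V' : Set X) := by
  rintro _ ⟨g, rfl⟩
  exact cj_eq_self_iff.mp (E.cj_V'_ι g)

/-- A critical path moves one step backwards through every nontame element. -/
theorem backshift {y' : X} (hy' : y' ∈ E.Rd (E.b - 1)) {g : G} {ν : X} (hν : ν ∈ E.N)
    (h : E.Crit (y' * (E.ι g * ν))) (hf : E.First (y' * (E.ι g * ν)))
    {g' : G} (hg' : g' ∉ P.R.M) {α : X} (hα : E.Nontame α) : E.Crit (α⁻¹ * (E.ι g'⁻¹ * y')) := by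
  have hb := E.b_pos
  set y := y' * (E.ι g * ν) with hy
  set c := E.ι g' * α with hc
  have hnew : α⁻¹ * (E.ι g'⁻¹ * y') = c⁻¹ * y' := by rw [hc, map_inv]; group
  rw [hnew]
  have hRd : c⁻¹ * y' ∈ E.Rd E.b := by
    rw [← hnew]
    have := E.Rd_mul (E.N_Rd1 (inv_mem hα.1)) (E.ι_mul_Rd hy' g'⁻¹)
    rwa [show 1 + (E.b - 1) = E.b by omega] at this
  by_contra hno
  refine hα.2 ?_
  -- the module of `c` lies in the core of `y'`
  have h1 : cj E.V' (c⁻¹ * y') ≤ E.Q' := by_contra fun e => hno ⟨hRd, e⟩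
  have h2 : cj E.V' (y'⁻¹ * c) ≤ E.Q' := by
    by_contra e
    have hR : y'⁻¹ * c ∈ E.Rd E.b := by
      have := E.Rd_inv hRd
      rwa [mul_inv_rev, inv_inv] at this
    have := E.crit_inv ⟨hR, e⟩
    rw [mul_inv_rev, inv_inv] at this
    exact hno this
  set H := cj E.V' c with hH
  have h3 : H ≤ cj E.S' y := by
    have h3' := cj_mono h2 y'
    rw [cj_cj, mul_inv_cancel_left] at h3'
    refine h3'.trans ?_
    have e : cj E.Q' y' = cj E.Q' (y * ν⁻¹) := by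
      rw [show y * ν⁻¹ = y' * E.ι g by rw [hy]; group, ← cj_cj E.Q' (E.ι g), E.cj_Q'_ι]
    rw [e, ← cj_cj]
    refine cj_mono ?_ y
    calc cj E.Q' ν⁻¹ ≤ cj E.S' ν⁻¹ := cj_mono E.Q'_le_S' _
      _ = E.S' := E.cj_S'_N (inv_mem hν)
  have hfi : E.First y⁻¹ :=
    ⟨ν⁻¹, inv_mem hν, E.ι g⁻¹ * y'⁻¹, E.ι_mul_Rd (E.Rd_inv hy') _, by rw [hy, map_inv]; group⟩
  have h4 : ⁅H, cj E.V' y⁆ ≤ E.V' := by
    refine le_trans (commutator_mono h3 le_rfl) ?_
    rw [← cj_commutator, S', V', ← map_commutator]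
    show cj E.L' y ≤ _
    rw [E.line_eq h hf hfi]
    exact E.L'_le_V'
  set D := E.V' ⊔ H with hD
  have hS1 : E.S' ≤ normalizer (cj E.V' α : Set X) := by
    rw [← E.cj_S'_N hα.1]
    exact normalizer_cj ((map_le_range _ _).trans E.range_le_normalizer_V') α
  have hN1 : cj E.V' y ≤ normalizer (D : Set X) := by
    refine fun a ha => cj_eq_self_iff.mp (eq_of_le_of_card_ge ?_ (by rw [card_cj]))
    rw [hD, cj_sup]
    refine sup_le ?_ ?_
    · rw [cj_eq_self_iff.mpr (E.range_le_normalizer_V' (map_le_range _ _ (E.first_le hf ha)))]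
      exact le_sup_left
    · rintro _ ⟨x, hx, rfl⟩
      show a * x * a⁻¹ ∈ E.V' ⊔ H
      have : (⁅x, a⁆)⁻¹ ∈ E.V' := inv_mem (h4 (commutator_mem_commutator hx ha))
      have e : a * x * a⁻¹ = (⁅x, a⁆)⁻¹ * x := by rw [commutatorElement_def]; group
      rw [e]
      exact mul_mem (mem_sup_left this) (mem_sup_right hx)
  have hN2 : cj E.S' (E.ι g') ≤ normalizer (D : Set X) := by
    intro a ha
    refine cj_eq_self_iff.mp ?_
    have ha1 : a ∈ normalizer (E.V' : Set X) := by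
      obtain ⟨_, ⟨s, hs, rfl⟩, rfl⟩ := ha
      exact E.range_le_normalizer_V' ⟨g' * s * g'⁻¹, by simp [MulAut.conj_apply]⟩
    have ha2 : a ∈ normalizer (H : Set X) := by
      rw [hH, hc, ← cj_cj]
      exact normalizer_cj hS1 _ ha
    rw [hD, cj_sup, cj_eq_self_iff.mpr ha1, cj_eq_self_iff.mpr ha2]
  have hN3 : E.Q' ≤ normalizer (D : Set X) :=
    le_trans (le_trans (le_of_eq (E.cj_Q'_ι g').symm) (cj_mono E.Q'_le_S' _)) hN2
  have hN4 : E.S' ≤ normalizer (D : Set X) := (E.sup_Q' hf h) ▸ sup_le hN1 hN3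
  have hN5 : E.ι.range ≤ normalizer (D : Set X) := by
    have htop := P.R.sup_conj_eq_top hg'
    rw [MonoidHom.range_eq_map, ← htop, Subgroup.map_sup, map_cj]
    exact sup_le hN4 hN2
  intro x hx
  obtain ⟨z, rfl⟩ := hx
  have := normalizer_cj hN5 (E.ι g'⁻¹)
    (show E.ι z ∈ cj E.ι.range (E.ι g'⁻¹) from ⟨E.ι (g' * z * g'⁻¹), ⟨_, rfl⟩, by simp [MulAut.conj_apply, mul_assoc]⟩)
  rwa [hD, cj_sup, E.cj_V'_ι, hH, hc, cj_cj, ← mul_assoc, ← map_mul, inv_mul_cancel, map_one, one_mul] at this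

/-- Backward words. -/
inductive BW (α : X) : ℕ → X → Prop
  | zero : BW α 0 1
  | step {k : ℕ} {w : X} (g : G) (hg : g ∉ P.R.M) (h : BW α k w) : BW α (k + 1) (α⁻¹ * (E.ι g⁻¹ * w))

/-- Forward words. -/
inductive PW (α : X) : ℕ → X → Prop
  | one : PW α 1 α
  | step {k : ℕ} {x : X} (g : G) (hg : g ∉ P.R.M) (h : PW α k x) : PW α (k + 1) (x * (E.ι g * α))

variable {α : X} (hα : E.Nontame α)
include hα

theorem BW_Rd {k : ℕ} {w : X} (h : E.BW α k w) : w ∈ E.Rd k := by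
  induction h with
  | zero => exact E.one_mem_Rd0
  | step g _ _ ih =>
    rw [add_comm]
    exact E.Rd_mul (E.N_Rd1 (inv_mem hα.1)) (E.ι_mul_Rd ih _)

theorem BW_first {k : ℕ} {w : X} (h : E.BW α (k + 1) w) : ∃ w₀ ∈ E.Rd k, w = α⁻¹ * w₀ := by
  cases h with
  | step g _ h => exact ⟨_, E.ι_mul_Rd (E.BW_Rd hα h) _, rfl⟩

theorem BW_right {k : ℕ} {w : X} (h : E.BW α k w) {g : G} (hg : g ∉ P.R.M) :
    E.BW α (k + 1) (w * (α⁻¹ * E.ι g⁻¹)) := by
  induction h with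
  | zero =>
    have := BW.step (E := E) (α := α) g hg BW.zero
    simpa using this
  | step g' hg' _ ih =>
    have := BW.step g' hg' ih
    simpa [mul_assoc] using this

theorem PW_Rd {k : ℕ} {x : X} (h : E.PW α k x) : x ∈ E.Rd k := by
  induction h with
  | one => exact E.N_Rd1 hα.1
  | step g _ _ ih => exact E.Rd_mul ih (E.T_Rd1 ⟨g, 1, α, hα.1, by simp⟩)

theorem PW_ends {k : ℕ} {x : X} (h : E.PW α k x) :
    (∃ x₀ ∈ E.Rd (k - 1), x = α * x₀) ∧ ∃ x₁ ∈ E.Rd (k - 1), x = x₁ * α := by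
  induction h with
  | one => exact ⟨⟨1, E.one_mem_Rd0, (mul_one _).symm⟩, 1, E.one_mem_Rd0, (one_mul _).symm⟩
  | step g _ h ih =>
    rename_i k x hg
    have hk : 1 ≤ k := by cases h <;> omega
    obtain ⟨x₀, hx₀, rfl⟩ := ih.1
    refine ⟨⟨x₀ * (E.ι g * α), ?_, mul_assoc _ _ _⟩, α * x₀ * E.ι g, ?_, by group⟩
    · have := E.Rd_mul hx₀ (E.T_Rd1 (t := E.ι g * α) ⟨g, 1, α, hα.1, by simp⟩)
      rwa [show k - 1 + 1 = k + 1 - 1 by omega] at this
    · exact E.Rd_mul_ι (by simpa using E.PW_Rd hα h) g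

theorem first_word {j k : ℕ} {w x : X} (hw : E.BW α j w) (hx : E.PW α k x) (hjk : j + k = E.b) :
    E.First (w * x) := by
  obtain ⟨⟨x₀, hx₀, rfl⟩, -⟩ := E.PW_ends hα hx
  cases j with
  | zero =>
    cases hw
    exact ⟨α, hα.1, x₀, by rwa [show E.b - 1 = k - 1 by omega], by rw [one_mul]⟩
  | succ j =>
    obtain ⟨w₀, hw₀, rfl⟩ := E.BW_first hα hw
    refine ⟨α⁻¹, inv_mem hα.1, w₀ * (α * x₀), ?_, mul_assoc _ _ _⟩
    have := E.Rd_mul hw₀ (E.PW_Rd hα hx)
    rwa [show j + k = E.b - 1 by omega] at this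

theorem first_word_inv {j k : ℕ} {w x : X} (hw : E.BW α j w) (hx : E.PW α k x) (hk : 1 ≤ k)
    (hjk : j + k = E.b) : E.First (w * x)⁻¹ := by
  obtain ⟨-, x₁, hx₁, rfl⟩ := E.PW_ends hα hx
  refine ⟨α⁻¹, inv_mem hα.1, (w * x₁)⁻¹, ?_, by group⟩
  have := E.Rd_inv (E.Rd_mul (E.BW_Rd hα hw) hx₁)
  rwa [show j + (k - 1) = E.b - 1 by omega] at this

theorem exists_BW_crit {k : ℕ} (hk : k ≤ E.b) :
    ∃ w, E.BW α k w ∧ ∃ z ∈ E.Rd (E.b - k), E.Crit (w * z) ∧ E.First (w * z) := by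
  have hb := E.b_pos
  obtain ⟨g₁, hg₁⟩ := P.R.exists_not_mem
  induction k with
  | zero =>
    obtain ⟨x, hx⟩ := E.exists_crit
    obtain ⟨g, z, hz, rfl⟩ := E.exists_first hx.1
    exact ⟨1, BW.zero, z, E.first_Rd hz, by rwa [one_mul, ← E.crit_ι_mul g], by rwa [one_mul]⟩
  | succ k ih =>
    obtain ⟨w, hw, z, hz, hc, hf⟩ := ih (by omega)
    rw [show E.b - k = E.b - (k + 1) + 1 by omega] at hz
    obtain ⟨z', hz', _, ⟨a, a', ν, hν, rfl⟩, rfl⟩ := hz
    have hy' : w * z' ∈ E.Rd (E.b - 1) := by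
      have := E.Rd_mul (E.BW_Rd hα hw) hz'
      rwa [show k + (E.b - (k + 1)) = E.b - 1 by omega] at this
    rw [show w * (z' * (E.ι a * ν * E.ι a')) = w * z' * (E.ι a * ν) * E.ι a' by group] at hc hf
    have hc' := (E.crit_mul_ι a').mp hc
    have hf' : E.First (w * z' * (E.ι a * ν)) := by
      obtain ⟨μ, hμ, y, hy, he⟩ := hf
      exact ⟨μ, hμ, y * E.ι a'⁻¹, E.Rd_mul_ι hy _, by
        have e : w * z' * (E.ι a * ν) = μ * y * (E.ι a')⁻¹ := by rw [← he]; group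
        rw [e, map_inv, mul_assoc]⟩
    refine ⟨_, BW.step g₁ hg₁ hw, z', hz', ?_, α⁻¹, inv_mem hα.1, E.ι g₁⁻¹ * w * z', ?_, by group⟩
    · have := E.backshift hy' hν hc' hf' hg₁ hα
      simpa [mul_assoc] using this
    · rw [mul_assoc]; exact E.ι_mul_Rd hy' _

theorem exists_PW_crit : ∃ x, E.PW α E.b x ∧ E.Crit x := by
  obtain ⟨w, hw, z, hz, hc, -⟩ := E.exists_BW_crit hα le_rfl
  rw [Nat.sub_self] at hz
  obtain ⟨g, rfl⟩ := hz
  have hw' := E.crit_inv ((E.crit_mul_ι g).mp hc)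
  suffices key : ∀ {k : ℕ} {w : X}, E.BW α k w → 1 ≤ k → ∃ h x, E.PW α k x ∧ w⁻¹ = E.ι h * x by
    obtain ⟨h, x, hx, he⟩ := key hw E.b_pos
    rw [he, E.crit_ι_mul] at hw'
    exact ⟨x, hx, hw'⟩
  intro k w hw
  induction hw with
  | zero => omega
  | step g hg hw ih =>
    rename_i k w
    intro _
    rcases Nat.eq_zero_or_pos k with rfl | hk
    · cases hw
      exact ⟨g, α, PW.one, by simp [mul_assoc]⟩
    · obtain ⟨h, x, hx, he⟩ := ih hk
      exact ⟨h, _, PW.step g hg hx, by simp [mul_assoc, he]⟩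

theorem exists_shift {k : ℕ} (hk : k ≤ E.b - 1) :
    ∃ x, E.PW α (E.b - k) x ∧ ∀ w, E.BW α k w → E.Crit (w * x) := by
  have hb := E.b_pos
  induction k with
  | zero =>
    obtain ⟨x, hx, hc⟩ := E.exists_PW_crit hα
    exact ⟨x, hx, fun w hw => by cases hw; rwa [one_mul]⟩
  | succ k ih =>
    obtain ⟨x, hx, hc⟩ := ih (by omega)
    rw [show E.b - k = E.b - (k + 1) + 1 by omega] at hx
    generalize hj : E.b - (k + 1) = j at hx ⊢
    cases hx with
    | one => omega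
    | step g hg hx' =>
      rename_i x'
      refine ⟨x', hx', fun w hw => ?_⟩
      cases hw with
      | step g' hg' hw₀ =>
        rename_i w₀
        have hy' : w₀ * x' ∈ E.Rd (E.b - 1) := by
          have := E.Rd_mul (E.BW_Rd hα hw₀) (E.PW_Rd hα hx')
          rwa [show k + j = E.b - 1 by omega] at this
        have hf := E.first_word hα hw₀ (PW.step g hg hx') (by omega)
        have hcc := hc _ hw₀
        rw [← mul_assoc] at hf hcc
        have := E.backshift hy' hα.1 hcc hf hg' hα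
        simpa [mul_assoc] using this

/-- A subgroup of `S` whose conjugates outside the maximal subgroup coincide is normalized by `G`. -/
theorem fixed_of_const {H : Subgroup X} (hH : H ≤ E.S')
    (h : ∀ g g' : G, g ∉ P.R.M → g' ∉ P.R.M → cj H (E.ι g) = cj H (E.ι g')) :
    E.ι.range ≤ normalizer (H : Set X) := by
  have hmap : (H.comap E.ι).map E.ι = H := map_comap_eq_self (hH.trans (map_le_range _ _))
  have hn : (H.comap E.ι).Normal := P.R.normal_of_const (g₀ := 1) fun g g' hg hg' =>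
    Subgroup.map_injective E.inj (by
      rw [map_cj, map_cj, hmap]
      exact h g g' (by simpa using hg) (by simpa using hg'))
  rintro _ ⟨g, rfl⟩
  rw [← cj_eq_self_iff, ← hmap]
  exact E.cj_ι g

theorem pow_L'_le (k : ℕ) : cj E.L' (α ^ k) ≤ E.Z' :=
  (cj_mono E.L'_le_Z' _).trans (le_of_eq (E.cj_Z'_N (pow_mem hα.1 k)))

theorem exists_line {k : ℕ} (h1 : 1 ≤ k) (hk : k ≤ E.b - 1) :
    E.ι.range ≤ normalizer (cj E.L' (α ^ k) : Set X) ∧
      ∃ x, E.PW α (E.b - k) x ∧ cj E.L' x = cj E.L' (α ^ k) ∧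
        ∀ w, E.BW α k w → cj E.L' (w * x) = E.L' := by
  induction k with
  | zero => omega
  | succ k ih =>
    obtain ⟨x, hx, hc⟩ := E.exists_shift hα hk
    have heq : ∀ w, E.BW α (k + 1) w → cj E.L' (w * x) = E.L' := fun w hw =>
      E.line_eq (hc w hw) (E.first_word hα hw hx (by omega)) (E.first_word_inv hα hw hx (by omega) (by omega))
    have key : ∀ g, g ∉ P.R.M → cj E.L' x = cj (cj E.L' (α ^ (k + 1))) (E.ι g) := by
      intro g hg
      rcases Nat.eq_zero_or_pos k with rfl | hk1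
      · have hw := BW.step (E := E) (α := α) g hg BW.zero
        have := congrArg (fun H => cj H (E.ι g * α)) (heq _ hw)
        simp only [cj_cj] at this
        rw [cj_cj, zero_add, pow_one, ← this, map_inv]
        congr 1
        group
      · obtain ⟨-, x', -, hx', heq'⟩ := ih hk1 (by omega)
        obtain ⟨g₁, hg₁⟩ := P.R.exists_not_mem
        have hex : ∀ n, ∃ w, E.BW α n w := fun n => by
          induction n with
          | zero => exact ⟨1, BW.zero⟩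
          | succ n ihn => obtain ⟨w, hw⟩ := ihn; exact ⟨_, BW.step g₁ hg₁ hw⟩
        obtain ⟨w, hw⟩ := hex k
        have e1 : cj E.L' w⁻¹ = cj E.L' (α ^ k) := by
          rw [← hx']
          conv_lhs => rw [← heq' w hw]
          rw [cj_cj, inv_mul_cancel_left]
        have := congrArg (fun H => cj H (w * (α⁻¹ * E.ι g⁻¹))⁻¹) (heq _ (E.BW_right hα hw hg))
        simp only [cj_cj, inv_mul_cancel_left] at this
        rw [this, cj_cj, pow_succ', show E.ι g * (α * α ^ k) = E.ι g * α * α ^ k from (mul_assoc _ _ _).symm, ← cj_cj E.L' (α ^ k) (E.ι g * α), ← e1, cj_cj, map_inv]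
        congr 1
        group
    have hfix := E.fixed_of_const hα ((E.pow_L'_le hα _).trans (E.Z'_le_V'.trans (E.V'_le_Q'.trans E.Q'_le_S')))
      fun g g' hg hg' => (key g hg).symm.trans (key g' hg')
    refine ⟨hfix, x, hx, ?_, heq⟩
    obtain ⟨g, hg⟩ := P.R.exists_not_mem
    rw [key g hg, cj_eq_self_iff.mpr (hfix ⟨g, rfl⟩)]

theorem b_le_two : E.b ≤ 2 := by
  by_contra hb
  push Not at hb
  obtain ⟨-, x, hx, hxe, -⟩ := E.exists_line hα (k := E.b - 1) (by omega) le_rfl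
  rw [show E.b - (E.b - 1) = 1 by omega] at hx
  cases hx with
  | one =>
    obtain ⟨hfix, -⟩ := E.exists_line hα (k := E.b - 2) (by omega) (by omega)
    have hL : cj E.L' (α ^ (E.b - 2)) = E.L' := by
      have := congrArg (fun H => cj H α⁻¹) hxe
      simp only [cj_cj, inv_mul_cancel, cj_one] at this
      refine Eq.trans ?_ this.symm
      rw [show E.b - 1 = E.b - 2 + 1 by omega, pow_succ', inv_mul_cancel_left]
    rw [hL] at hfix
    refine P.L_not_central ?_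
    have hn : P.L.Normal := by
      refine ⟨fun v hv g => ?_⟩
      obtain ⟨v', hv', he⟩ := (mem_normalizer_iff.mp (hfix ⟨g, rfl⟩) (E.ι v)).mp (mem_map_of_mem _ hv)
      rw [← E.inj (show E.ι v' = E.ι (g * v * g⁻¹) by rw [he, map_mul, map_mul, map_inv])]
      exact hv'
    exact le_center_of_normal P.R P.L fun v hv s hs => mem_centralizer_iff.mp (P.L_le_Z hv).2 s hs
  | step g hg h => cases h

end Amb

end Cfsg.Agent.H31.PushUp
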