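import Cfsg.Agent.H31.PushUp.RankOne
import Cfsg.Agent.H31.SL2Pair.Embedded

/-!
# Sections with an offender are natural modules
-/

set_option autoImplicit false
set_option linter.unusedSectionVars false
set_option maxHeartbeats 800000

namespace Cfsg.Agent.H31.PushUp

open Subgroup Matrix Cfsg.Agent Cfsg.Agent.Cores Cfsg.Agent.H63
open scoped Pointwise commutatorElement

variable {F : Type} [Field F] [Fintype F] {p : ℕ} [Fact p.Prime]

local notation "S2" => Matrix.SpecialLinearGroup (Fin 2) F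
local notation "M2" => Matrix (Fin 2) (Fin 2) F

variable {G : Type*} [Group G] [Finite G] {S : Sylow p G}

/-- The section `hi / lo` is, modulo its fixed points, the natural module. -/
structure PreLayer (R : RankOne S F) (lo hi : Subgroup G) where
  lo_normal : lo.Normal
  hi_normal : hi.Normal
  le : lo ≤ hi
  comm : ∀ a ∈ hi, ∀ b ∈ hi, ⁅a, b⁆ ∈ lo
  e : G →* S2
  ψ : G → (Fin 2 → F)
  surj : Function.Surjective e
  mem_ker : ∀ g : G, e g = 1 ↔ ∀ v ∈ hi, ⁅g, v⁆ ∈ lo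
  ψ_mul : ∀ a ∈ hi, ∀ b ∈ hi, ψ (a * b) = ψ a + ψ b
  ψ_surj : ∀ x, ∃ v ∈ hi, ψ v = x
  ψ_zero : ∀ v ∈ hi, (ψ v = 0 ↔ ∀ g : G, ⁅g, v⁆ ∈ lo)
  equiv : ∀ g : G, ∀ v ∈ hi, ψ (g * v * g⁻¹) = (e g : M2).mulVec (ψ v)
  mem_unitri : ∀ s ∈ (S : Subgroup G), e s ∈ Linear.unitriSL 2 F
  surj_S : ∀ u ∈ Linear.unitriSL 2 F, ∃ s ∈ (S : Subgroup G), e s = u
  ker_S : ∀ s ∈ (S : Subgroup G), (e s = 1 ↔ s ∈ Cfsg.pCore p G)
  ker_le : e.ker ≤ R.M
  mem_M : ∀ g : G, g ∈ R.M ↔ (e g : M2) 1 0 = 0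

variable (R : RankOne S F)

section Construct

variable {Mod : Type*} [AddCommGroup Mod] [DistribMulAction G Mod] [Finite Mod]

/-- The representation of `G` on a module with an offender. -/
theorem exists_rep_aux (hV : ∀ v : Mod, p • v = 0) (hQ : ∀ x ∈ Cfsg.pCore p G, ∀ v : Mod, x • v = v)
    (A : Subgroup G) (hAS : A ≤ S) (hAQ : ¬ A ≤ Cfsg.pCore p G)
    (hcomm : ∀ a ∈ A, ∀ b ∈ A, ⁅a, b⁆ ∈ Cfsg.pCore p G) (hexp : ∀ a ∈ A, a ^ p ∈ Cfsg.pCore p G)
    (hoff : Nat.card Mod * Nat.card ↥(A ⊓ Cfsg.pCore p G) ≤ Nat.card A * Nat.card (fixS Mod A))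
    (hmov : ∃ v : Mod, (∀ s ∈ (S : Subgroup G), s • v = v) ∧ ∃ g : G, g • v ≠ v) :
    ∃ (F' : Type) (_ : Field F') (_ : Fintype F') (φ : G →* Matrix.SpecialLinearGroup (Fin 2) F')
      (ψ₀ : Mod →+ (Fin 2 → F')), Fintype.card F' = Fintype.card F ∧ Function.Surjective φ ∧
      (∀ g, φ g = 1 ↔ ∀ v : Mod, g • v = v) ∧ Function.Surjective ψ₀ ∧
      (∀ v, ψ₀ v = 0 ↔ ∀ g : G, g • v = v) ∧
      (∀ g v, ψ₀ (g • v) = (φ g : Matrix (Fin 2) (Fin 2) F').mulVec (ψ₀ v)) ∧ φ.ker ≤ R.M ∧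
      (∀ s ∈ (S : Subgroup G), (φ s = 1 ↔ s ∈ Cfsg.pCore p G)) := by
  classical
  have := R.char
  let ρ : G →* Equiv.Perm Mod := MulAction.toPermHom G Mod
  set N := ρ.ker
  have hN : ∀ g, g ∈ N ↔ ∀ v : Mod, g • v = v := fun g =>
    ⟨fun h v => DFunLike.congr_fun (MonoidHom.mem_ker.mp h) v,
      fun h => MonoidHom.mem_ker.mpr (Equiv.ext h)⟩
  have hNM : N ≤ R.M := by
    refine (R.normal_cases N).resolve_right fun h => ?_
    obtain ⟨v, hv, g, hg⟩ := hmov
    obtain ⟨s, hs, x, hx, rfl⟩ := mem_sup_of_normal_right.mp (h ▸ mem_top g)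
    exact hg (by rw [mul_smul, (hN x).mp hx, hv s hs])
  have hNS : ∀ s ∈ (S : Subgroup G), (s ∈ N ↔ s ∈ Cfsg.pCore p G) := fun s hs =>
    ⟨fun h => R.core_inf_le ⟨hs, normal_le_normalCore.mpr hNM h⟩, fun h => (hN s).mpr (hQ s h)⟩
  let P := G ⧸ N
  let φk : P →* Equiv.Perm Mod := QuotientGroup.lift N ρ le_rfl
  letI : DistribMulAction P Mod :=
    { smul := fun x v => φk x v
      one_smul := fun v => by show φk 1 v = v; rw [map_one]; rfl
      mul_smul := fun x y v => by show φk (x * y) v = φk x (φk y v); rw [map_mul]; rfl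
      smul_zero := fun x => by
        obtain ⟨g, rfl⟩ := QuotientGroup.mk_surjective x
        exact smul_zero g
      smul_add := fun x v w => by
        obtain ⟨g, rfl⟩ := QuotientGroup.mk_surjective x
        exact smul_add g v w }
  have hsm : ∀ (g : G) (v : Mod), (QuotientGroup.mk' N g) • v = g • v := fun _ _ => rfl
  have hfaith : ∀ g : P, (∀ v : Mod, g • v = v) → g = 1 := by
    intro g hg
    obtain ⟨g, rfl⟩ := QuotientGroup.mk'_surjective N g
    exact (QuotientGroup.eq_one_iff _).mpr ((hN g).mpr fun v => (hsm g v).symm.trans (hg v))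
  set mk := QuotientGroup.mk' N with hmk
  have hmks : Function.Surjective mk := QuotientGroup.mk'_surjective N
  have hmk1 : ∀ g, mk g = 1 ↔ g ∈ N := fun g => QuotientGroup.eq_one_iff g
  let T : Sylow p P := S.mapSurjective hmks
  have hTc : (T : Subgroup P) = (S : Subgroup G).map mk := Sylow.coe_mapSurjective hmks S
  obtain ⟨a₀, ha₀, ha₀Q⟩ := SetLike.not_le_iff_exists.mp hAQ
  have hT1 : (T : Subgroup P) ≠ ⊥ := fun h => ha₀Q ((hNS _ (hAS ha₀)).mp ((hmk1 a₀).mp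
    (mem_bot.mp (h ▸ hTc ▸ mem_map_of_mem mk (hAS ha₀)))))
  have hY : Cfsg.IsStronglyPEmbedded p (R.M.map mk) := by
    refine FusionSys.isStronglyPEmbedded_iff.mpr ⟨?_, ?_, T, ?_⟩
    · haveI : Nontrivial (T : Subgroup P) := (nontrivial_iff_ne_bot _).mpr hT1
      obtain ⟨k, hk, hcard⟩ := T.2.nontrivial_iff_card.mp inferInstance
      exact ((dvd_pow_self p hk.ne').trans (dvd_of_eq hcard.symm)).trans (card_subgroup_dvd_card _)
    · intro h
      have := congrArg (Subgroup.comap mk) h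
      rw [comap_map_eq, QuotientGroup.ker_mk', sup_eq_left.mpr hNM, comap_top] at this
      exact R.hM.1 this
    · intro X hX hne x hx
      obtain ⟨g, rfl⟩ := hmks x
      obtain ⟨y', hy', hy1⟩ := X.bot_or_exists_ne_one.resolve_left hne
      obtain ⟨y, hy, rfl⟩ := hTc ▸ hX hy'
      refine mem_map_of_mem mk (by_contra fun hg => hy1 ?_)
      have hc : mk (g⁻¹ * y * g) ∈ (S : Subgroup G).map mk := by
        rw [← hTc, map_mul, map_mul, map_inv]
        have := (mem_normalizer_iff.mp (inv_mem hx) (mk y)).mp hy'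
        rw [inv_inv] at this
        exact hX this
      obtain ⟨s, hs, hse⟩ := hc
      have hgy : g⁻¹ * y * g ∈ R.M := by
        have : s⁻¹ * (g⁻¹ * y * g) ∈ N := (hmk1 _).mp (by rw [map_mul, map_inv, hse, inv_mul_cancel])
        simpa using mul_mem (R.SM hs) (hNM this)
      obtain ⟨k, hk⟩ := S.2 ⟨y, hy⟩
      have hker := R.mem_ker_of_conj hg (R.SM hy) (k := k) (by simpa using congrArg Subtype.val hk) hgy
      exact (hmk1 y).mpr ((hNS y hy).mpr (R.inf_ker_le ⟨hy, hker⟩))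
  have hgen : Subgroup.closure {x : P | ∃ k : ℕ, orderOf x = p ^ k} = ⊤ := by
    rw [← map_top_of_surjective mk hmks, ← R.normalClosure_eq_top, map_normalClosure _ mk hmks]
    haveI : (Subgroup.closure {x : P | ∃ k : ℕ, orderOf x = p ^ k}).Normal := by
      refine ⟨fun x hx g => ?_⟩
      have : Subgroup.closure {x : P | ∃ k : ℕ, orderOf x = p ^ k} ≤
          (Subgroup.closure {x : P | ∃ k : ℕ, orderOf x = p ^ k}).comap (MulAut.conj g).toMonoidHom :=
        (Subgroup.closure_le _).mpr fun y ⟨k, hk⟩ => Subgroup.subset_closure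
          ⟨k, ((MulAut.conj g).orderOf_eq y).trans hk⟩
      exact this hx
    refine le_antisymm ((closure_le _).mpr ?_) (normalClosure_le_normal ?_)
    · intro x ⟨k, hk⟩
      have hxp : IsPGroup p (zpowers x) := IsPGroup.iff_card.mpr ⟨k, by rw [Nat.card_zpowers, hk]⟩
      obtain ⟨T', hT'⟩ := hxp.exists_le_sylow
      obtain ⟨h, hh⟩ := MulAction.exists_smul_eq P T T'
      have hx := hT' (mem_zpowers x)
      rw [← hh, Sylow.coe_subgroup_smul, hTc] at hx
      obtain ⟨t, ht, rfl⟩ := hx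
      exact normalClosure_normal.conj_mem t (subset_normalClosure ht) h
    · rintro x hx
      obtain ⟨k, hk⟩ := T.2 ⟨x, hTc.symm ▸ hx⟩
      obtain ⟨j, -, hj⟩ := (Nat.dvd_prime_pow (Fact.out : p.Prime)).mp
        (orderOf_dvd_of_pow_eq_one (show x ^ p ^ k = 1 by simpa using congrArg Subtype.val hk))
      exact subset_closure ⟨j, hj⟩
  have hmapA : A.map mk ≤ T := hTc ▸ map_mono hAS
  obtain ⟨F', iF', iFt', e₀, ψ₀, hψs, hψ0, hψe⟩ := SL2Pair.sl2_of_embedded (P := P) hV hfaith hY hgen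
    ⟨A.map mk, fun h => ha₀Q ((hNS _ (hAS ha₀)).mp ((hmk1 a₀).mp
      (mem_bot.mp (h ▸ mem_map_of_mem mk ha₀)))),
    by
      rintro _ ⟨a, ha, rfl⟩ _ ⟨b, hb, rfl⟩
      rw [← commutatorElement_eq_one_iff_mul_comm, ← map_commutatorElement, hmk1]
      exact (hN _).mpr (hQ _ (hcomm a ha b hb)),
    by
      rintro _ ⟨a, ha, rfl⟩
      rw [← map_pow, hmk1]
      exact (hN _).mpr (hQ _ (hexp a ha)),
    by
      have hfix : Nat.card (fixS Mod (A.map mk)) = Nat.card (fixS Mod A) := by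
        congr 1
        exact congrArg (fun D : AddSubgroup Mod => (D : Type _)) (AddSubgroup.ext fun v =>
          ⟨fun h a ha => h _ ⟨a, ha, rfl⟩, fun h => by rintro _ ⟨a, ha, rfl⟩; exact h a ha⟩)
      have hker : Nat.card A = Nat.card (A.map mk) * Nat.card ↥(A ⊓ Cfsg.pCore p G) := by
        let f := mk.comp A.subtype
        have hk : f.ker = (A ⊓ Cfsg.pCore p G).subgroupOf A := by
          ext x
          rw [MonoidHom.mem_ker, mem_subgroupOf]
          exact ⟨fun h => ⟨x.2, (hNS _ (hAS x.2)).mp ((hmk1 _).mp h)⟩,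
            fun h => (hmk1 _).mpr ((hNS _ (hAS x.2)).mpr h.2)⟩
        have hr : f.range = A.map mk := by rw [MonoidHom.range_comp, range_subtype]
        have := f.ker.card_mul_index
        rw [index_ker, hr, hk, Nat.card_congr (subgroupOfEquivOfLe inf_le_left).toEquiv] at this
        rw [← this, mul_comm]
      unfold mS
      rw [hfix]
      rw [hker, mul_right_comm] at hoff
      exact Nat.le_of_mul_le_mul_right hoff Nat.card_pos⟩
  haveI hchar : CharP F' p := CharP.charP_iff_prime_eq_zero Fact.out |>.mpr (by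
    obtain ⟨v, hv⟩ := hψs fun _ => 1
    have := congrFun (congrArg ψ₀ (hV v)) 0
    rw [map_nsmul, hv, map_zero] at this
    simpa [nsmul_eq_mul] using this)
  have hq : Fintype.card F' = Fintype.card F := by
    have h1 : Nat.card T = Fintype.card F := by
      let f := mk.comp (S : Subgroup G).subtype
      have hk : f.ker = (Cfsg.pCore p G).subgroupOf S := by
        ext x
        rw [MonoidHom.mem_ker, mem_subgroupOf]
        exact (hmk1 _).trans (hNS _ x.2)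
      have hr : f.range = T := by rw [MonoidHom.range_comp, range_subtype, hTc]
      have h := f.ker.card_mul_index
      rw [index_ker, hr, hk, Nat.card_congr (subgroupOfEquivOfLe (pCore_le_sylow S)).toEquiv, R.card_sylow] at h
      exact Nat.eq_of_mul_eq_mul_left Nat.card_pos h
    have h2 := (Linear.unitriSylowSL 2 F' p).card_eq_multiplicity
    rw [show Nat.card (Linear.unitriSylowSL 2 F' p) = Fintype.card F' from card_unitri_two (p := p),
      ← Nat.card_congr e₀.toEquiv, ← T.card_eq_multiplicity, h1] at h2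
    exact h2
  refine ⟨F', iF', iFt', e₀.toMonoidHom.comp mk, ψ₀, hq, e₀.surjective.comp hmks, fun g => ?_, hψs,
    fun v => ?_, fun g v => ?_, fun g hg => ?_, fun s hs => ?_⟩
  · show e₀ (mk g) = 1 ↔ _
    rw [e₀.map_eq_one_iff, hmk1, hN]
  · rw [hψ0]
    exact ⟨fun h g => h (mk g), fun h x => by obtain ⟨g, rfl⟩ := hmks x; exact h g⟩
  · rw [← hsm g v, hψe]; rfl
  · exact hNM ((hmk1 g).mp (e₀.map_eq_one_iff.mp hg))
  · show e₀ (mk s) = 1 ↔ _
    rw [e₀.map_eq_one_iff, hmk1, hNS s hs]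

/-- The representation of `G` on a module with an offender. -/
theorem exists_natural_rep (hV : ∀ v : Mod, p • v = 0) (hQ : ∀ x ∈ Cfsg.pCore p G, ∀ v : Mod, x • v = v)
    (A : Subgroup G) (hAS : A ≤ S) (hAQ : ¬ A ≤ Cfsg.pCore p G)
    (hcomm : ∀ a ∈ A, ∀ b ∈ A, ⁅a, b⁆ ∈ Cfsg.pCore p G) (hexp : ∀ a ∈ A, a ^ p ∈ Cfsg.pCore p G)
    (hoff : Nat.card Mod * Nat.card ↥(A ⊓ Cfsg.pCore p G) ≤ Nat.card A * Nat.card (fixS Mod A))
    (hmov : ∃ v : Mod, (∀ s ∈ (S : Subgroup G), s • v = v) ∧ ∃ g : G, g • v ≠ v) :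
    ∃ (e : G →* S2) (ψ : Mod →+ (Fin 2 → F)), Function.Surjective e ∧
      (∀ g, e g = 1 ↔ ∀ v : Mod, g • v = v) ∧ Function.Surjective ψ ∧
      (∀ v, ψ v = 0 ↔ ∀ g : G, g • v = v) ∧ (∀ g v, ψ (g • v) = (e g : M2).mulVec (ψ v)) ∧
      (∀ s ∈ (S : Subgroup G), e s ∈ Linear.unitriSL 2 F) ∧
      (∀ u ∈ Linear.unitriSL 2 F, ∃ s ∈ (S : Subgroup G), e s = u) ∧
      (∀ s ∈ (S : Subgroup G), (e s = 1 ↔ s ∈ Cfsg.pCore p G)) ∧
      e.ker ≤ R.M ∧ (∀ g, g ∈ R.M ↔ (e g : M2) 1 0 = 0) := by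
  classical
  have := R.char
  obtain ⟨F', iF', iFt', φ, ψ₀, hq, hφs, hφ1, hψs, hψ0, hψe, hφM, hφS⟩ :=
    exists_rep_aux R hV hQ A hAS hAQ hcomm hexp hoff hmov
  let θ : F' ≃+* F := FiniteField.ringEquivOfCardEq hq
  let Θ : Matrix.SpecialLinearGroup (Fin 2) F' →* S2 := Matrix.SpecialLinearGroup.map θ.toRingHom
  have hΘs : Function.Surjective Θ := fun x =>
    ⟨Matrix.SpecialLinearGroup.map θ.symm.toRingHom x, by ext i j; simp [Θ]⟩
  let e₁ := Θ.comp φ
  obtain ⟨c, hc⟩ := MulAction.exists_smul_eq S2 (S.mapSurjective (f := e₁) (hΘs.comp hφs))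
    (Linear.unitriSylowSL 2 F p)
  have hcS : ((Linear.unitriSL 2 F) : Subgroup S2) = (S : Subgroup G).map ((MulAut.conj c).toMonoidHom.comp e₁) := by
    rw [← Linear.unitriSylowSL_coe (n := 2) (F := F) p, ← hc, Sylow.coe_subgroup_smul, Sylow.coe_mapSurjective]
    ext x
    constructor
    · rintro ⟨_, ⟨u, hu, rfl⟩, rfl⟩; exact ⟨u, hu, rfl⟩
    · rintro ⟨u, hu, rfl⟩; exact ⟨_, ⟨u, hu, rfl⟩, rfl⟩
  let e : G →* S2 := (MulAut.conj c).toMonoidHom.comp e₁
  let ψ : Mod →+ (Fin 2 → F) := AddMonoidHom.mk' (fun v => (c : M2).mulVec (θ ∘ ψ₀ v)) (fun a b => by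
    rw [← Matrix.mulVec_add]
    congr 1
    ext i; simp)
  have he1 : ∀ g, e g = 1 ↔ φ g = 1 := fun g => by
    show c * Θ (φ g) * c⁻¹ = 1 ↔ _
    rw [conj_eq_one_iff]
    constructor
    · intro h
      ext i j
      have := congrArg (fun x : S2 => (x : M2) i j) h
      exact θ.injective (by simpa [Θ, Matrix.one_apply, apply_ite θ] using this)
    · intro h
      rw [h, map_one]
  have hmem : ∀ s ∈ (S : Subgroup G), e s ∈ Linear.unitriSL 2 F := fun s hs => hcS ▸ mem_map_of_mem e hs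
  have hsurS : ∀ u ∈ Linear.unitriSL 2 F, ∃ s ∈ (S : Subgroup G), e s = u := fun u hu => mem_map.mp (hcS ▸ hu)
  have hkerM : e.ker ≤ R.M := fun g hg => hφM ((he1 g).mp hg)
  have hes : Function.Surjective e := (MulAut.conj c).surjective.comp (hΘs.comp hφs)
  refine ⟨e, ψ, hes, fun g => (he1 g).trans (hφ1 g), fun x => ?_, fun v => ?_, fun g v => ?_, hmem, hsurS,
    fun s hs => (he1 s).trans (hφS s hs), hkerM, fun g => ?_⟩
  · obtain ⟨v, hv⟩ := hψs (θ.symm ∘ ((c⁻¹ : S2) : M2).mulVec x)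
    refine ⟨v, ?_⟩
    show (c : M2).mulVec (θ ∘ ψ₀ v) = x
    rw [hv, ← Function.comp_assoc, show (θ : F' → F) ∘ θ.symm = id from funext θ.apply_symm_apply, Function.id_comp,
      Matrix.mulVec_mulVec, ← Matrix.SpecialLinearGroup.coe_mul, mul_inv_cancel, Matrix.SpecialLinearGroup.coe_one,
      Matrix.one_mulVec]
  · have h1 : ψ v = 0 ↔ ψ₀ v = 0 := by
      constructor
      · intro h
        have := congrArg ((c⁻¹ : S2) : M2).mulVec (show (c : M2).mulVec (θ ∘ ψ₀ v) = 0 from h)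
        rw [Matrix.mulVec_mulVec, ← Matrix.SpecialLinearGroup.coe_mul, inv_mul_cancel,
          Matrix.SpecialLinearGroup.coe_one, Matrix.one_mulVec, Matrix.mulVec_zero] at this
        ext i
        exact θ.injective (by simpa using congrFun this i)
      · intro h
        show (c : M2).mulVec (θ ∘ ψ₀ v) = 0
        rw [h, show θ ∘ (0 : Fin 2 → F') = 0 from funext fun i => map_zero θ, Matrix.mulVec_zero]
    rw [h1, hψ0]
  · show (c : M2).mulVec (θ ∘ ψ₀ (g • v)) = ((c * Θ (φ g) * c⁻¹ : S2) : M2).mulVec ((c : M2).mulVec (θ ∘ ψ₀ v))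
    rw [Matrix.mulVec_mulVec, ← Matrix.SpecialLinearGroup.coe_mul, inv_mul_cancel_right,
      Matrix.SpecialLinearGroup.coe_mul, ← Matrix.mulVec_mulVec]
    congr 1
    rw [hψe]
    funext i
    exact RingHom.map_mulVec θ.toRingHom _ _ i
  · constructor
    · intro hg
      refine upper_of_ne_top (H := R.M.map e) (fun u hu => ?_) (fun h => ?_) (mem_map_of_mem e hg)
      · obtain ⟨s, hs, rfl⟩ := hsurS u hu; exact mem_map_of_mem e (R.SM hs)
      · have := congrArg (Subgroup.comap e) h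
        rw [comap_map_eq, sup_eq_left.mpr hkerM, comap_top] at this
        exact R.hM.1 this
    · intro h10
      refine R.mem_of_conj_le ?_
      rintro _ ⟨s, hs, rfl⟩
      obtain ⟨a, b, cc⟩ := Linear.unitriSL_two_eq.mp (hmem s hs)
      have hdet := Linear.SL_det_two (e g)
      rw [h10, mul_zero, sub_zero] at hdet
      obtain ⟨i1, i2, i3, i4⟩ := Linear.SL_inv_entries (e g)
      have hgu : e (g * s * g⁻¹) ∈ Linear.unitriSL 2 F := by
        rw [map_mul, map_mul, map_inv]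
        refine Linear.unitriSL_two_eq.mpr ⟨?_, ?_, ?_⟩ <;>
          simp [Linear.SL_mul_entries, h10, a, b, cc, i1, i2, i3, i4] <;>
          linear_combination hdet
      obtain ⟨s', hs', he'⟩ := hsurS _ hgu
      have := mul_mem (hkerM (show g * s * g⁻¹ * s'⁻¹ ∈ e.ker by
        rw [MonoidHom.mem_ker, map_mul, ← he', ← map_mul, mul_inv_cancel, map_one])) (R.SM hs')
      rw [inv_mul_cancel_right] at this
      exact this

end Construct

/-- A section with an offender is a natural layer. -/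
theorem exists_preLayer (lo hi : Subgroup G) [hlo : lo.Normal] [hhi : hi.Normal] (hle : lo ≤ hi)
    (hab : ∀ a ∈ hi, ∀ b ∈ hi, ⁅a, b⁆ ∈ lo) (hpow : ∀ a ∈ hi, a ^ p ∈ lo)
    (hQ : ∀ x ∈ Cfsg.pCore p G, ∀ v ∈ hi, ⁅x, v⁆ ∈ lo) (A : Subgroup G) (hAS : A ≤ S)
    (hAQ : ¬ A ≤ Cfsg.pCore p G) (hcomm : ∀ a ∈ A, ∀ b ∈ A, ⁅a, b⁆ ∈ Cfsg.pCore p G)
    (hexp : ∀ a ∈ A, a ^ p ∈ Cfsg.pCore p G) (D : Subgroup G) (hloD : lo ≤ D) (hD : D ≤ hi)
    (hAD : ∀ a ∈ A, ∀ d ∈ D, ⁅a, d⁆ ∈ lo)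
    (hoff : Nat.card hi * Nat.card ↥(A ⊓ Cfsg.pCore p G) ≤ Nat.card A * Nat.card D)
    (hmov : ∃ w ∈ hi, (∀ s ∈ (S : Subgroup G), ⁅s, w⁆ ∈ lo) ∧ ∃ g : G, ⁅g, w⁆ ∉ lo) :
    Nonempty (PreLayer R lo hi) := by
  classical
  set H := lo.subgroupOf hi with hH
  let cl : hi → hi ⧸ H := QuotientGroup.mk
  have hrel : ∀ a b : hi, cl a = cl b ↔ (a : G)⁻¹ * b ∈ lo := fun a b => QuotientGroup.eq
  letI : CommGroup (hi ⧸ H) := { (inferInstance : Group (hi ⧸ H)) with
    mul_comm := fun a b => by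
      obtain ⟨a, rfl⟩ := QuotientGroup.mk_surjective a
      obtain ⟨b, rfl⟩ := QuotientGroup.mk_surjective b
      refine (hrel (a * b) (b * a)).mpr ?_
      have := hab _ (inv_mem b.2) _ (inv_mem a.2)
      rw [commutatorElement_def] at this
      simpa [mul_assoc] using this }
  let cj : G → (hi ⧸ H →* hi ⧸ H) := fun g => QuotientGroup.map H H (MulAut.conjNormal g).toMonoidHom
    (fun x hx => by
      show ((MulAut.conjNormal g x : hi) : G) ∈ lo
      rw [MulAut.conjNormal_apply]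
      exact hlo.conj_mem _ hx g)
  letI : DistribMulAction G (Additive (hi ⧸ H)) :=
    { smul := fun g x => Additive.ofMul (cj g x.toMul)
      one_smul := fun x => by
        obtain ⟨v, rfl⟩ := QuotientGroup.mk_surjective x.toMul
        show Additive.ofMul (cl (MulAut.conjNormal (1 : G) v)) = Additive.ofMul (cl v)
        rw [map_one]; rfl
      mul_smul := fun g h x => by
        obtain ⟨v, rfl⟩ := QuotientGroup.mk_surjective x.toMul
        show Additive.ofMul (cl (MulAut.conjNormal (g * h) v)) =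
          Additive.ofMul (cl (MulAut.conjNormal g (MulAut.conjNormal h v)))
        rw [map_mul]; rfl
      smul_zero := fun g => congrArg Additive.ofMul (map_one (cj g))
      smul_add := fun g x y => congrArg Additive.ofMul (map_mul (cj g) x.toMul y.toMul) }
  let m : hi → Additive (hi ⧸ H) := fun v => Additive.ofMul (cl v)
  have hms : Function.Surjective m := fun x => ⟨_, congrArg Additive.ofMul (QuotientGroup.out_eq' x.toMul)⟩
  have hfix : ∀ (g : G) (v : hi), g • m v = m v ↔ ⁅g, (v : G)⁆ ∈ lo := by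
    intro g v
    refine (Additive.ofMul.injective.eq_iff).trans ((hrel (MulAut.conjNormal g v) v).trans ?_)
    rw [MulAut.conjNormal_apply]
    have e : ⁅g, (v : G)⁆ = (v : G) * ((g * v * g⁻¹)⁻¹ * v)⁻¹ * (v : G)⁻¹ := by
      rw [commutatorElement_def]; group
    rw [e]
    constructor
    · exact fun h => hlo.conj_mem _ (inv_mem h) _
    · intro h
      have := hlo.conj_mem _ h (v : G)⁻¹
      exact inv_mem_iff.mp (by simpa [mul_assoc] using this)
  have hV : ∀ x : Additive (hi ⧸ H), p • x = 0 := fun x => by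
    obtain ⟨v, rfl⟩ := hms x
    show Additive.ofMul ((cl v) ^ p) = Additive.ofMul (1 : hi ⧸ H)
    rw [← QuotientGroup.mk_pow, (QuotientGroup.eq_one_iff _).mpr]
    exact hpow v v.2
  have hcardD : Nat.card hi * Nat.card ↥(A ⊓ Cfsg.pCore p G) ≤ Nat.card A * Nat.card D := hoff
  obtain ⟨e, ψ, hes, hek, hψs, hψ0, hψe, hmem, hsurS, hkerS, hkerM, hmemM⟩ :=
    exists_natural_rep R (Mod := Additive (hi ⧸ H)) hV
      (fun x hx y => by obtain ⟨v, rfl⟩ := hms y; exact (hfix x v).mpr (hQ x hx v v.2))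
      A hAS hAQ hcomm hexp
      (by
        let D' : AddSubgroup (Additive (hi ⧸ H)) := Subgroup.toAddSubgroup ((D.subgroupOf hi).map (QuotientGroup.mk' H))
        have hD' : D' ≤ fixS (Additive (hi ⧸ H)) A := by
          rintro x ⟨v, hv, hvx⟩ a ha
          have : x = m v := congrArg Additive.ofMul hvx.symm
          rw [this]
          exact (hfix a v).mpr (hAD a ha v hv)
        have hsub : H ≤ D.subgroupOf hi := fun v hv => hloD hv
        have h1 : Nat.card (hi ⧸ H) * Nat.card H = Nat.card hi := (card_eq_card_quotient_mul_card_subgroup H).symm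
        have h2 : Nat.card D' * Nat.card H = Nat.card D := by
          rw [← Nat.card_congr (subgroupOfEquivOfLe hD).toEquiv]
          let f := (QuotientGroup.mk' H).comp (D.subgroupOf hi).subtype
          have hk : f.ker = H.subgroupOf (D.subgroupOf hi) := by
            ext z; rw [MonoidHom.mem_ker, mem_subgroupOf]; exact QuotientGroup.eq_one_iff _
          have hr : f.range = (D.subgroupOf hi).map (QuotientGroup.mk' H) := by
            rw [MonoidHom.range_comp, range_subtype]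
          have := f.ker.card_mul_index
          rw [index_ker, hr, hk, Nat.card_congr (subgroupOfEquivOfLe hsub).toEquiv, mul_comm] at this
          exact this
        refine le_trans ?_ (Nat.mul_le_mul_left _ (Nat.card_le_card_of_injective _ (AddSubgroup.inclusion_injective hD')))
        refine Nat.le_of_mul_le_mul_right ?_ (Nat.card_pos (α := H))
        rw [mul_right_comm, show Nat.card (Additive (hi ⧸ H)) = Nat.card (hi ⧸ H) from rfl, h1, mul_assoc, h2]
        exact hcardD)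
      (by
        obtain ⟨w, hw, hwS, g, hg⟩ := hmov
        exact ⟨m ⟨w, hw⟩, fun s hs => (hfix s _).mpr (hwS s hs), g, fun h => hg ((hfix g ⟨w, hw⟩).mp h)⟩)
  have hval : ∀ (v : G) (hv : v ∈ hi),
      (if h : v ∈ hi then ψ (m ⟨v, h⟩) else 0) = ψ (m ⟨v, hv⟩) := fun v hv => dif_pos hv
  refine ⟨⟨hlo, hhi, hle, hab, e, fun v => if h : v ∈ hi then ψ (m ⟨v, h⟩) else 0, hes, fun g => ?_,
    fun a ha b hb => ?_, fun x => ?_, fun v hv => ?_, fun g v hv => ?_, hmem, hsurS, hkerS, hkerM, hmemM⟩⟩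
  · rw [hek]
    exact ⟨fun h v hv => (hfix g ⟨v, hv⟩).mp (h _), fun h x => by
      obtain ⟨v, rfl⟩ := hms x; exact (hfix g v).mpr (h v v.2)⟩
  · rw [hval _ (mul_mem ha hb), hval _ ha, hval _ hb, ← map_add]
    rfl
  · obtain ⟨y, hy⟩ := hψs x
    obtain ⟨v, rfl⟩ := hms y
    exact ⟨v, v.2, (hval v v.2).trans hy⟩
  · rw [hval v hv, hψ0]
    exact ⟨fun h g => (hfix g ⟨v, hv⟩).mp (h g), fun h g => (hfix g ⟨v, hv⟩).mpr (h g)⟩
  · rw [hval v hv, hval _ (hhi.conj_mem v hv g), ← hψe]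
    exact congrArg (fun z => ψ (m z)) (Subtype.ext (MulAut.conjNormal_apply g ⟨v, hv⟩).symm)

end Cfsg.Agent.H31.PushUp

namespace Cfsg.Agent.H31.PushUp

open Subgroup Matrix Cfsg.Agent Cfsg.Agent.Cores
open scoped Pointwise commutatorElement

variable {F : Type} [Field F] [Fintype F] {p : ℕ} [Fact p.Prime]
variable {G : Type*} [Group G] [Finite G] {S : Sylow p G} {R : RankOne S F} {lo hi : Subgroup G}

local notation "S2" => Matrix.SpecialLinearGroup (Fin 2) F
local notation "M2" => Matrix (Fin 2) (Fin 2) F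

namespace PreLayer

variable (N : PreLayer R lo hi)
include N

theorem ψ_one : N.ψ 1 = 0 := by
  have := N.ψ_mul 1 hi.one_mem 1 hi.one_mem
  rw [mul_one] at this
  exact left_eq_add.mp this

theorem ψ_inv {v : G} (hv : v ∈ hi) : N.ψ v⁻¹ = -N.ψ v := by
  have := N.ψ_mul v hv v⁻¹ (inv_mem hv)
  rw [mul_inv_cancel, N.ψ_one] at this
  exact eq_neg_of_add_eq_zero_right this.symm

theorem comm_mem {g v : G} (hv : v ∈ hi) : ⁅g, v⁆ ∈ hi := by
  rw [commutatorElement_def]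
  exact mul_mem (N.hi_normal.conj_mem v hv g) (inv_mem hv)

theorem ψ_lo {v : G} (hv : v ∈ lo) : N.ψ v = 0 :=
  (N.ψ_zero v (N.le hv)).mpr fun g => by
    rw [commutatorElement_def]
    exact mul_mem (N.lo_normal.conj_mem v hv g) (inv_mem hv)

theorem ψ_comm (g : G) {v : G} (hv : v ∈ hi) : N.ψ ⁅g, v⁆ = (N.e g : M2).mulVec (N.ψ v) - N.ψ v := by
  rw [commutatorElement_def, N.ψ_mul _ (N.hi_normal.conj_mem v hv g) _ (inv_mem hv), N.equiv g v hv,
    N.ψ_inv hv, sub_eq_add_neg]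

omit N in
theorem unitri_mulVec {u : S2} (hu : u ∈ Linear.unitriSL 2 F) (x : Fin 2 → F) :
    ((u : M2).mulVec x) 0 = x 0 + (u : M2) 0 1 * x 1 ∧ ((u : M2).mulVec x) 1 = x 1 := by
  obtain ⟨a, b, c⟩ := Linear.unitriSL_two_eq.mp hu
  simp [Matrix.mulVec, dotProduct, Fin.sum_univ_two, a, b, c]

omit N in
theorem unitri_ne_zero {u : S2} (hu : u ∈ Linear.unitriSL 2 F) (h : u ≠ 1) : (u : M2) 0 1 ≠ 0 := by
  obtain ⟨a, b, c⟩ := Linear.unitriSL_two_eq.mp hu
  exact fun h0 => h (Linear.SL_ext_two (by simp [b]) (by simp [h0]) (by simp [a]) (by simp [c]))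

theorem comm_line {s v : G} (hs : s ∈ (S : Subgroup G)) (hv : v ∈ hi) : N.ψ ⁅s, v⁆ 1 = 0 := by
  rw [N.ψ_comm s hv, Pi.sub_apply, (unitri_mulVec (N.mem_unitri s hs) _).2, sub_self]

theorem comm_mem_lo_of_eq {g v : G} (hv : v ∈ hi) (h : (N.e g : M2).mulVec (N.ψ v) = N.ψ v) :
    N.ψ ⁅g, v⁆ = 0 := by rw [N.ψ_comm g hv, h, sub_self]

/-- A single element of the Sylow subgroup outside the core has as fixed points the line. -/
theorem line_of_fixed {x v : G} (hx : x ∈ (S : Subgroup G)) (hxQ : x ∉ Cfsg.pCore p G) (hv : v ∈ hi)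
    (h : ⁅x, v⁆ ∈ lo) : N.ψ v 1 = 0 := by
  have h1 := congrFun (N.ψ_comm x hv) 0
  rw [N.ψ_lo h, Pi.sub_apply, (unitri_mulVec (N.mem_unitri x hx) _).1, add_sub_cancel_left, Pi.zero_apply] at h1
  exact (mul_eq_zero.mp h1.symm).resolve_left
    (unitri_ne_zero (N.mem_unitri x hx) fun e => hxQ ((N.ker_S x hx).mp e))

theorem exists_comm_ne_zero {x : G} (hx : x ∈ (S : Subgroup G)) (hxQ : x ∉ Cfsg.pCore p G) :
    ∃ v ∈ hi, N.ψ ⁅x, v⁆ ≠ 0 := by
  obtain ⟨v, hv, hψ⟩ := N.ψ_surj ![0, 1]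
  refine ⟨v, hv, fun h => ?_⟩
  have h1 := congrFun (N.ψ_comm x hv) 0
  rw [h, Pi.sub_apply, (unitri_mulVec (N.mem_unitri x hx) _).1, hψ] at h1
  simp at h1
  exact unitri_ne_zero (N.mem_unitri x hx) (fun e => hxQ ((N.ker_S x hx).mp e)) h1.symm

/-- The elements on the fixed line. -/
def line : Subgroup G where
  carrier := {v | v ∈ hi ∧ N.ψ v 1 = 0}
  one_mem' := ⟨hi.one_mem, by rw [N.ψ_one]; rfl⟩
  mul_mem' := fun {a b} ha hb => ⟨mul_mem ha.1 hb.1, by
    rw [N.ψ_mul a ha.1 b hb.1, Pi.add_apply, ha.2, hb.2, add_zero]⟩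
  inv_mem' := fun {a} ha => ⟨inv_mem ha.1, by rw [N.ψ_inv ha.1, Pi.neg_apply, ha.2, neg_zero]⟩

theorem card_line : Nat.card hi = Fintype.card F * Nat.card N.line := by
  let f : hi →* Multiplicative F := MonoidHom.mk' (fun v => Multiplicative.ofAdd (N.ψ v 1)) fun a b => by
    rw [← ofAdd_add, coe_mul, N.ψ_mul a a.2 b b.2, Pi.add_apply]
  have hf : Function.Surjective f := fun x => by
    obtain ⟨v, hv, hψ⟩ := N.ψ_surj fun _ => Multiplicative.toAdd x
    exact ⟨⟨v, hv⟩, by show Multiplicative.ofAdd (N.ψ v 1) = x; rw [hψ]; rfl⟩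
  have hk : f.ker = N.line.subgroupOf hi := by
    ext v
    rw [MonoidHom.mem_ker, mem_subgroupOf]
    exact ⟨fun h => ⟨v.2, h⟩, fun h => congrArg Multiplicative.ofAdd h.2⟩
  have := f.ker.card_mul_index
  rw [index_ker, MonoidHom.range_eq_top.mpr hf, card_top, hk,
    Nat.card_congr (subgroupOfEquivOfLe (fun v hv => hv.1 : N.line ≤ hi)).toEquiv,
    Nat.card_congr Multiplicative.toAdd, Nat.card_eq_fintype_card (α := F)] at this
  rw [← this, mul_comm]

/-- An invariant subgroup with nonzero image has full image. -/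
theorem full_of_ne_zero {H : Subgroup G} [hH : H.Normal] (hle : H ≤ hi) {v : G} (hv : v ∈ H) (h : N.ψ v ≠ 0)
    (x : Fin 2 → F) : ∃ w ∈ H, N.ψ w = x := by
  by_cases hx : x = 0
  · exact ⟨1, H.one_mem, by rw [N.ψ_one, hx]⟩
  have key : ∀ y : Fin 2 → F, y ≠ 0 → ∃ g : S2, (g : M2).mulVec ![1, 0] = y := by
    intro y hy
    by_cases h0 : y 0 = 0
    · have h1 : y 1 ≠ 0 := fun h1 => hy (funext fun i => by fin_cases i <;> simpa)
      refine ⟨⟨!![0, -(y 1)⁻¹; y 1, 0], by rw [det_fin_two_of]; field_simp; ring⟩, ?_⟩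
      funext i
      fin_cases i <;> simp [Matrix.mulVec, dotProduct, Fin.sum_univ_two, h0]
    · refine ⟨⟨!![y 0, 0; y 1, (y 0)⁻¹], by rw [det_fin_two_of]; field_simp; ring⟩, ?_⟩
      funext i
      fin_cases i <;> simp [Matrix.mulVec, dotProduct, Fin.sum_univ_two]
  obtain ⟨a, ha⟩ := key _ h
  obtain ⟨b, hb⟩ := key x hx
  obtain ⟨g, hg⟩ := N.surj (b * a⁻¹)
  refine ⟨g * v * g⁻¹, hH.conj_mem v hv g, ?_⟩
  rw [N.equiv g v (hle hv), hg, ← ha, mulVec_mulVec, ← Matrix.SpecialLinearGroup.coe_mul, inv_mul_cancel_right, hb]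

end PreLayer

/-- A natural layer: moreover the line consists of fixed points of the Sylow subgroup. -/
structure NatLayer (R : RankOne S F) (lo hi : Subgroup G) extends PreLayer R lo hi where
  fix_S : ∀ s ∈ (S : Subgroup G), ∀ v ∈ hi, ψ v 1 = 0 → ⁅s, v⁆ ∈ lo

/-- A section with an offender is a natural layer. -/
theorem exists_natLayer (R : RankOne S F) (lo hi : Subgroup G) [hlo : lo.Normal] [hhi : hi.Normal] (hle : lo ≤ hi)
    (hab : ∀ a ∈ hi, ∀ b ∈ hi, ⁅a, b⁆ ∈ lo) (hpow : ∀ a ∈ hi, a ^ p ∈ lo)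
    (hQ : ∀ x ∈ Cfsg.pCore p G, ∀ v ∈ hi, ⁅x, v⁆ ∈ lo) (A : Subgroup G) (hAS : A ≤ S)
    (hAQ : ¬ A ≤ Cfsg.pCore p G) (hcomm : ∀ a ∈ A, ∀ b ∈ A, ⁅a, b⁆ ∈ Cfsg.pCore p G)
    (hexp : ∀ a ∈ A, a ^ p ∈ Cfsg.pCore p G) (D : Subgroup G) (hloD : lo ≤ D) (hD : D ≤ hi)
    (hAD : ∀ a ∈ A, ∀ d ∈ D, ⁅a, d⁆ ∈ lo)
    (hoff : Nat.card hi * Nat.card ↥(A ⊓ Cfsg.pCore p G) ≤ Nat.card A * Nat.card D)
    (hmov : ∃ w ∈ hi, (∀ s ∈ (S : Subgroup G), ⁅s, w⁆ ∈ lo) ∧ ∃ g : G, ⁅g, w⁆ ∉ lo) :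
    Nonempty (NatLayer R lo hi) ∧ A ⊔ Cfsg.pCore p G = S ∧
      Nat.card A = Fintype.card F * Nat.card ↥(A ⊓ Cfsg.pCore p G) := by
  obtain ⟨N⟩ := exists_preLayer R lo hi hle hab hpow hQ A hAS hAQ hcomm hexp D hloD hD hAD hoff hmov
  obtain ⟨x, hx, hxQ⟩ := SetLike.not_le_iff_exists.mp hAQ
  have hDl : D ≤ N.line := fun d hd => ⟨hD hd, N.line_of_fixed (hAS hx) hxQ (hD hd) (hAD x hx d hd)⟩
  have hAQS : A ⊔ Cfsg.pCore p G ≤ S := sup_le hAS (pCore_le_sylow S)
  have h1 : Nat.card A ≤ Fintype.card F * Nat.card ↥(A ⊓ Cfsg.pCore p G) := by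
    have h := Cores.card_sup_mul_card_inf A (Cfsg.pCore p G)
    have h' : Nat.card ↥(A ⊔ Cfsg.pCore p G) ≤ Nat.card S := Subgroup.card_le_of_le hAQS
    rw [R.card_sylow] at h'
    refine Nat.le_of_mul_le_mul_right ?_ (Nat.card_pos (α := Cfsg.pCore p G))
    rw [← h]
    calc _ ≤ Nat.card (Cfsg.pCore p G) * Fintype.card F * Nat.card ↥(A ⊓ Cfsg.pCore p G) :=
          Nat.mul_le_mul_right _ h'
      _ = _ := by ring
  have h2 : Nat.card D ≤ Nat.card N.line := Subgroup.card_le_of_le hDl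
  rw [N.card_line] at hoff
  have hpos : 0 < Nat.card ↥(A ⊓ Cfsg.pCore p G) := Nat.card_pos
  have hq : 0 < Fintype.card F := Fintype.card_pos
  have hpl : 0 < Nat.card N.line := Nat.card_pos
  have h4 : Nat.card N.line ≤ Nat.card D := by
    refine Nat.le_of_mul_le_mul_left ?_ (Nat.mul_pos hq hpos)
    calc _ = Fintype.card F * Nat.card N.line * Nat.card ↥(A ⊓ Cfsg.pCore p G) := by ring
      _ ≤ _ := hoff
      _ ≤ _ := Nat.mul_le_mul_right _ h1
  have hA : Nat.card A = Fintype.card F * Nat.card ↥(A ⊓ Cfsg.pCore p G) := by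
    refine le_antisymm h1 (Nat.le_of_mul_le_mul_right ?_ hpl)
    calc _ = Fintype.card F * Nat.card N.line * Nat.card ↥(A ⊓ Cfsg.pCore p G) := by ring
      _ ≤ _ := hoff
      _ ≤ _ := Nat.mul_le_mul_left _ h2
  have hsup : A ⊔ Cfsg.pCore p G = S := by
    refine eq_of_le_of_card_ge hAQS ?_
    have h := Cores.card_sup_mul_card_inf A (Cfsg.pCore p G)
    rw [hA] at h
    refine Nat.le_of_mul_le_mul_right ?_ hpos
    rw [h, R.card_sylow]
    exact le_of_eq (by ring)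
  have hline : D = N.line := eq_of_le_of_card_ge hDl h4
  refine ⟨⟨⟨N, fun s hs v hv h => ?_⟩⟩, hsup, hA⟩
  have hvD : v ∈ D := hline ▸ (show v ∈ N.line from ⟨hv, h⟩)
  rw [← hsup] at hs
  obtain ⟨a, ha, b, hb, rfl⟩ := mem_sup_of_normal_right.mp hs
  rw [show ⁅a * b, v⁆ = a * ⁅b, v⁆ * a⁻¹ * ⁅a, v⁆ by simp only [commutatorElement_def]; group]
  exact mul_mem (hlo.conj_mem _ (hQ b hb v hv) a) (hAD a ha v hvD)

end Cfsg.Agent.H31.PushUp
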