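import Mathlib.GroupTheory.Sylow
import Mathlib.GroupTheory.QuotientGroup.Basic
import Cfsg.Agent.Cores.LBalanceTools

/-!
# A counting lemma for the normalizer of a Sylow subgroup of a maximal local subgroup
-/

set_option autoImplicit false
set_option linter.unusedSectionVars false
set_option maxHeartbeats 800000

namespace Cfsg.Agent.H31.PushUp

open Subgroup

/-- Data of a group with a subgroup whose fixed subgroup `E` is a TI set inside `L × E`. -/
structure ShiftData {N : Type*} [Group N] (p n : ℕ) (S M L E : Subgroup N) : Prop where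
  five : 5 ≤ p
  n_pos : n ≠ 0
  S_normal : S.Normal
  S_p : IsPGroup p S
  S_le : S ≤ M
  M_L : ∀ m ∈ M, ∀ l ∈ L, m * l * m⁻¹ ∈ L
  M_E : ∀ m ∈ M, ∀ e ∈ E, m * e = e * m
  S_L : ∀ s ∈ S, ∀ l ∈ L, s * l = l * s
  LE : ∀ l ∈ L, ∀ e ∈ E, l * e = e * l
  disj : L ⊓ E = ⊥
  inv : ∀ w : N, ∀ l ∈ L, ∀ e ∈ E, ∃ l' ∈ L, ∃ e' ∈ E, w * (l * e) * w⁻¹ = l' * e'
  ti : ∀ w : N, ∀ e ∈ E, e ≠ 1 → w * e * w⁻¹ ∈ E → w ∈ M
  card_L : Nat.card L = p ^ n
  trans : ∀ x ∈ L, x ≠ 1 → ∀ y ∈ L, y ≠ 1 → ∃ m ∈ M, m * x * m⁻¹ = y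
  free : ∀ m ∈ M, ∀ l ∈ L, l ≠ 1 → m * l = l * m → m ∈ S
  E_pow : ∀ e ∈ E, e ^ p = 1
  E_ne : E ≠ ⊥
  M_ne : M ≠ ⊤

namespace ShiftData

variable {N : Type*} [Group N] [Finite N] {p n : ℕ} [Fact p.Prime] {S M L E : Subgroup N}
  (d : ShiftData p n S M L E)
include d

theorem sq_ne {e : N} (he : e ∈ E) (h : e ≠ 1) : e * e ≠ e ∧ e * e ≠ 1 :=
  ⟨fun h' => h (mul_eq_left.mp h'), fun h' => by
    have h2 : orderOf e ∣ 2 := orderOf_dvd_of_pow_eq_one (by rw [pow_two]; exact h')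
    have hp := orderOf_eq_prime (d.E_pow e he) h
    rw [hp] at h2
    have := Nat.le_of_dvd (by norm_num) h2
    have := d.five
    omega⟩

theorem not_L {w e : N} (he : e ∈ E) (hne : e ≠ 1) : w * e * w⁻¹ ∉ L := by
  intro h
  have h1 : w * e * w⁻¹ ≠ 1 := fun h' => hne (conj_eq_one_iff.mp h')
  have h2 : w * (e * e) * w⁻¹ ∈ L := by
    rw [show w * (e * e) * w⁻¹ = w * e * w⁻¹ * (w * e * w⁻¹) by group]; exact mul_mem h h
  have h3 : w * (e * e) * w⁻¹ ≠ 1 := fun h' => (d.sq_ne he hne).2 (conj_eq_one_iff.mp h')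
  obtain ⟨m, hm, hme⟩ := d.trans _ h h1 _ h2 h3
  have he2 : (w⁻¹ * m * w) * e * (w⁻¹ * m * w)⁻¹ = e * e := by
    calc _ = w⁻¹ * (m * (w * e * w⁻¹) * m⁻¹) * w := by group
      _ = _ := by rw [hme]; group
  have hM : w⁻¹ * m * w ∈ M := d.ti _ e he hne (he2 ▸ mul_mem he he)
  rw [d.M_E _ hM e he, mul_inv_cancel_right] at he2
  exact (d.sq_ne he hne).1 he2.symm

/-- Only the Sylow subgroup fixes two cosets. -/
theorem fix_coset {m c : N} (hm : m ∈ M) (h : c⁻¹ * m * c ∈ M) : c ∈ M ∨ m ∈ S := by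
  refine or_iff_not_imp_left.mpr fun hc => ?_
  obtain ⟨e, he, hne⟩ := E.bot_or_exists_ne_one.resolve_left d.E_ne
  have hfix : m * (c * e * c⁻¹) * m⁻¹ = c * e * c⁻¹ := by
    have := d.M_E _ h e he
    calc m * (c * e * c⁻¹) * m⁻¹ = c * ((c⁻¹ * m * c) * e) * (c⁻¹ * m * c)⁻¹ * c⁻¹ := by group
      _ = _ := by rw [this]; group
  obtain ⟨l, hl, e', he', heq⟩ := d.inv c 1 (one_mem _) e he
  rw [one_mul] at heq
  have hl1 : l ≠ 1 := fun h1 => hc (d.ti c e he hne (by rw [heq, h1, one_mul]; exact he'))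
  refine d.free m hm l hl hl1 ?_
  rw [heq] at hfix
  have := d.M_E m hm e' he'
  have h2 : m * l * m⁻¹ * e' = l * e' := by
    calc m * l * m⁻¹ * e' = m * l * (m⁻¹ * e') := by group
      _ = m * (l * e') * m⁻¹ := by rw [d.M_E _ (inv_mem hm) e' he']; group
      _ = _ := hfix
  exact mul_inv_eq_iff_eq_mul.mp (mul_right_cancel h2)

theorem card_quot : Nat.card (M ⧸ S.subgroupOf M) = p ^ n - 1 := by
  classical
  have hL : 1 < Nat.card L := d.card_L ▸ Nat.one_lt_pow d.n_pos (Fact.out : p.Prime).one_lt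
  obtain ⟨l₀, hl₀, hne⟩ := L.bot_or_exists_ne_one.resolve_left fun h => by simp [h] at hL
  let f : M → {l : L // l ≠ 1} := fun m => ⟨⟨(m : N) * l₀ * (m : N)⁻¹, d.M_L m m.2 l₀ hl₀⟩,
    fun h => hne (conj_eq_one_iff.mp (congrArg Subtype.val h))⟩
  have hf : ∀ a b : M, f a = f b ↔ a⁻¹ * b ∈ S.subgroupOf M := fun a b => by
    rw [mem_subgroupOf, Subgroup.coe_mul, Subgroup.coe_inv]
    constructor
    · intro h
      have h' : (a : N) * l₀ * (a : N)⁻¹ = (b : N) * l₀ * (b : N)⁻¹ :=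
        congrArg (fun x : {l : L // l ≠ 1} => ((x : L) : N)) h
      refine d.free _ (mul_mem (inv_mem a.2) b.2) l₀ hl₀ hne ?_
      calc (a : N)⁻¹ * b * l₀ = (a : N)⁻¹ * ((b : N) * l₀ * (b : N)⁻¹) * b := by group
        _ = _ := by rw [← h']; group
    · intro h
      have h' := d.S_L _ h l₀ hl₀
      apply Subtype.ext; apply Subtype.ext
      show (a : N) * l₀ * (a : N)⁻¹ = (b : N) * l₀ * (b : N)⁻¹
      calc (a : N) * l₀ * (a : N)⁻¹ = (a : N) * (l₀ * ((a : N)⁻¹ * b)) * (b : N)⁻¹ := by group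
        _ = _ := by rw [← h']; group
  have hsurj : Function.Surjective f := fun x => by
    obtain ⟨m, hm, he⟩ := d.trans l₀ hl₀ hne x.1 x.1.2 fun h => x.2 (Subtype.ext h)
    exact ⟨⟨m, hm⟩, Subtype.ext (Subtype.ext he)⟩
  let g : M ⧸ S.subgroupOf M → {l : L // l ≠ 1} :=
    Quotient.lift f fun a b h => (hf a b).mpr (QuotientGroup.leftRel_apply.mp h)
  have hg : Function.Bijective g := by
    refine ⟨fun a b => ?_, fun x => ?_⟩
    · induction a using QuotientGroup.induction_on with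
      | _ a => induction b using QuotientGroup.induction_on with
        | _ b => exact fun h => QuotientGroup.eq.mpr ((hf a b).mp h)
    · obtain ⟨m, hm⟩ := hsurj x
      exact ⟨m, hm⟩
  haveI := Fintype.ofFinite L
  rw [Nat.card_congr (Equiv.ofBijective g hg), Nat.card_eq_fintype_card, Fintype.card_subtype_compl,
    Fintype.card_subtype_eq, ← Nat.card_eq_fintype_card, d.card_L]

theorem card_pair : Nat.card (L × {e : E // e ≠ 1}) = p ^ n * (Nat.card E - 1) := by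
  classical
  haveI := Fintype.ofFinite E
  rw [Nat.card_prod, d.card_L, Nat.card_eq_fintype_card (α := {e : E // e ≠ 1}), Fintype.card_subtype_compl,
    Fintype.card_subtype_eq, ← Nat.card_eq_fintype_card]

/-- The index is `p ^ n`, and `L` is invariant. -/
theorem index_and_L : M.index = p ^ n ∧ ∀ w : N, ∀ l ∈ L, w * l * w⁻¹ ∈ L := by
  classical
  have hcomp : ∀ (c : N ⧸ M) (e : {e : E // e ≠ 1}), ∃ x : L × {e : E // e ≠ 1},
      c.out * ((e : E) : N) * c.out⁻¹ = (x.1 : N) * ((x.2 : E) : N) := fun c e => by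
    obtain ⟨l, hl, e', he', heq⟩ := d.inv c.out 1 (one_mem _) _ (e : E).2
    rw [one_mul] at heq
    have he'1 : e' ≠ 1 := fun h => d.not_L (w := c.out) (e : E).2 (fun h' => e.2 (Subtype.ext h'))
      (by rw [heq, h, mul_one]; exact hl)
    exact ⟨(⟨l, hl⟩, ⟨⟨e', he'⟩, fun h => he'1 (congrArg Subtype.val h)⟩), heq⟩
  choose f hf using hcomp
  let F : (N ⧸ M) × {e : E // e ≠ 1} → L × {e : E // e ≠ 1} := fun x => f x.1 x.2
  have hinj : Function.Injective F := by
    rintro ⟨c, e⟩ ⟨c', e'⟩ h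
    have h1 : c.out * ((e : E) : N) * c.out⁻¹ = c'.out * ((e' : E) : N) * c'.out⁻¹ := by
      rw [hf, hf]
      exact congrArg (fun x : L × {e : E // e ≠ 1} => (x.1 : N) * ((x.2 : E) : N)) h
    have h2 : (c'.out⁻¹ * c.out) * ((e : E) : N) * (c'.out⁻¹ * c.out)⁻¹ = ((e' : E) : N) := by
      calc _ = c'.out⁻¹ * (c.out * ((e : E) : N) * c.out⁻¹) * c'.out := by group
        _ = _ := by rw [h1]; group
    have hm : c'.out⁻¹ * c.out ∈ M :=
      d.ti _ _ (e : E).2 (fun h' => e.2 (Subtype.ext h')) (h2 ▸ (e' : E).2)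
    have hc : c' = c := by
      rw [← QuotientGroup.out_eq' c, ← QuotientGroup.out_eq' c']
      exact QuotientGroup.eq.mpr hm
    rw [d.M_E _ hm _ (e : E).2, mul_inv_cancel_right] at h2
    exact Prod.ext hc.symm (Subtype.ext (Subtype.ext h2))
  have hle := Nat.card_le_card_of_injective F hinj
  rw [d.card_pair, Nat.card_prod] at hle
  have hr : 1 < Nat.card E := E.one_lt_card_iff_ne_bot.mpr d.E_ne
  have hcE : Nat.card {e : E // e ≠ 1} = Nat.card E - 1 := by
    haveI := Fintype.ofFinite E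
    rw [Nat.card_eq_fintype_card, Fintype.card_subtype_compl, Fintype.card_subtype_eq, ← Nat.card_eq_fintype_card]
  rw [hcE] at hle
  have hj : Nat.card (N ⧸ M) ≤ p ^ n := Nat.le_of_mul_le_mul_right hle (by omega)
  obtain ⟨w, hw⟩ : ∃ w, w ∉ M := by
    by_contra h; push Not at h
    exact d.M_ne (eq_top_iff.mpr fun x _ => h x)
  let G' : Option (M ⧸ S.subgroupOf M) → N ⧸ M := fun o =>
    o.elim ((1 : N) : N ⧸ M) fun a => ((((a.out : M) : N) * w : N) : N ⧸ M)
  have hG : Function.Injective G' := by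
    rintro (_ | a) (_ | b) h
    · rfl
    · have := QuotientGroup.eq.mp h
      rw [inv_one, one_mul] at this
      exact absurd (by simpa using mul_mem (inv_mem (b.out).2) this) hw
    · have := inv_mem (QuotientGroup.eq.mp h)
      rw [mul_one, inv_inv] at this
      exact absurd (by simpa using mul_mem (inv_mem (a.out).2) this) hw
    · have h1 := QuotientGroup.eq.mp h
      rw [show ((a.out : N) * w)⁻¹ * ((b.out : N) * w) = w⁻¹ * ((a.out : N)⁻¹ * b.out) * w by group] at h1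
      refine congrArg some ?_
      rw [← QuotientGroup.out_eq' a, ← QuotientGroup.out_eq' b]
      exact QuotientGroup.eq.mpr ((d.fix_coset (mul_mem (inv_mem (a.out).2) (b.out).2) h1).resolve_left hw)
  have hge := Nat.card_le_card_of_injective G' hG
  rw [Finite.card_option, d.card_quot] at hge
  have hq : 0 < p ^ n := pow_pos (Fact.out : p.Prime).pos n
  have hidx : Nat.card (N ⧸ M) = p ^ n := by omega
  refine ⟨hidx, fun v l hl => ?_⟩
  have hbij : Function.Bijective F := (Nat.bijective_iff_injective_and_card F).mpr ⟨hinj, by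
    rw [d.card_pair, Nat.card_prod, hcE, hidx]⟩
  obtain ⟨l', hl', e', he', heq⟩ := d.inv v l hl 1 (one_mem _)
  rw [mul_one] at heq
  by_cases h1 : e' = 1
  · rw [heq, h1, mul_one]; exact hl'
  exfalso
  obtain ⟨⟨c, e⟩, hce⟩ := hbij.2 (⟨l', hl'⟩, ⟨⟨e', he'⟩, fun h => h1 (congrArg Subtype.val h)⟩)
  have h2 : c.out * ((e : E) : N) * c.out⁻¹ = l' * e' := by
    rw [hf, show f c e = _ from hce]
  refine d.not_L (w := v⁻¹ * c.out) (e : E).2 (fun h' => e.2 (Subtype.ext h')) ?_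
  rw [show v⁻¹ * c.out * ((e : E) : N) * (v⁻¹ * c.out)⁻¹ = v⁻¹ * (c.out * ((e : E) : N) * c.out⁻¹) * v by group, h2,
    ← heq, show v⁻¹ * (v * l * v⁻¹) * v = l by group]
  exact hl

theorem p_mem_S {y : N} (hy : y ∈ M) {k : ℕ} (h : y ^ p ^ k = 1) : y ∈ S := by
  haveI : (S.subgroupOf M).Normal := by haveI := d.S_normal; infer_instance
  set z : M ⧸ S.subgroupOf M := QuotientGroup.mk' _ ⟨y, hy⟩
  have h1 : orderOf z ∣ p ^ k := orderOf_dvd_of_pow_eq_one (by
    rw [← map_pow, show (⟨y, hy⟩ : M) ^ p ^ k = 1 from Subtype.ext h, map_one])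
  have h2 : orderOf z ∣ p ^ n - 1 := d.card_quot ▸ orderOf_dvd_natCard z
  have hco : Nat.Coprime (p ^ k) (p ^ n - 1) := by
    refine Nat.Coprime.pow_left k ((Fact.out : p.Prime).coprime_iff_not_dvd.mpr fun hdvd => ?_)
    have hp := dvd_pow_self p d.n_pos
    have h1' : p ∣ p ^ n - (p ^ n - 1) := Nat.dvd_sub hp hdvd
    rw [Nat.sub_sub_self (Nat.one_le_pow _ _ (Fact.out : p.Prime).pos)] at h1'
    exact (Fact.out : p.Prime).not_dvd_one h1'
  have := Nat.dvd_gcd h1 h2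
  rw [hco.gcd_eq_one, Nat.dvd_one, orderOf_eq_one_iff] at this
  exact mem_subgroupOf.mp ((QuotientGroup.eq_one_iff _).mp this)

/-- The Sylow subgroup is normal. -/
theorem sylow_normal (U : Sylow p N) : (U : Subgroup N).Normal := by
  classical
  haveI := d.S_normal
  obtain ⟨s, hs⟩ := IsPGroup.iff_card.mp d.S_p
  have hSU : S ≤ (U : Subgroup N) := d.S_p.le_sylow_of_normal U
  have hN : Nat.card N = p ^ n * ((p ^ n - 1) * Nat.card S) := by
    rw [← M.card_mul_index, d.index_and_L.1, card_eq_card_quotient_mul_card_subgroup (S.subgroupOf M),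
      d.card_quot, Nat.card_congr (subgroupOfEquivOfLe d.S_le).toEquiv]
    ring
  have hU : Nat.card (U : Subgroup N) = p ^ n * Nat.card S := by
    rw [U.card_eq_multiplicity, hN, hs, ← pow_add]
    have h0 : p ^ n - 1 ≠ 0 := by
      have := Nat.one_lt_pow d.n_pos (Fact.out : p.Prime).one_lt; omega
    have hnd : ¬ p ∣ p ^ n - 1 := fun hdvd => by
      have h1' : p ∣ p ^ n - (p ^ n - 1) := Nat.dvd_sub (dvd_pow_self p d.n_pos) hdvd
      rw [Nat.sub_sub_self (Nat.one_le_pow _ _ (Fact.out : p.Prime).pos)] at h1'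
      exact (Fact.out : p.Prime).not_dvd_one h1'
    have hp0 := (Fact.out : p.Prime).ne_zero
    rw [Nat.factorization_mul (pow_ne_zero _ hp0) (mul_ne_zero h0 (pow_ne_zero _ hp0)),
      Nat.factorization_mul h0 (pow_ne_zero _ hp0)]
    simp [Nat.factorization_eq_zero_of_not_dvd hnd, Nat.Prime.factorization_pow (Fact.out : p.Prime)]
  have hUM : ∀ c x : N, x ∈ (U : Subgroup N) → c⁻¹ * x * c ∈ M → c⁻¹ * x * c ∈ S := fun c x hx h => by
    obtain ⟨k, hk⟩ := U.2 ⟨x, hx⟩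
    refine d.p_mem_S h (k := k) ?_
    have := conj_pow (a := c⁻¹) (b := x) (i := p ^ k)
    rw [inv_inv] at this
    rw [this, show x ^ p ^ k = 1 by simpa using congrArg Subtype.val hk, mul_one, inv_mul_cancel]
  let F : (U : Subgroup N) ⊕ ((N ⧸ M) × {m : M // (m : N) ∉ S}) → N :=
    Sum.elim (fun u => (u : N)) fun x => x.1.out * ((x.2 : M) : N) * x.1.out⁻¹
  have hUY : ∀ (u : N) (c : N ⧸ M) (m : {m : M // (m : N) ∉ S}), u ∈ (U : Subgroup N) →
      u ≠ c.out * ((m : M) : N) * c.out⁻¹ := fun u c m hu h => by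
    have e : c.out⁻¹ * u * c.out = ((m : M) : N) := by rw [h]; group
    exact m.2 (e ▸ hUM c.out u hu (e ▸ (m : M).2))
  have hF : Function.Injective F := by
    rintro (u | ⟨c, m⟩) (v | ⟨c', m'⟩) h
    · exact congrArg Sum.inl (Subtype.ext h)
    · exact absurd h (hUY _ _ _ u.2)
    · exact absurd h.symm (hUY _ _ _ v.2)
    · refine congrArg Sum.inr ?_
      have h1 : c.out * ((m : M) : N) * c.out⁻¹ = c'.out * ((m' : M) : N) * c'.out⁻¹ := h
      have h2 : (c.out⁻¹ * c'.out)⁻¹ * ((m : M) : N) * (c.out⁻¹ * c'.out) = ((m' : M) : N) := by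
        calc _ = c'.out⁻¹ * (c.out * ((m : M) : N) * c.out⁻¹) * c'.out := by group
          _ = _ := by rw [h1]; group
      have hc : c = c' := by
        rw [← QuotientGroup.out_eq' c, ← QuotientGroup.out_eq' c']
        exact QuotientGroup.eq.mpr ((d.fix_coset (m : M).2 (h2 ▸ (m' : M).2)).resolve_right m.2)
      subst hc
      rw [inv_mul_cancel, inv_one, one_mul, mul_one] at h2
      exact Prod.ext rfl (Subtype.ext (Subtype.ext h2))
  have hMS : Nat.card {m : M // (m : N) ∉ S} = (p ^ n - 1) * Nat.card S - Nat.card S := by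
    haveI := Fintype.ofFinite M
    rw [Nat.card_eq_fintype_card, Fintype.card_subtype_compl, ← Nat.card_eq_fintype_card, ← Nat.card_eq_fintype_card,
      card_eq_card_quotient_mul_card_subgroup (S.subgroupOf M), d.card_quot,
      Nat.card_congr (subgroupOfEquivOfLe d.S_le).toEquiv]
    congr 1
    exact Nat.card_congr (subgroupOfEquivOfLe d.S_le).toEquiv
  have hbij : Function.Bijective F := (Nat.bijective_iff_injective_and_card F).mpr ⟨hF, by
    rw [Nat.card_sum, Nat.card_prod, hU, hMS, show Nat.card (N ⧸ M) = p ^ n from d.index_and_L.1, hN, ← Nat.mul_add]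
    congr 1
    have h2 : 1 ≤ p ^ n - 1 := by
      have := Nat.one_lt_pow d.n_pos (Fact.out : p.Prime).one_lt; omega
    have h3 : Nat.card S ≤ (p ^ n - 1) * Nat.card S := by nlinarith
    omega⟩
  refine ⟨fun x hx g => ?_⟩
  obtain ⟨u | ⟨c, m⟩, h⟩ := hbij.2 (g * x * g⁻¹)
  · exact h ▸ u.2
  · exfalso
    have e : (g⁻¹ * c.out)⁻¹ * x * (g⁻¹ * c.out) = ((m : M) : N) := by
      rw [show x = g⁻¹ * (g * x * g⁻¹) * g by group, ← h]; simp only [F, Sum.elim_inr]; group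
    exact m.2 (e ▸ hUM _ x hx (e ▸ (m : M).2))

/-- The element of the extension. -/
theorem exists_shift {t : N} (ht : t ∈ M) (htl : ∀ l ∈ L, t * l * t⁻¹ = l * l) :
    ∃ u : N, u ∉ M ∧ (∃ k : ℕ, u ^ p ^ k = 1) ∧ t * u * t⁻¹ * (u * u)⁻¹ ∈ S := by
  classical
  obtain ⟨hidx, hLn⟩ := d.index_and_L
  haveI hLN : L.Normal := ⟨fun l hl w => hLn w l hl⟩
  obtain ⟨U⟩ : Nonempty (Sylow p N) := inferInstance
  haveI hUn := d.sylow_normal U
  have hpL : IsPGroup p L := IsPGroup.iff_card.mpr ⟨n, d.card_L⟩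
  haveI : Nontrivial L := Finite.one_lt_card_iff_nontrivial.mp (d.card_L ▸ Nat.one_lt_pow d.n_pos (Fact.out : p.Prime).one_lt)
  -- fixed point of the Sylow subgroup on `L`
  obtain ⟨l₁, hl₁, hne₁, hfix₁⟩ : ∃ l ∈ L, l ≠ 1 ∧ ∀ u ∈ (U : Subgroup N), u * l = l * u := by
    have h1 : L ≤ (U : Subgroup N) := hpL.le_sylow_of_normal U
    have hne : L.subgroupOf (U : Subgroup N) ≠ ⊥ := fun h => by
      rw [subgroupOf_eq_bot, disjoint_iff, inf_eq_left.mpr h1] at h
      exact (Subgroup.nontrivial_iff_ne_bot L).mp inferInstance h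
    obtain ⟨z, hz, hz1⟩ := (Subgroup.bot_or_exists_ne_one _).resolve_left
      (PGroups.inf_center_ne_bot U.2 (L.subgroupOf (U : Subgroup N)) hne)
    exact ⟨z, mem_subgroupOf.mp hz.1, fun h => hz1 (Subtype.ext h),
      fun u hu => congrArg Subtype.val (mem_center_iff.mp hz.2 ⟨u, hu⟩)⟩
  have hUL : ∀ u ∈ (U : Subgroup N), ∀ l ∈ L, u * l = l * u := by
    intro u hu l hl
    rcases eq_or_ne l 1 with rfl | h
    · rw [mul_one, one_mul]
    obtain ⟨m, hm, rfl⟩ := d.trans l₁ hl₁ hne₁ l hl h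
    have := hfix₁ _ (by simpa using hUn.conj_mem u hu m⁻¹ : m⁻¹ * u * m ∈ (U : Subgroup N))
    calc u * (m * l₁ * m⁻¹) = m * ((m⁻¹ * u * m) * l₁) * m⁻¹ := by group
      _ = _ := by rw [this]; group
  obtain ⟨e, he, hne⟩ := E.bot_or_exists_ne_one.resolve_left d.E_ne
  obtain ⟨v, hvU, hvM⟩ : ∃ v ∈ (U : Subgroup N), v ∉ M := by
    by_contra h; push Not at h
    have hUS : (U : Subgroup N) ≤ S := fun x hx => by
      obtain ⟨k, hk⟩ := U.2 ⟨x, hx⟩
      exact d.p_mem_S (h x hx) (k := k) (by simpa using congrArg Subtype.val hk)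
    have h2 : p ^ n ∣ S.index := hidx ▸ index_dvd_of_le d.S_le
    have h3 : p ∣ (U : Subgroup N).index := by
      rw [le_antisymm hUS (haveI := d.S_normal; d.S_p.le_sylow_of_normal U)]
      exact (dvd_pow_self p d.n_pos).trans h2
    exact U.not_dvd_index h3
  set u := t * v * t⁻¹ * v⁻¹ with hu
  have huU : u ∈ (U : Subgroup N) := mul_mem (hUn.conj_mem v hvU t) (inv_mem hvU)
  have huM : u ∉ M := fun h => by
    obtain ⟨k, hk⟩ := U.2 ⟨u, huU⟩
    have hS : u ∈ S := d.p_mem_S h (k := k) (by simpa using congrArg Subtype.val hk)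
    have hvt : v⁻¹ * t * v ∈ M := by
      have : v⁻¹ * u * v ∈ S := by simpa using d.S_normal.conj_mem u hS v⁻¹
      have h2 := mul_mem (d.S_le this) ht
      rwa [show v⁻¹ * u * v * t = v⁻¹ * t * v by rw [hu]; group] at h2
    rcases d.fix_coset ht hvt with h' | h'
    · exact hvM h'
    · obtain ⟨l, hl, hl1⟩ : ∃ l ∈ L, l ≠ 1 := ⟨l₁, hl₁, hne₁⟩
      have := htl l hl
      rw [d.S_L t h' l hl, mul_inv_cancel_right] at this
      exact hl1 (mul_eq_left.mp this.symm)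
  refine ⟨u, huM, by
    obtain ⟨k, hk⟩ := U.2 ⟨u, huU⟩
    exact ⟨k, by simpa using congrArg Subtype.val hk⟩, ?_⟩
  -- the action on `e`
  obtain ⟨l, hl, hul⟩ : ∃ l ∈ L, u * e * u⁻¹ = l * e := by
    obtain ⟨a, ha, f, hf, hvi⟩ := d.inv v⁻¹ 1 (one_mem _) e he
    rw [one_mul, inv_inv] at hvi
    have e1 : v * a * v⁻¹ = a := by rw [hUL v hvU a ha, mul_inv_cancel_right]
    have e2 : v * f * v⁻¹ = a⁻¹ * e := by
      calc v * f * v⁻¹ = (v * a * v⁻¹)⁻¹ * (v * (a * f) * v⁻¹) := by group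
        _ = _ := by rw [e1, ← hvi]; group
    refine ⟨a⁻¹, inv_mem ha, ?_⟩
    calc u * e * u⁻¹ = t * (v * (t⁻¹ * (v⁻¹ * e * v) * t) * v⁻¹) * t⁻¹ := by rw [hu]; group
      _ = t * (v * (t⁻¹ * a * t) * v⁻¹ * (v * f * v⁻¹)) * t⁻¹ := by
          rw [hvi]
          have := d.M_E _ (inv_mem ht) f hf
          calc t * (v * (t⁻¹ * (a * f) * t) * v⁻¹) * t⁻¹ =
              t * (v * (t⁻¹ * a * t) * v⁻¹ * (v * (t⁻¹ * f * t) * v⁻¹)) * t⁻¹ := by group
            _ = _ := by rw [this]; group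
      _ = t * (t⁻¹ * a * t * (a⁻¹ * e)) * t⁻¹ := by
          rw [e2, hUL v hvU _ (by simpa using d.M_L _ (inv_mem ht) a ha), mul_inv_cancel_right]
      _ = a * (t * a * t⁻¹)⁻¹ * (t * e * t⁻¹) := by group
      _ = _ := by rw [d.M_E t ht e he, mul_inv_cancel_right, htl a ha]; group
  have hu2 : (u * u) * e * (u * u)⁻¹ = (t * u * t⁻¹) * e * (t * u * t⁻¹)⁻¹ := by
    calc (u * u) * e * (u * u)⁻¹ = u * (u * e * u⁻¹) * u⁻¹ := by group
      _ = u * (l * e) * u⁻¹ := by rw [hul]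
      _ = u * l * u⁻¹ * (u * e * u⁻¹) := by group
      _ = l * l * e := by rw [hUL u huU l hl, mul_inv_cancel_right, hul, mul_assoc]
      _ = (t * l * t⁻¹) * (t * e * t⁻¹) := by rw [d.M_E t ht e he, mul_inv_cancel_right, htl l hl]
      _ = t * (u * e * u⁻¹) * t⁻¹ := by rw [hul]; group
      _ = t * u * (t⁻¹ * e * t) * u⁻¹ * t⁻¹ := by rw [d.M_E _ (inv_mem ht) e he]; group
      _ = _ := by group
  set y := (u * u)⁻¹ * (t * u * t⁻¹) with hy
  have hyU : y ∈ (U : Subgroup N) := mul_mem (inv_mem (mul_mem huU huU)) (hUn.conj_mem u huU t)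
  have hye : y * e * y⁻¹ = e := by
    calc y * e * y⁻¹ = (u * u)⁻¹ * ((t * u * t⁻¹) * e * (t * u * t⁻¹)⁻¹) * (u * u) := by
          simp only [hy, mul_inv_rev, inv_inv, mul_assoc]
      _ = _ := by rw [← hu2]; group
  obtain ⟨k, hk⟩ := U.2 ⟨y, hyU⟩
  have hyS : y ∈ S := d.p_mem_S (d.ti y e he hne (hye.symm ▸ he)) (k := k) (by simpa using congrArg Subtype.val hk)
  rw [show t * u * t⁻¹ * (u * u)⁻¹ = (u * u) * y * (u * u)⁻¹ by rw [hy]; group]
  exact d.S_normal.conj_mem y hyS _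

end ShiftData

end Cfsg.Agent.H31.PushUp
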