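import Cfsg.Agent.H31.PushUp.Split
import Cfsg.Agent.H31.PushUp.Shift

/-!
# In a maximal local subgroup the central factor is abelian
-/

set_option autoImplicit false
set_option linter.unusedSectionVars false
set_option maxHeartbeats 1000000

namespace Cfsg.Agent.H31.PushUp

open Subgroup Cfsg.Agent Cfsg.Agent.Cores Cfsg.Agent.H60
open scoped Pointwise commutatorElement

variable {F : Type} [Field F] [Fintype F] {p : ℕ} [Fact p.Prime]

local notation "S2" => Matrix.SpecialLinearGroup (Fin 2) F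
local notation "M2" => Matrix (Fin 2) (Fin 2) F

namespace Case1.Inv

variable {G : Type*} [Group G] [Finite G] {S : Sylow p G} {P : PU S F} {C : Case1 P} (T : C.Inv)
include T

theorem mem_S_of_unitri {g : G} (h : P.vL.e g ∈ Linear.unitriSL 2 F) : g ∈ (S : Subgroup G) := by
  obtain ⟨s, hs, he⟩ := P.vL.surj_S _ h
  have hq : s⁻¹ * g ∈ Cfsg.pCore p G :=
    C.ker_le (MonoidHom.mem_ker.mpr (by rw [map_mul, map_inv, he, inv_mul_cancel]))
  simpa using mul_mem hs (pCore_le_sylow S hq)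

theorem upper_of_norm {g : G} (hg : g ∈ normalizer ((S : Subgroup G) : Set G)) : (P.vL.e g : M2) 1 0 = 0 :=
  (P.vL.mem_M g).mp (P.R.normalizer_le hg)

theorem norm_of_upper {g : G} (h : (P.vL.e g : M2) 1 0 = 0) : g ∈ normalizer ((S : Subgroup G) : Set G) := by
  rw [← cj_eq_self_iff]
  refine eq_of_le_of_card_ge ?_ (by rw [card_cj])
  rintro _ ⟨s, hs, rfl⟩
  refine T.mem_S_of_unitri ?_
  show P.vL.e (g * s * g⁻¹) ∈ _
  obtain ⟨h1, h2, h3⟩ := Linear.unitriSL_two_eq.mp (P.vL.mem_unitri s hs)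
  obtain ⟨i1, i2, i3, i4⟩ := Linear.SL_inv_entries (P.vL.e g)
  have hd := Linear.SL_det_two (P.vL.e g)
  rw [h, mul_zero, sub_zero] at hd
  rw [map_mul, map_mul, map_inv]
  refine Linear.unitriSL_two_eq.mpr ⟨?_, ?_, ?_⟩ <;>
    simp [Linear.SL_mul_entries, h, h1, h2, h3, i1, i2, i3, i4] <;> linear_combination hd

theorem ψ_one {l : G} (hl : l ∈ P.L) : P.vL.ψ l 1 = 0 := (P.mem_Z.mp (P.L_le_Z hl)).2

theorem L_conj {g l : G} (hg : g ∈ normalizer ((S : Subgroup G) : Set G)) (hl : l ∈ P.L) : g * l * g⁻¹ ∈ P.L := by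
  have hconj : cj P.L g = P.L := by
    rw [PU.L, cj_commutator, cj_eq_self_iff.mpr hg, cj_normal g]
  exact hconj.le (mem_map_of_mem _ hl)

theorem ψ_conj {g l : G} (hg : g ∈ normalizer ((S : Subgroup G) : Set G)) (hl : l ∈ P.L) :
    P.vL.ψ (g * l * g⁻¹) 0 = (P.vL.e g : M2) 0 0 * P.vL.ψ l 0 := by
  rw [P.vL.equiv g l (P.Z_le (P.L_le_Z hl))]
  simp [Matrix.mulVec, dotProduct, Fin.sum_univ_two, T.ψ_one hl]

theorem L_ext {l l' : G} (hl : l ∈ P.L) (hl' : l' ∈ P.L) (h : P.vL.ψ l 0 = P.vL.ψ l' 0) : l = l' := by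
  have hV : ∀ {x : G}, x ∈ P.L → x ∈ Vm p G := fun hx => P.Z_le (P.L_le_Z hx)
  refine inv_mul_eq_one.mp (T.ψ_V0_inj (mul_mem (inv_mem (T.L_le_V0 hl)) (T.L_le_V0 hl')) ?_)
  rw [P.vL.ψ_mul _ (inv_mem (hV hl)) _ (hV hl'), P.vL.ψ_inv (hV hl)]
  funext i
  fin_cases i <;> simp [h, T.ψ_one hl, T.ψ_one hl']

theorem L_surj (x : F) : ∃ l ∈ P.L, P.vL.ψ l 0 = x := by
  obtain ⟨w, hw, hψ⟩ := P.vL.ψ_surj ![0, 1]
  obtain ⟨s, hs, he⟩ := P.vL.surj_S _ (up_mem x)
  refine ⟨⁅s, w⁆, commutator_mem_commutator hs hw, ?_⟩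
  rw [P.vL.ψ_comm s hw, hψ, he]
  obtain ⟨h1, h2, h3, h4⟩ := up_entries x
  simp [Matrix.mulVec, dotProduct, Fin.sum_univ_two, h1, h2]

theorem card_L : Nat.card P.L = Fintype.card F := by
  rw [← Nat.card_eq_fintype_card]
  refine Nat.card_congr (Equiv.ofBijective (fun l : P.L => P.vL.ψ l 0) ⟨fun a b h => Subtype.ext (T.L_ext a.2 b.2 h),
    fun x => ?_⟩)
  obtain ⟨l, hl, rfl⟩ := T.L_surj x
  exact ⟨⟨l, hl⟩, rfl⟩

theorem exists_diag (c : F) (hc : c ≠ 0) : ∃ g ∈ normalizer ((S : Subgroup G) : Set G), g ∈ T.G0 ∧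
    (P.vL.e g : M2) 0 0 = c ∧ (P.vL.e g : M2) 0 1 = 0 ∧ (P.vL.e g : M2) 1 0 = 0 ∧ (P.vL.e g : M2) 1 1 = c⁻¹ := by
  let m₀ : S2 := ⟨!![c, 0; 0, c⁻¹], by simp [Matrix.det_fin_two_of, hc]⟩
  obtain ⟨g, hg, he⟩ := T.exists_G0 m₀
  refine ⟨g, T.norm_of_upper (by rw [he]; rfl), hg, ?_⟩
  rw [he]
  exact ⟨rfl, rfl, rfl, rfl⟩

theorem L_trans {x y : G} (hx : x ∈ P.L) (hx1 : x ≠ 1) (hy : y ∈ P.L) (hy1 : y ≠ 1) :
    ∃ g ∈ normalizer ((S : Subgroup G) : Set G), g * x * g⁻¹ = y := by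
  have h : ∀ {l : G}, l ∈ P.L → l ≠ 1 → P.vL.ψ l 0 ≠ 0 := fun {l} hl hl1 h0 => hl1 (T.ψ_V0_inj (T.L_le_V0 hl) (by
    funext i; fin_cases i <;> simp [h0, T.ψ_one hl]))
  obtain ⟨g, hg, -, h00, -⟩ := T.exists_diag (P.vL.ψ y 0 / P.vL.ψ x 0) (div_ne_zero (h hy hy1) (h hx hx1))
  refine ⟨g, hg, T.L_ext (T.L_conj hg hx) hy ?_⟩
  rw [T.ψ_conj hg hx, h00, div_mul_cancel₀ _ (h hx hx1)]

theorem L_free {g l : G} (hg : g ∈ normalizer ((S : Subgroup G) : Set G)) (hl : l ∈ P.L) (hl1 : l ≠ 1)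
    (hc : g * l = l * g) : g ∈ (S : Subgroup G) := by
  have h := T.ψ_conj hg hl
  rw [hc, mul_inv_cancel_right] at h
  have h0 : P.vL.ψ l 0 ≠ 0 := fun h0 => hl1 (T.ψ_V0_inj (T.L_le_V0 hl) (by
    funext i; fin_cases i <;> simp [h0, T.ψ_one hl]))
  have h00 : (P.vL.e g : M2) 0 0 = 1 := (mul_left_eq_self₀.mp h.symm).resolve_right h0
  have h10 := T.upper_of_norm hg
  refine T.mem_S_of_unitri (Linear.unitriSL_two_eq.mpr ⟨?_, ?_, ?_⟩) <;>
    have hd := Linear.SL_det_two (P.vL.e g) <;> rw [h10, h00, mul_zero, sub_zero, one_mul] at hd <;>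
    first | exact h10 | exact h00 | exact hd

theorem E_pow {e : G} (he : e ∈ T.E) : e ^ p = 1 := by
  have h := Monoid.pow_exponent_eq_one (⟨e, pCore_le_sylow S (T.E_le he)⟩ : ↥(S : Subgroup G))
  rw [C.class_two.2.2.2 T.odd] at h
  simpa using congrArg Subtype.val h

theorem E_comm_central {x : G} (hx : x ∈ ⁅T.E, T.E⁆) : x ∈ center G := by
  have hxE : x ∈ T.E := commutator_le_self _ hx
  have hES : T.E ≤ (S : Subgroup G) := T.E_le.trans (pCore_le_sylow S)
  refine mem_center_iff.mpr fun g => ?_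
  obtain ⟨k, hk, e, he, rfl⟩ := (haveI := T.E_normal; mem_sup_of_normal_right.mp (T.G0_sup ▸ mem_top g))
  have h1 : ⁅x, e⁆ = 1 := by
    refine mem_bot.mp (C.class_two.1 ▸ ?_)
    rw [Subgroup.lowerCentralSeries_succ, Subgroup.lowerCentralSeries_succ, Subgroup.lowerCentralSeries_zero]
    exact commutator_mem_commutator (commutator_mono hES hES hx) (hES he)
  rw [mul_assoc, ← commutatorElement_eq_one_iff_mul_comm.mp h1, ← mul_assoc, T.G0_comm_E hk hxE, mul_assoc]

theorem mem_commS {x : G} : x ∈ ⁅(S : Subgroup G), (S : Subgroup G)⁆ ↔ ∃ l ∈ P.L, ∃ e ∈ ⁅T.E, T.E⁆, x = l * e := by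
  haveI := T.E_normal
  have hES : T.E ≤ (S : Subgroup G) := T.E_le.trans (pCore_le_sylow S)
  constructor
  · intro hx
    have hle : ⁅(S : Subgroup G), (S : Subgroup G)⁆ ≤ P.L ⊔ ⁅T.E, T.E⁆ := commutator_le.mpr fun s hs s' hs' => by
      obtain ⟨e, he, e', he', l, hl, h⟩ := T.comm_S hs hs'
      rw [h]
      exact mul_mem (mem_sup_right (commutator_mem_commutator he he')) (mem_sup_left hl)
    obtain ⟨l, hl, e, he, rfl⟩ := mem_sup_of_normal_right.mp (hle hx)
    exact ⟨l, hl, e, he, rfl⟩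
  · rintro ⟨l, hl, e, he, rfl⟩
    exact mul_mem (commutator_mono le_rfl ((omegaZ_le _).trans (pCore_le_sylow S)) hl) (commutator_mono hES hES he)

/-- Only central elements of the Sylow subgroup are doubled by the torus. -/
theorem central_of_double {g : G} (hgn : g ∈ normalizer ((S : Subgroup G) : Set G)) (hg0 : g ∈ T.G0)
    (h00 : (P.vL.e g : M2) 0 0 = 2) (h01 : (P.vL.e g : M2) 0 1 = 0) (h10 : (P.vL.e g : M2) 1 0 = 0)
    (h11 : (P.vL.e g : M2) 1 1 = 2⁻¹) {s : G} (hs : s ∈ (S : Subgroup G))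
    (hz : ∀ y ∈ (S : Subgroup G), y * (g * s * g⁻¹ * (s * s)⁻¹) = g * s * g⁻¹ * (s * s)⁻¹ * y) :
    ∀ y ∈ (S : Subgroup G), y * s = s * y := by
  have h20 := P.two_ne_zero T.odd
  obtain ⟨u1, u2, u3⟩ := Linear.unitriSL_two_eq.mp (P.vL.mem_unitri s hs)
  obtain ⟨i1, i2, i3, i4⟩ := Linear.SL_inv_entries (P.vL.e g)
  have hb : (P.vL.e s : M2) 0 1 = 0 := by
    have h1 := T.e_eq_one (P.centralizer_sylow_le hz)
    rw [map_mul, map_inv, mul_inv_eq_one, map_mul, map_mul, map_mul, map_inv] at h1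
    have h2 := congrArg (fun x : S2 => (x : M2) 0 1) h1
    simp [Linear.SL_mul_entries, i1, i2, i3, i4, h00, h01, h10, h11, u1, u2, u3] at h2
    have : (2 : F) * (P.vL.e s : M2) 0 1 = 0 := by linear_combination h2
    exact (mul_eq_zero.mp this).resolve_left h20
  have hsQ : s ∈ Cfsg.pCore p G := (P.vL.ker_S s hs).mp (Linear.SL_ext_two
    (by simp [u2]) (by simp [hb]) (by simp [u1]) (by simp [u3]))
  obtain ⟨v, hv, f, hf, rfl⟩ := T.decomp hsQ
  set w := g * v * g⁻¹ with hw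
  have hwV : w ∈ T.V0 := T.V0_normal.conj_mem v hv g
  set x := w * (v * v)⁻¹ with hxdef
  have hxV : x ∈ T.V0 := mul_mem hwV (inv_mem (mul_mem hv hv))
  have hgf : g * f * g⁻¹ = f := by rw [T.G0_comm_E hg0 hf, mul_inv_cancel_right]
  have e1 : g * (v * f) * g⁻¹ * (v * f * (v * f))⁻¹ = x * f⁻¹ := by
    have hvf := T.V0_E hv hf
    have hvvf : (v * v) * f = f * (v * v) := by rw [mul_assoc, ← hvf, ← mul_assoc, ← hvf, mul_assoc]
    calc g * (v * f) * g⁻¹ * (v * f * (v * f))⁻¹ = w * (g * f * g⁻¹) * (v * (f * v) * f)⁻¹ := by rw [hw]; group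
      _ = w * f * ((v * v) * f * f)⁻¹ := by rw [hgf, hvf]; group
      _ = w * (v * v)⁻¹ * f⁻¹ := by rw [hvvf]; group
      _ = _ := rfl
  rw [e1] at hz
  clear_value x
  obtain ⟨a, ha, haQ⟩ := SetLike.not_le_iff_exists.mp (not_le_pCore P.R C.A_sup)
  have hxa : a * x = x * a := by
    have := hz a (C.A_le ha)
    have hfa : a * f⁻¹ = f⁻¹ * a := T.A_comm_E ha (inv_mem hf)
    refine mul_right_cancel (b := f⁻¹) ?_
    rw [mul_assoc a x, this, mul_assoc x f⁻¹ a, ← hfa, ← mul_assoc]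
  have hxZ : x ∈ P.Z := P.fixed_mem_Z (C.A_le ha) haQ hxV.1 hxa
  have hψ : P.vL.ψ x 1 = 0 := (P.mem_Z.mp hxZ).2
  rw [hxdef, P.vL.ψ_mul _ hwV.1 _ (inv_mem (mul_mem hv.1 hv.1)), P.vL.ψ_inv (mul_mem hv.1 hv.1),
    P.vL.ψ_mul _ hv.1 _ hv.1, hw, P.vL.equiv g v hv.1] at hψ
  simp [Matrix.mulVec, dotProduct, Fin.sum_univ_two, h10, h11] at hψ
  field_simp at hψ
  have h3 : (3 : F) * P.vL.ψ v 1 = 0 := by linear_combination -hψ
  have hvZ : v ∈ P.Z := P.mem_Z.mpr ⟨hv.1, (mul_eq_zero.mp h3).resolve_left T.three_ne_zero⟩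
  intro y hy
  have h1 := mem_centralizer_iff.mp hvZ.2 y hy
  have h2 := mem_centralizer_iff.mp hxZ.2 y hy
  have h4 : y * f⁻¹ = f⁻¹ * y := by
    have := hz y hy
    refine mul_left_cancel (a := x) ?_
    rw [← mul_assoc, ← h2, mul_assoc y x, this, mul_assoc x]
  have h5 : y * f = f * y := by simpa using (show Commute y f⁻¹ from h4).inv_right.eq
  rw [← mul_assoc, h1, mul_assoc, h5, mul_assoc]

end Case1.Inv

/-- An automorphism squared by a torus element fixes the fixed points of the torus element. -/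
theorem fixed_of_shift {A : Type*} [AddCommGroup A] [Finite A] {μ θ : AddMonoid.End A} (hp : p ≠ 2) {k : ℕ}
    (hA : ∀ x : A, p • x = 0) (hμ : μ ^ p ^ k = 1) (h : θ * μ = μ * μ * θ)
    (hθ : ∀ x : A, θ x = x + x → x = 0) {x : A} (hx : θ x = x) : μ x = x := by
  classical
  set D : AddMonoid.End A := μ - 1 with hD
  have hp0 : ((p : ℕ) : AddMonoid.End A) = 0 := by
    ext a
    rw [AddMonoid.End.natCast_apply]
    exact hA a
  have hnil : ∀ a, (D ^ p ^ k) a = 0 := fun a => by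
    obtain ⟨r, hr⟩ := (Commute.one_right D).exists_add_pow_prime_pow_eq (Fact.out : p.Prime) k
    rw [hp0, zero_mul, zero_mul, zero_mul, add_zero, one_pow, hD, sub_add_cancel, hμ, ← hD] at hr
    have : D ^ p ^ k = 0 := left_eq_add.mp (hr.trans (add_comm _ _))
    rw [this]; rfl
  have hinj2 : ∀ a : A, D a + (a + a) = 0 → a = 0 := fun a ha => by
    have h1 : μ a = -a := by
      simp only [hD] at ha
      rw [show (μ - 1) a = μ a - a from rfl] at ha
      have e : μ a + a = 0 := by rw [← ha]; abel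
      exact eq_neg_of_add_eq_zero_left e
    have h2' : ∀ m : ℕ, (μ ^ (2 * m + 1)) a = -a := fun m => by
      induction m with
      | zero => simpa using h1
      | succ m ih =>
        rw [show 2 * (m + 1) + 1 = 2 + (2 * m + 1) by ring, pow_add, show (μ ^ 2 * μ ^ (2 * m + 1)) a =
          (μ ^ 2) ((μ ^ (2 * m + 1)) a) from rfl, ih, map_neg, pow_two, show (μ * μ) a = μ (μ a) from rfl, h1,
          map_neg, h1, neg_neg]
    have h2 : ∀ n : ℕ, Odd n → (μ ^ n) a = -a := fun n ⟨m, hm⟩ => hm ▸ h2' m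
    have h3 := h2 _ (((Fact.out : p.Prime).odd_of_ne_two hp).pow (n := k))
    rw [hμ] at h3
    have h4 : a + a = 0 := eq_neg_iff_add_eq_zero.mp h3
    obtain ⟨m, hm⟩ := (Fact.out : p.Prime).odd_of_ne_two hp
    have := hA a
    rw [hm, add_nsmul, one_nsmul, mul_nsmul, two_nsmul, h4, nsmul_zero, zero_add] at this
    exact this
  have hθD : θ * D = D * (D + 2) * θ := by
    rw [hD, mul_sub, mul_one, h]; noncomm_ring
  have hpow : ∀ i, θ * D ^ i = D ^ i * (D + 2) ^ i * θ := fun i => by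
    induction i with
    | zero => simp
    | succ i ih =>
      have hc : Commute D (D + 2) := (Commute.refl D).add_right (Commute.ofNat_right D 2)
      rw [pow_succ, ← mul_assoc, ih, mul_assoc, hθD, pow_succ (D + 2),
        ← mul_assoc (D ^ i * (D + 2) ^ i), show D ^ i * (D + 2) ^ i * (D * (D + 2)) =
          D ^ i * ((D + 2) ^ i * D) * (D + 2) by noncomm_ring, ← (hc.pow_right i).eq]
      noncomm_ring
  have hθker : ∀ i a, (D ^ i) a = 0 → (D ^ i) (θ a) = 0 := fun i a ha => by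
    have h1 : θ ((D ^ i) a) = (D ^ i * (D + 2) ^ i * θ) a := DFunLike.congr_fun (hpow i) a
    rw [ha, map_zero] at h1
    have hc : Commute D (D + 2) := (Commute.refl D).add_right (Commute.ofNat_right D 2)
    rw [((hc.pow_pow i i)).eq] at h1
    have hstep : ∀ (j : ℕ) (b : A), ((D + 2) ^ j) b = 0 → b = 0 := fun j => by
      induction j with
      | zero => exact fun b hb => by simpa using hb
      | succ j ih =>
        intro b hb
        refine ih b ?_
        refine hinj2 _ ?_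
        rw [pow_succ', show ((D + 2) * (D + 2) ^ j) b = (D + 2) (((D + 2) ^ j) b) from rfl] at hb
        rw [show (D + 2) (((D + 2) ^ j) b) = D (((D + 2) ^ j) b) + (2 : AddMonoid.End A) (((D + 2) ^ j) b) from rfl,
          show (2 : AddMonoid.End A) (((D + 2) ^ j) b) = ((D + 2) ^ j) b + ((D + 2) ^ j) b from by
            rw [← one_add_one_eq_two]; rfl] at hb
        exact hb
    exact hstep i _ h1.symm
  have hstep : ∀ i, (D ^ (i + 1)) (D x) = 0 → (D ^ i) (D x) = 0 := by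
    intro i hi
    set z := D x with hz
    let K : AddSubgroup A := (D ^ i : AddMonoid.End A).ker
    let ν : A → A := fun a => θ a - (a + a)
    have hν : ∀ a ∈ K, ν a ∈ K := fun a ha => by
      have h1 := hθker i a ha
      show (D ^ i) (θ a - (a + a)) = 0
      rw [map_sub, map_add, h1, show (D ^ i) a = 0 from ha, add_zero, sub_zero]
    have hνinj : Function.Injective ν := fun a b hab => by
      refine sub_eq_zero.mp (hθ (a - b) ?_)
      have e : θ a - (a + a) = θ b - (b + b) := hab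
      rw [map_sub, ← sub_eq_zero]
      calc θ a - θ b - (a - b + (a - b)) = (θ a - (a + a)) - (θ b - (b + b)) := by abel
        _ = 0 := by rw [e, sub_self]
    let νK : K → K := fun a => ⟨ν a, hν a a.2⟩
    have hsurj : Function.Surjective νK := Finite.surjective_of_injective fun a b hab =>
      Subtype.ext (hνinj (congrArg Subtype.val hab))
    have hzK : ν z ∈ K := by
      show (D ^ i) (θ z - (z + z)) = 0
      have h1 : θ z = (D * (D + 2) * θ) x := DFunLike.congr_fun hθD x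
      have h2 : θ z - (z + z) = D z := by
        rw [h1, show (D * (D + 2) * θ) x = D ((D + 2) (θ x)) from rfl, hx,
          show (D + 2) x = D x + (2 : AddMonoid.End A) x from rfl,
          show (2 : AddMonoid.End A) x = x + x from by rw [← one_add_one_eq_two]; rfl, map_add, map_add, ← hz]
        abel
      rw [h2, ← show (D ^ (i + 1)) z = (D ^ i) (D z) from by rw [pow_succ]; rfl]
      exact hi
    obtain ⟨a, ha⟩ := hsurj ⟨ν z, hzK⟩
    have : (a : A) = z := hνinj (congrArg Subtype.val ha)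
    exact this ▸ a.2
  have hall : ∀ i, (D ^ i) (D x) = 0 → D x = 0 := fun i => by
    induction i with
    | zero => exact fun h => by simpa using h
    | succ i ih => exact fun h => ih (hstep i h)
  have h0 := hall _ (hnil (D x))
  rw [show D x = μ x - x from rfl] at h0
  exact sub_eq_zero.mp h0

section Ambient

universe u

variable {H : Type u} [Group H] [Finite H] {G : Subgroup H} {S : Sylow p G} {P : PU S F} {C : Case1 P}

theorem E_abelian (T : C.Inv) {n : ℕ} (hn : 1 ≤ n) (hF : Fintype.card F = p ^ n)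
    (hnorm : ∀ R : Subgroup G, R.Normal → IsPGroup p R → R ≠ ⊥ →
      normalizer ((R.map G.subtype : Subgroup H) : Set H) = G)
    (hN : ¬ normalizer (((S : Subgroup G).map G.subtype : Subgroup H) : Set H) ≤ G) :
    ∀ e ∈ T.E, ∀ f ∈ T.E, e * f = f * e := by
  classical
  by_contra hcon
  have hne : ⁅T.E, T.E⁆ ≠ ⊥ := fun h => hcon fun e he f hf =>
    commutatorElement_eq_one_iff_mul_comm.mp (mem_bot.mp (h ▸ commutator_mem_commutator he hf))
  have hES : T.E ≤ (S : Subgroup G) := T.E_le.trans (pCore_le_sylow S)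
  set SH := (S : Subgroup G).map G.subtype with hSH
  set N := normalizer (SH : Set H) with hNdef
  have hι : ∀ {X : Subgroup G} {x : G}, (x : H) ∈ X.map G.subtype ↔ x ∈ X := fun {X x} =>
    ⟨fun ⟨y, hy, he⟩ => (Subtype.ext he : y = x) ▸ hy, fun hx => ⟨x, hx, rfl⟩⟩
  have hGN : ∀ {g : G}, (g : H) ∈ N ↔ g ∈ normalizer ((S : Subgroup G) : Set G) := by
    intro g
    rw [hNdef, mem_normalizer_iff, mem_normalizer_iff]
    constructor
    · intro h y
      rw [← hι (X := (S : Subgroup G)), h, ← hι (X := (S : Subgroup G)) (x := g * y * g⁻¹)]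
      simp [hSH]
    · intro h y
      constructor
      · rintro ⟨z, hz, rfl⟩
        exact ⟨g * z * g⁻¹, (h z).mp hz, by simp⟩
      · rintro ⟨z, hz, he⟩
        refine ⟨g⁻¹ * z * g, (h _).mpr (by rwa [show g * (g⁻¹ * z * g) * g⁻¹ = z by group]), ?_⟩
        simp only [Subgroup.coe_subtype, Subgroup.coe_mul, Subgroup.coe_inv] at he ⊢
        rw [he]; group
  -- the elements of the central part have centralizer `G`
  have hcent : ∀ {x : G}, x ∈ ⁅T.E, T.E⁆ → x ≠ 1 → ∀ w : H, w * x = x * w → w ∈ G := by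
    intro x hx hx1 w hw
    have hcx := T.E_comm_central hx
    have hn' : (zpowers x).Normal := ⟨fun y hy g => by
      rw [mem_center_iff.mp (zpowers_le.mpr hcx hy) g, mul_inv_cancel_right]; exact hy⟩
    have hp' : IsPGroup p (zpowers x) :=
      (pCore_isPGroup (p := p) (G := G)).to_le (zpowers_le.mpr (T.E_le (commutator_le_self _ hx)))
    rw [← hnorm _ hn' hp' (fun h => hx1 (zpowers_eq_bot.mp h)), MonoidHom.map_zpowers]
    refine (centralizer_le_normalizer _) ?_
    refine mem_centralizer_iff.mpr ?_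
    rintro y ⟨i, rfl⟩
    exact ((show Commute w x from hw).zpow_right i).eq.symm
  have hti : ∀ {x : G}, x ∈ ⁅T.E, T.E⁆ → x ≠ 1 → ∀ w : H, ∀ y : G, y ∈ ⁅T.E, T.E⁆ → w * x * w⁻¹ = y → w ∈ G := by
    intro x hx hx1 w y hy he
    have hy1 : y ≠ 1 := fun h => hx1 (Subtype.ext (conj_eq_one_iff.mp (by rw [he, h]; rfl)))
    have hGG : cj G w ≤ G := by
      rintro _ ⟨g, hg, rfl⟩
      refine hcent hy hy1 _ ?_
      have hgx : g * (x : H) = x * g := congrArg Subtype.val (mem_center_iff.mp (T.E_comm_central hx) ⟨g, hg⟩)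
      show w * g * w⁻¹ * y = y * (w * g * w⁻¹)
      rw [← he]
      calc w * g * w⁻¹ * (w * x * w⁻¹) = w * (g * x) * w⁻¹ := by group
        _ = _ := by rw [hgx]; group
    have hwG : w ∈ normalizer (G : Set H) := cj_eq_self_iff.mp (eq_of_le_of_card_ge hGG (by rw [card_cj]))
    have := normalizer_le_normalizer_pCoreOf (p := p) G hwG
    rwa [show Cfsg.pCoreOf p G = (Cfsg.pCore p G).map G.subtype from rfl,
      hnorm _ inferInstance pCore_isPGroup P.pCore_ne_bot] at this
  -- transport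
  let sub : Subgroup G → Subgroup N := fun X => (X.map G.subtype).subgroupOf N
  have hsub : ∀ {X : Subgroup G} {y : N}, y ∈ sub X ↔ ∃ x ∈ X, (x : H) = y := fun {X y} => by
    show (y : H) ∈ X.map G.subtype ↔ _
    exact Subgroup.mem_map
  have hsubS : ∀ {X : Subgroup G}, X ≤ (S : Subgroup G) → ∀ x ∈ X, (x : H) ∈ N := fun hX x hx =>
    le_normalizer (mem_map_of_mem _ (hX hx))
  have hLS : P.L ≤ (S : Subgroup G) := P.L_le_Z.trans (P.Z_le.trans ((omegaZ_le _).trans (pCore_le_sylow S)))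
  have hE2S : ⁅T.E, T.E⁆ ≤ (S : Subgroup G) := (commutator_le_self _).trans hES
  have hMmem : ∀ {y : N}, y ∈ G.subgroupOf N → ∃ g : G, (g : H) = y ∧ g ∈ normalizer ((S : Subgroup G) : Set G) :=
    fun {y} hy => ⟨⟨y, hy⟩, rfl, hGN.mp y.2⟩
  haveI hSn : (SH.subgroupOf N).Normal := normal_subgroupOf_iff_le_normalizer le_normalizer |>.mpr le_rfl
  have hcardsub : ∀ {X : Subgroup G}, X ≤ (S : Subgroup G) → Nat.card (sub X) = Nat.card X := fun {X} hX => by
    rw [Nat.card_congr (subgroupOfEquivOfLe (by rintro _ ⟨x, hx, rfl⟩; exact hsubS hX x hx)).toEquiv]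
    exact Nat.card_congr (equivMapOfInjective _ _ G.subtype_injective).toEquiv.symm
  have d : ShiftData (N := N) p n (SH.subgroupOf N) (G.subgroupOf N) (sub P.L) (sub ⁅T.E, T.E⁆) := by
    constructor
    · exact T.five
    · omega
    · exact hSn
    · exact ((S.2.map G.subtype).comap_subtype)
    · intro y hy
      obtain ⟨x, -, he⟩ := mem_subgroupOf.mp hy
      exact mem_subgroupOf.mpr (he ▸ x.2)
    · intro m hm l hl
      obtain ⟨g, hg, hgn⟩ := hMmem hm
      obtain ⟨x, hx, he⟩ := hsub.mp hl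
      exact hsub.mpr ⟨g * x * g⁻¹, T.L_conj hgn hx, by simp [hg, he]⟩
    · intro m hm e he
      obtain ⟨g, hg, -⟩ := hMmem hm
      obtain ⟨x, hx, hxe⟩ := hsub.mp he
      apply Subtype.ext
      simp only [Subgroup.coe_mul, ← hg, ← hxe]
      exact congrArg Subtype.val (mem_center_iff.mp (T.E_comm_central hx) g)
    · intro s hs l hl
      obtain ⟨x, hx, hxs⟩ := mem_subgroupOf.mp hs
      obtain ⟨y, hy, hyl⟩ := hsub.mp hl
      apply Subtype.ext
      simp only [Subgroup.coe_mul, ← hyl, ← hxs, Subgroup.coe_subtype]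
      exact congrArg Subtype.val (T.L_comm hy hx)
    · intro l hl e he
      obtain ⟨x, hx, hxl⟩ := hsub.mp hl
      obtain ⟨y, hy, hye⟩ := hsub.mp he
      apply Subtype.ext
      simp only [Subgroup.coe_mul, ← hxl, ← hye]
      exact congrArg Subtype.val (mem_center_iff.mp (T.E_comm_central hy) x)
    · refine eq_bot_iff.mpr fun y hy => mem_bot.mpr ?_
      obtain ⟨x, hx, hxy⟩ := hsub.mp (mem_inf.mp hy).1
      obtain ⟨z, hz, hzy⟩ := hsub.mp (mem_inf.mp hy).2
      obtain rfl : z = x := Subtype.ext (hzy.trans hxy.symm)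
      have : z ∈ T.V0 ⊓ T.E := ⟨T.L_le_V0 hx, commutator_le_self _ hz⟩
      rw [T.V0_inf_E, mem_bot] at this
      exact Subtype.ext (by rw [← hzy, this]; rfl)
    · intro w l hl e he
      obtain ⟨x, hx, hxl⟩ := hsub.mp hl
      obtain ⟨y, hy, hye⟩ := hsub.mp he
      have h1 : ((x * y : G) : H) ∈ ⁅SH, SH⁆ := by
        rw [hSH, ← map_commutator]; exact mem_map_of_mem _ (T.mem_commS.mpr ⟨x, hx, y, hy, rfl⟩)
      have h2 : (w : H) * ((x * y : G) : H) * (w : H)⁻¹ ∈ ⁅SH, SH⁆ := by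
        have hc : cj ⁅SH, SH⁆ (w : H) = ⁅SH, SH⁆ := by rw [cj_commutator, cj_eq_self_iff.mpr w.2]
        exact hc.le (mem_map_of_mem _ h1)
      rw [hSH, ← map_commutator] at h2
      obtain ⟨z, hz, hzw⟩ := h2
      obtain ⟨x', hx', y', hy', rfl⟩ := T.mem_commS.mp hz
      refine ⟨⟨(x' : H), hsubS hLS x' hx'⟩, hsub.mpr ⟨x', hx', rfl⟩, ⟨(y' : H), hsubS hE2S y' hy'⟩,
        hsub.mpr ⟨y', hy', rfl⟩, Subtype.ext ?_⟩
      simp only [Subgroup.coe_mul, Subgroup.coe_inv, ← hxl, ← hye]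
      simpa using hzw.symm
    · intro w e he hne' hwe
      obtain ⟨x, hx, hxe⟩ := hsub.mp he
      obtain ⟨y, hy, hye⟩ := hsub.mp hwe
      refine mem_subgroupOf.mpr (hti hx (fun h => hne' (Subtype.ext (by rw [← hxe, h]; rfl))) w y hy ?_)
      rw [hye, hxe]; rfl
    · rw [hcardsub hLS, T.card_L, hF]
    · intro x hx hx1 y hy hy1
      obtain ⟨a, ha, hax⟩ := hsub.mp hx
      obtain ⟨b, hb, hby⟩ := hsub.mp hy
      obtain ⟨g, hg, he⟩ := T.L_trans ha (fun h => hx1 (Subtype.ext (by rw [← hax, h]; rfl))) hb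
        (fun h => hy1 (Subtype.ext (by rw [← hby, h]; rfl)))
      refine ⟨⟨g, hGN.mpr hg⟩, mem_subgroupOf.mpr g.2, Subtype.ext ?_⟩
      simp [← hax, ← hby, ← he]
    · intro m hm l hl hl1 hc
      obtain ⟨g, hg, hgn⟩ := hMmem hm
      obtain ⟨x, hx, hxl⟩ := hsub.mp hl
      have h := congrArg Subtype.val hc
      simp only [Subgroup.coe_mul, ← hg, ← hxl] at h
      have := T.L_free hgn hx (fun h' => hl1 (Subtype.ext (by rw [← hxl, h']; rfl))) (Subtype.ext h)
      exact mem_subgroupOf.mpr (hg ▸ mem_map_of_mem _ this)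
    · intro e he
      obtain ⟨x, hx, hxe⟩ := hsub.mp he
      apply Subtype.ext
      simp only [SubgroupClass.coe_pow, ← hxe]
      exact congrArg Subtype.val (T.E_pow (commutator_le_self _ hx))
    · intro h
      obtain ⟨x, hx, hx1⟩ := (Subgroup.bot_or_exists_ne_one _).resolve_left hne
      have : (⟨(x : H), hsubS hE2S x hx⟩ : N) ∈ (⊥ : Subgroup N) := h ▸ hsub.mpr ⟨x, hx, rfl⟩
      exact hx1 (Subtype.ext (congrArg (fun w : N => (w : H)) (mem_bot.mp this)))
    · intro h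
      exact hN fun w hw => mem_subgroupOf.mp (h ▸ mem_top (⟨w, hw⟩ : N))
  have h20 := P.two_ne_zero T.odd
  obtain ⟨g, hgn, hg0, h00, h01, h10, h11⟩ := T.exists_diag 2 h20
  set t : N := ⟨g, hGN.mpr hgn⟩ with htdef
  obtain ⟨u, huM, ⟨k, huk⟩, hu⟩ := d.exists_shift (t := t) (mem_subgroupOf.mpr g.2) fun l hl => by
    obtain ⟨x, hx, hxl⟩ := hsub.mp hl
    apply Subtype.ext
    simp only [Subgroup.coe_mul, Subgroup.coe_inv, ← hxl, htdef]
    refine congrArg Subtype.val (a₁ := g * x * g⁻¹) (a₂ := x * x) (T.L_ext (T.L_conj hgn hx) (mul_mem hx hx) ?_)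
    have hxV := P.Z_le (P.L_le_Z hx)
    rw [T.ψ_conj hgn hx, h00, P.vL.ψ_mul x hxV x hxV, Pi.add_apply, two_mul]
  -- the action on the Sylow subgroup modulo its centre
  set K := SH.subgroupOf N with hKdef
  let Ab := K ⧸ center K
  have hKlift : ∀ y : K, ∃ s ∈ (S : Subgroup G), (s : H) = ((y : N) : H) := fun y =>
    Subgroup.mem_map.mp (mem_subgroupOf.mp y.2)
  have hKcomm : ∀ a b : K, a * b * a⁻¹ * b⁻¹ ∈ center K := fun a b => mem_center_iff.mpr fun y => by
    obtain ⟨sa, hsa, ea⟩ := hKlift a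
    obtain ⟨sb, hsb, eb⟩ := hKlift b
    obtain ⟨sy, hsy, ey⟩ := hKlift y
    have h1 : ⁅⁅sa, sb⁆, sy⁆ = 1 := by
      refine mem_bot.mp (C.class_two.1 ▸ ?_)
      rw [Subgroup.lowerCentralSeries_succ, Subgroup.lowerCentralSeries_succ, Subgroup.lowerCentralSeries_zero]
      exact commutator_mem_commutator (commutator_mem_commutator hsa hsb) hsy
    have h2 := congrArg Subtype.val (commutatorElement_eq_one_iff_mul_comm.mp h1)
    simp only [commutatorElement_def, Subgroup.coe_mul, Subgroup.coe_inv, ea, eb, ey] at h2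
    exact Subtype.ext (Subtype.ext h2.symm)
  letI : CommGroup Ab := { (inferInstance : Group Ab) with
    mul_comm := fun a b => by
      obtain ⟨a, rfl⟩ := QuotientGroup.mk_surjective a
      obtain ⟨b, rfl⟩ := QuotientGroup.mk_surjective b
      refine QuotientGroup.eq.mpr ?_
      have := hKcomm b⁻¹ a⁻¹
      simpa [mul_assoc] using this }
  let act : N → Ab →* Ab := fun w => QuotientGroup.map (center K) (center K) (MulAut.conjNormal w).toMonoidHom
    (fun y hy => mem_comap.mpr (mem_center_iff.mpr fun z => by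
      have h := congrArg (MulAut.conjNormal w) (mem_center_iff.mp hy ((MulAut.conjNormal w).symm z))
      rw [map_mul, map_mul, MulEquiv.apply_symm_apply] at h
      exact h))
  have hact : ∀ w (y : K), act w (y : Ab) = ((MulAut.conjNormal w y : K) : Ab) := fun w y => rfl
  let Φ : N →* AddMonoid.End (Additive Ab) :=
    { toFun := fun w => MonoidHom.toAdditive (act w)
      map_one' := by
        refine AddMonoidHom.ext fun x => ?_
        obtain ⟨y, hy⟩ := QuotientGroup.mk_surjective x.toMul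
        obtain rfl : x = Additive.ofMul (y : Ab) := congrArg Additive.ofMul hy.symm
        show Additive.ofMul (act 1 (y : Ab)) = _
        rw [hact, map_one]; rfl
      map_mul' := fun w w' => by
        refine AddMonoidHom.ext fun x => ?_
        obtain ⟨y, hy⟩ := QuotientGroup.mk_surjective x.toMul
        obtain rfl : x = Additive.ofMul (y : Ab) := congrArg Additive.ofMul hy.symm
        show Additive.ofMul (act (w * w') (y : Ab)) = Additive.ofMul (act w (act w' (y : Ab)))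
        rw [hact, hact, hact, map_mul]; rfl }
  have hΦK : ∀ w ∈ K, Φ w = 1 := fun w hw => by
    refine AddMonoidHom.ext fun x => ?_
    obtain ⟨y, hy⟩ := QuotientGroup.mk_surjective x.toMul
    obtain rfl : x = Additive.ofMul (y : Ab) := congrArg Additive.ofMul hy.symm
    show Additive.ofMul (act w (y : Ab)) = Additive.ofMul (y : Ab)
    rw [hact]
    refine congrArg Additive.ofMul ?_
    have : MulAut.conjNormal w y = (⟨w, hw⟩ : K) * y * (⟨w, hw⟩ : K)⁻¹ :=
      Subtype.ext (by rw [MulAut.conjNormal_apply]; rfl)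
    rw [this, QuotientGroup.mk_mul, QuotientGroup.mk_mul, mul_comm ((⟨w, hw⟩ : K) : Ab), QuotientGroup.mk_inv,
      mul_inv_cancel_right]
  have hA : ∀ x : Additive Ab, p • x = 0 := fun x => by
    obtain ⟨y, hy⟩ := QuotientGroup.mk_surjective x.toMul
    obtain rfl : x = Additive.ofMul (y : Ab) := congrArg Additive.ofMul hy.symm
    show Additive.ofMul ((y : Ab) ^ p) = Additive.ofMul (1 : Ab)
    rw [← QuotientGroup.mk_pow, show y ^ p = 1 from ?_, QuotientGroup.mk_one]
    obtain ⟨s, hs, es⟩ := hKlift y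
    have h := Monoid.pow_exponent_eq_one (⟨s, hs⟩ : ↥(S : Subgroup G))
    rw [C.class_two.2.2.2 T.odd] at h
    apply Subtype.ext; apply Subtype.ext
    rw [SubgroupClass.coe_pow, SubgroupClass.coe_pow, ← es, ← SubgroupClass.coe_pow]
    exact congrArg (fun z : ↥(S : Subgroup G) => ((z : G) : H)) h
  have hrel : Φ t * Φ u = Φ u * Φ u * Φ t := by
    have h := hΦK _ hu
    rw [← map_mul, ← map_mul, ← map_mul, show t * u = t * u * t⁻¹ * (u * u)⁻¹ * ((u * u) * t) by group, map_mul, h,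
      one_mul, map_mul]
  have hθ : ∀ x : Additive Ab, Φ t x = x + x → x = 0 := fun x hx => by
    obtain ⟨y, hy⟩ := QuotientGroup.mk_surjective x.toMul
    obtain rfl : x = Additive.ofMul (y : Ab) := congrArg Additive.ofMul hy.symm
    obtain ⟨s, hs, es⟩ := hKlift y
    have h1 : act t (y : Ab) = (y : Ab) * (y : Ab) := hx
    rw [hact, ← QuotientGroup.mk_mul] at h1
    have h2 := mem_center_iff.mp (QuotientGroup.eq.mp h1.symm)
    have h3 : ∀ z ∈ (S : Subgroup G), z * (g * s * g⁻¹ * (s * s)⁻¹) = g * s * g⁻¹ * (s * s)⁻¹ * z := by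
      intro z hz
      have hcy : MulAut.conjNormal t y * (y * y)⁻¹ ∈ center K := by
        have h := (inferInstance : (center K).Normal).conj_mem _ (QuotientGroup.eq.mp h1.symm) (y * y)
        rwa [show y * y * ((y * y)⁻¹ * MulAut.conjNormal t y) * (y * y)⁻¹ = MulAut.conjNormal t y * (y * y)⁻¹ by
          group] at h
      have h4 := mem_center_iff.mp hcy ⟨⟨(z : H), hsubS le_rfl z hz⟩, mem_subgroupOf.mpr (mem_map_of_mem _ hz)⟩
      have h5 := congrArg (fun w : K => ((w : N) : H)) h4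
      simp only [Subgroup.coe_mul, Subgroup.coe_inv, MulAut.conjNormal_apply, ← es, htdef] at h5
      exact Subtype.ext (by simpa only [Subgroup.coe_mul, Subgroup.coe_inv] using h5)
    have h6 := T.central_of_double hgn hg0 h00 h01 h10 h11 hs h3
    refine congrArg Additive.ofMul ((QuotientGroup.eq_one_iff y).mpr (mem_center_iff.mpr fun z => ?_))
    obtain ⟨sz, hsz, ez⟩ := hKlift z
    apply Subtype.ext; apply Subtype.ext
    simp only [Subgroup.coe_mul, ← ez, ← es]
    exact congrArg Subtype.val (h6 sz hsz)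
  have hμ : Φ u ^ p ^ k = 1 := by rw [← map_pow, huk, map_one]
  -- the conclusion
  have hfixE : ∀ e ∈ T.E, ∃ z : G, (u : H) * e * (u : H)⁻¹ = e * z ∧ z ∈ (S : Subgroup G) ∧
      ∀ s ∈ (S : Subgroup G), s * z = z * s := by
    intro e he
    let y : K := ⟨⟨(e : H), hsubS hES e he⟩, mem_subgroupOf.mpr (mem_map_of_mem _ (hES he))⟩
    have hx : Φ t (Additive.ofMul (y : Ab)) = Additive.ofMul (y : Ab) := by
      show Additive.ofMul (act t (y : Ab)) = _
      rw [hact, show MulAut.conjNormal t y = y from ?_]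
      apply Subtype.ext; apply Subtype.ext
      rw [MulAut.conjNormal_apply]
      simp only [Subgroup.coe_mul, Subgroup.coe_inv, htdef, y]
      rw [show (g : H) * e = e * g from congrArg Subtype.val (T.G0_comm_E hg0 he), mul_inv_cancel_right]
    have h1 : act u (y : Ab) = (y : Ab) := fixed_of_shift T.odd hA hμ hrel hθ hx
    rw [hact] at h1
    have h2 := QuotientGroup.eq.mp h1.symm
    obtain ⟨z, hz, hzy⟩ := hKlift (y⁻¹ * MulAut.conjNormal u y)
    refine ⟨z, ?_, hz, fun s hs => ?_⟩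
    · rw [hzy]
      simp only [Subgroup.coe_mul, Subgroup.coe_inv, MulAut.conjNormal_apply, y]
      group
    · have h3 := mem_center_iff.mp h2 ⟨⟨(s : H), hsubS le_rfl s hs⟩, mem_subgroupOf.mpr (mem_map_of_mem _ hs)⟩
      have h4 := congrArg (fun w : K => ((w : N) : H)) h3
      rw [Subtype.ext_iff, Subgroup.coe_mul, Subgroup.coe_mul, hzy]
      simpa only [Subgroup.coe_mul] using h4
  obtain ⟨e, he, f, hf, hef⟩ : ∃ e ∈ T.E, ∃ f ∈ T.E, ⁅e, f⁆ ≠ 1 := by
    by_contra h; push Not at h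
    exact hne (eq_bot_iff.mpr (commutator_le.mpr fun e he f hf => mem_bot.mpr (h e he f hf)))
  obtain ⟨z, hze, hzS, hzc⟩ := hfixE e he
  obtain ⟨z', hzf, hzS', hzc'⟩ := hfixE f hf
  have h1 : ⁅e * z, f * z'⁆ = ⁅e, f⁆ := by
    rw [comm_mul_comm (hzc' e (hES he)) (hzc f (hES hf))
      (hzc e (hES he)) (hzc' f (hES hf)), commutatorElement_eq_one_iff_mul_comm.mpr (hzc' z hzS), mul_one]
  refine huM (mem_subgroupOf.mpr (hcent (commutator_mem_commutator he hf) hef u ?_))
  refine mul_inv_eq_iff_eq_mul.mp ?_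
  rw [← G.coe_subtype, map_commutatorElement]
  calc (u : H) * ⁅G.subtype e, G.subtype f⁆ * (u : H)⁻¹ =
      ⁅(u : H) * e * (u : H)⁻¹, (u : H) * f * (u : H)⁻¹⁆ := by simp only [commutatorElement_def, coe_subtype]; group
    _ = G.subtype ⁅e * z, f * z'⁆ := by rw [hze, hzf, map_commutatorElement]; rfl
    _ = _ := by rw [h1, map_commutatorElement]

end Ambient

end Cfsg.Agent.H31.PushUp
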