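import Cfsg.Agent.H31.SL2Pair.Offender
import Cfsg.Agent.Cores.PCore
import Cfsg.Agent.Linear.TwoSL
import Cfsg.Agent.Linear.Unitriangular
import Cfsg.Agent.H60.Basic
import Cfsg.Prelude.Def_LocalEven
import Cfsg.Prelude.Def_EvenType

/-!
# Groups with a rank one quotient and a unique maximal subgroup over a Sylow subgroup
-/

set_option autoImplicit false
set_option linter.unusedSectionVars false

namespace Cfsg.Agent.H31.PushUp

open Subgroup Matrix Cfsg.Agent Cfsg.Agent.Cores
open scoped Pointwise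

/-- A group with quotient `PSL₂(F)` in which a Sylow `p`-subgroup lies in a unique maximal subgroup. -/
structure RankOne {G : Type*} [Group G] {p : ℕ} (S : Sylow p G) (F : Type) [Field F] [Fintype F] where
  M : Subgroup G
  hM : IsCoatom M
  SM : (S : Subgroup G) ≤ M
  uniq : ∀ N, IsCoatom N → (S : Subgroup G) ≤ N → N = M
  π : G →* Matrix.ProjectiveSpecialLinearGroup (Fin 2) F
  surj : Function.Surjective π
  char : CharP F p

variable {F : Type} [Field F] [Fintype F] {p : ℕ} [Fact p.Prime]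

local notation "S2" => Matrix.SpecialLinearGroup (Fin 2) F
local notation "M2" => Matrix (Fin 2) (Fin 2) F
local notation "PS2" => Matrix.ProjectiveSpecialLinearGroup (Fin 2) F
local notation "mkP" => QuotientGroup.mk' (Subgroup.center (Matrix.SpecialLinearGroup (Fin 2) F))

/-- A proper subgroup of `SL₂(F)` containing the upper unitriangular group is upper triangular. -/
theorem upper_of_ne_top {H : Subgroup S2} (hU : Linear.unitriSL 2 F ≤ H) (hH : H ≠ ⊤) {h : S2} (hh : h ∈ H) :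
    (h : M2) 1 0 = 0 := by
  by_contra hne
  refine hH (top_le_iff.mp (Linear.unitriSL_sup_conj_eq_top hne ▸ sup_le hU fun u hu => ?_))
  rw [mem_pointwise_smul_iff_inv_smul_mem] at hu
  have := mul_mem (mul_mem hh (hU hu)) (inv_mem hh)
  simpa [mul_assoc] using this

theorem unitri_pow (u : S2) (hu : u ∈ Linear.unitriSL 2 F) (v : S2) (hv : v ∈ Linear.unitriSL 2 F) :
    (u : M2) 0 1 + (v : M2) 0 1 = ((u * v : S2) : M2) 0 1 := by
  obtain ⟨a, b, c⟩ := Linear.unitriSL_two_eq.mp hu
  obtain ⟨a', b', c'⟩ := Linear.unitriSL_two_eq.mp hv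
  simp [Matrix.SpecialLinearGroup.coe_mul, Matrix.mul_apply, Fin.sum_univ_two, b, c', add_comm]

theorem card_unitri_two [CharP F p] : Nat.card (Linear.unitriSL 2 F) = Fintype.card F := by
  have h := Linear.card_sylow_SL p (Linear.unitriSylowSL 2 F p)
  simpa using h

/-- An element of `p`-power order in the upper triangular group is unitriangular. -/
theorem unitri_of_upper [CharP F p] {h : S2} (h10 : (h : M2) 1 0 = 0) {k : ℕ} (hk : h ^ p ^ k = 1) :
    h ∈ Linear.unitriSL 2 F := by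
  have hdet : (h : M2) 0 0 * (h : M2) 1 1 = 1 := by
    have := Linear.SL_det_two h
    rwa [h10, mul_zero, sub_zero] at this
  have hn : ∀ n : ℕ, ((h ^ n : S2) : M2) 1 0 = 0 ∧ ((h ^ n : S2) : M2) 0 0 = (h : M2) 0 0 ^ n := by
    intro n
    induction n with
    | zero => simp
    | succ n ih =>
        rw [pow_succ, Matrix.SpecialLinearGroup.coe_mul]
        constructor <;>
          simp [pow_succ, Matrix.mul_apply, Fin.sum_univ_two, -Matrix.SpecialLinearGroup.coe_pow, ih.1, ih.2, h10]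
  have h00 : (h : M2) 0 0 ^ p ^ k = 1 := by
    have := (hn (p ^ k)).2
    rw [hk] at this
    simpa using this.symm
  have h1 : (h : M2) 0 0 = 1 := by
    have := sub_pow_char_pow (x := (h : M2) 0 0) (y := (1 : F)) (p := p) (n := k)
    rw [h00, one_pow, sub_self] at this
    exact sub_eq_zero.mp ((pow_eq_zero_iff (pow_ne_zero _ (Fact.out : p.Prime).ne_zero)).mp this)
  rw [h1, one_mul] at hdet
  exact Linear.unitriSL_two_eq.mpr ⟨h10, h1, hdet⟩

theorem isPGroup_map_proj [CharP F p] : IsPGroup p ((Linear.unitriSL 2 F).map mkP) :=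
  (Linear.unitriSylowSL 2 F p).2.map _

theorem not_dvd_center [CharP F p] : ¬ p ∣ Nat.card (Subgroup.center S2) := by
  intro h
  obtain ⟨z, hz⟩ := exists_prime_orderOf_dvd_card' p h
  have hzp : (z : S2) ^ p = 1 := by
    have := congrArg Subtype.val (pow_orderOf_eq_one z)
    rwa [hz, coe_pow, coe_one] at this
  have hz1 : z ≠ 1 := fun e => by rw [e, orderOf_one] at hz; exact (Fact.out : p.Prime).one_lt.ne hz
  rcases Linear.mem_center_SL_two.mp z.2 with h | h
  · exact hz1 (Subtype.ext h)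
  · have := unitri_of_upper (p := p) (h := (z : S2)) (by simp [h]) (k := 1) (by rwa [pow_one])
    obtain ⟨-, h00, -⟩ := Linear.unitriSL_two_eq.mp this
    refine hz1 (Subtype.ext (h.trans ?_))
    ext i j
    have h00' : (-1 : F) = 1 := by simpa [h] using h00
    fin_cases i <;> fin_cases j <;> simp [h00']

variable {G : Type*} [Group G] [Finite G] {S : Sylow p G}

namespace RankOne

variable (R : RankOne S F)
include R

theorem proj_sylow : ∃ c : S2, ((S : Subgroup G).map R.π) =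
    ((Linear.unitriSL 2 F).map (MulAut.conj c).toMonoidHom).map mkP ∧
    Nat.card ((S : Subgroup G).map R.π) = Fintype.card F := by
  haveI := R.char
  obtain ⟨c, hc⟩ := MulAction.exists_smul_eq PS2
    ((Linear.unitriSylowSL 2 F p).mapSurjective (QuotientGroup.mk'_surjective (Subgroup.center S2)))
    (S.mapSurjective R.surj)
  obtain ⟨c, rfl⟩ := QuotientGroup.mk'_surjective _ c
  have he : ((S : Subgroup G).map R.π) = ((Linear.unitriSL 2 F).map (MulAut.conj c).toMonoidHom).map mkP := by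
    rw [← Sylow.coe_mapSurjective R.surj S, ← hc, Sylow.coe_subgroup_smul, Sylow.coe_mapSurjective,
      Linear.unitriSylowSL_coe]
    ext x
    constructor
    · rintro ⟨_, ⟨u, hu, rfl⟩, rfl⟩
      exact ⟨_, ⟨u, hu, rfl⟩, by simp⟩
    · rintro ⟨_, ⟨u, hu, rfl⟩, rfl⟩
      exact ⟨_, ⟨u, hu, rfl⟩, by simp⟩
  refine ⟨c, he, ?_⟩
  rw [he]
  set U := (Linear.unitriSL 2 F).map (MulAut.conj c).toMonoidHom with hU
  have hcU : Nat.card U = Fintype.card F := by
    rw [hU, ← Nat.card_congr ((Linear.unitriSL 2 F).equivMapOfInjective _ (MulAut.conj c).injective).toEquiv,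
      card_unitri_two (p := p)]
  rw [← hcU]
  refine (Nat.card_congr (Equiv.ofBijective (fun u : U => (⟨mkP u, u, u.2, rfl⟩ : U.map mkP)) ⟨fun u v huv => ?_,
    fun ⟨_, u, hu, rfl⟩ => ⟨⟨u, hu⟩, rfl⟩⟩)).symm
  have h1 : mkP ((u : S2)⁻¹ * v) = 1 := by
    rw [map_mul, map_inv, inv_mul_eq_one]
    exact congrArg Subtype.val huv
  rw [QuotientGroup.mk'_apply, QuotientGroup.eq_one_iff] at h1
  have h2 : orderOf ((u : S2)⁻¹ * v) ∣ Nat.card (Subgroup.center S2) := by
    rw [← Subgroup.orderOf_mk _ h1]; exact orderOf_dvd_natCard _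
  have hpU : IsPGroup p U := (Linear.unitriSylowSL 2 F p).2.map (MulAut.conj c).toMonoidHom
  obtain ⟨k, hk⟩ := hpU.exists_orderOf_dvd_pow
    (⟨_, mul_mem (inv_mem u.2) v.2⟩ : U)
  have h3 : orderOf ((u : S2)⁻¹ * v) ∣ p ^ k := by rwa [Subgroup.orderOf_mk] at hk
  have := Nat.dvd_gcd h3 h2
  rw [Nat.Coprime.gcd_eq_one (((Fact.out : p.Prime).coprime_iff_not_dvd.mpr (not_dvd_center (F := F))).pow_left k),
    Nat.dvd_one, orderOf_eq_one_iff, inv_mul_eq_one] at this
  exact Subtype.ext this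

theorem map_proper : (S : Subgroup G).map R.π ≠ ⊤ := by
  intro h
  haveI := R.char
  obtain ⟨c, he, -⟩ := R.proj_sylow
  have hsur := h
  rw [he] at hsur
  have htop : (Linear.unitriSL 2 F).map (MulAut.conj c).toMonoidHom ⊔ Subgroup.center S2 = ⊤ := by
    rw [← QuotientGroup.ker_mk' (Subgroup.center S2), ← comap_map_eq, hsur, comap_top]
  let low : S2 := ⟨!![1, 0; 1, 1], by simp [Matrix.det_fin_two_of]⟩
  have hup : Linear.unitriSL 2 F ⊔ Subgroup.center S2 = ⊤ := by
    apply Subgroup.map_injective (f := (MulAut.conj c).toMonoidHom) (MulAut.conj c).injective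
    rw [Subgroup.map_sup, map_top_of_surjective _ (MulAut.conj c).surjective,
      show (Subgroup.center S2).map (MulAut.conj c).toMonoidHom = Subgroup.center S2 from
        characteristic_iff_map_eq.mp inferInstance (MulAut.conj c)]
    exact htop
  obtain ⟨u, hu, z, hz, he⟩ := Subgroup.mem_sup_of_normal_right.mp (hup ▸ mem_top low)
  have h10 := congrArg (fun g : S2 => (g : M2) 1 0) he
  obtain ⟨a, -, -⟩ := Linear.unitriSL_two_eq.mp hu
  rcases Linear.mem_center_SL_two.mp hz with rfl | rfl <;>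
    simp [low, Matrix.mul_apply, Fin.sum_univ_two, a] at h10

theorem ker_le : R.π.ker ≤ R.M := by
  have hne : (S : Subgroup G) ⊔ R.π.ker ≠ ⊤ := fun h => R.map_proper (by
    rw [← map_top_of_surjective R.π R.surj, ← h, Subgroup.map_sup, (Subgroup.map_eq_bot_iff _).mpr le_rfl, sup_bot_eq])
  obtain ⟨N, hN, hle⟩ := (eq_top_or_exists_le_coatom _).resolve_left hne
  exact (R.uniq N hN (le_sup_left.trans hle)) ▸ le_sup_right.trans hle

theorem M_map_proper : R.M.map R.π ≠ ⊤ := fun h => R.hM.1 (by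
  have := congrArg (Subgroup.comap R.π) h
  rwa [comap_map_eq, sup_eq_left.mpr R.ker_le, comap_top] at this)

/-- The maximal subgroup maps into a Borel subgroup: there are coordinates. -/
theorem exists_frame : ∃ c : S2,
    (∀ s ∈ (S : Subgroup G), ∃ u ∈ Linear.unitriSL 2 F, R.π s = mkP (c * u * c⁻¹)) ∧
    (∀ u ∈ Linear.unitriSL 2 F, ∃ s ∈ (S : Subgroup G), R.π s = mkP (c * u * c⁻¹)) ∧
    ∀ g ∈ R.M, ∀ h : S2, R.π g = mkP (c * h * c⁻¹) → (h : M2) 1 0 = 0 := by
  obtain ⟨c, he, -⟩ := R.proj_sylow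
  refine ⟨c, fun s hs => ?_, fun u hu => ?_, fun g hg h hgh => ?_⟩
  · obtain ⟨_, ⟨u, hu, rfl⟩, h⟩ := he ▸ mem_map_of_mem R.π hs
    exact ⟨u, hu, h.symm⟩
  · obtain ⟨s, hs, h⟩ : mkP (c * u * c⁻¹) ∈ (S : Subgroup G).map R.π := by
      rw [he]; exact ⟨_, ⟨u, hu, rfl⟩, rfl⟩
    exact ⟨s, hs, h⟩
  · let f := (mkP).comp (MulAut.conj c).toMonoidHom
    have hf : Function.Surjective f := (QuotientGroup.mk'_surjective _).comp (MulAut.conj c).surjective
    refine upper_of_ne_top (H := (R.M.map R.π).comap f) (fun u hu => ?_) (fun h => ?_) ⟨g, hg, hgh⟩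
    · obtain ⟨s, hs, h⟩ : f u ∈ (S : Subgroup G).map R.π := by
        rw [he]; exact ⟨_, ⟨u, hu, rfl⟩, rfl⟩
      exact ⟨s, R.SM hs, h⟩
    · refine R.M_map_proper ?_
      rw [← map_comap_eq_self_of_surjective hf (R.M.map R.π), h, map_top_of_surjective _ hf]

theorem normalClosure_eq_top : normalClosure ((S : Subgroup G) : Set G) = ⊤ := by
  by_contra hne
  set N := normalClosure ((S : Subgroup G) : Set G)
  obtain ⟨K, hK, hle⟩ := (eq_top_or_exists_le_coatom _).resolve_left hne
  have hNM : N ≤ R.M := R.uniq K hK (subset_normalClosure.trans hle) ▸ hle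
  obtain ⟨c, -, hsur, hup⟩ := R.exists_frame
  let w : S2 := ⟨!![0, -1; 1, 0], by simp [Matrix.det_fin_two_of]⟩
  obtain ⟨x, hx⟩ := R.surj (mkP (c * w * c⁻¹))
  let T : S2 := Matrix.SpecialLinearGroup.transvection (zero_ne_one (α := Fin 2)) (1 : F)
  obtain ⟨s, hs, hs'⟩ := hsur T (Linear.transvection_mem_unitriSL 1)
  have := hup _ (hNM ((normalClosure_normal).conj_mem s (subset_normalClosure hs) x))
    (w * T * w⁻¹) (by
      rw [map_mul, map_mul, map_inv, hx, hs']
      simp only [map_mul, map_inv]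
      group)
  have hw0 : (w : M2) 1 0 = 1 ∧ (w : M2) 1 1 = 0 := ⟨rfl, rfl⟩
  have hT : (T : M2) 0 1 = 1 ∧ (T : M2) 0 0 = 1 ∧ (T : M2) 1 1 = 1 ∧ (T : M2) 1 0 = 0 := by
    simp [T, Matrix.SpecialLinearGroup.transvection_coe]
  obtain ⟨i1, i2, i3, i4⟩ := Linear.SL_inv_entries w
  clear_value w T
  simp [Linear.SL_mul_entries, i1, i2, i3, i4, hw0.1, hw0.2, hT.1, hT.2.1, hT.2.2.1, hT.2.2.2] at this

theorem le_of_normal {N : Subgroup G} (hN : N.Normal) (h : (S : Subgroup G) ≤ N) : N = ⊤ :=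
  top_le_iff.mp (R.normalClosure_eq_top ▸ normalClosure_le_normal h)

theorem normalizer_le : normalizer ((S : Subgroup G) : Set G) ≤ R.M := by
  intro g hg
  have hMnn : ¬ R.M.Normal := fun h => R.hM.1 (R.le_of_normal h R.SM)
  have hN : normalizer (R.M : Set G) = R.M := (R.hM.le_iff.mp le_normalizer).resolve_left fun h =>
    hMnn (normalizer_eq_top_iff.mp h)
  rw [← hN, ← H60.cj_eq_self_iff]
  refine R.uniq _ ?_ ?_
  · exact ((MulAut.conj g).mapSubgroup.isCoatom_iff R.M).mpr R.hM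
  · intro s hs
    rw [H60.mem_cj]
    have := (mem_normalizer_iff.mp (inv_mem hg) s).mp hs
    rw [inv_inv] at this
    exact R.SM this

theorem mem_of_conj_le {g : G} (h : H60.cj (S : Subgroup G) g ≤ R.M) : g ∈ R.M := by
  let S' : Sylow p G := g • S
  have hS' : (S' : Subgroup G) = H60.cj (S : Subgroup G) g := by rw [Sylow.coe_subgroup_smul]; rfl
  obtain ⟨m, hm⟩ := MulAction.exists_smul_eq R.M (S.subtype R.SM) (S'.subtype (hS' ▸ h))
  have h2 : ((m : G) • S : Sylow p G) = S' := by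
    apply Sylow.subtype_injective (hP := by
      rw [Sylow.coe_subgroup_smul]
      rintro _ ⟨x, hx, rfl⟩
      exact mul_mem (mul_mem m.2 (R.SM hx)) (inv_mem m.2)) (hQ := hS' ▸ h)
    rw [← hm, Sylow.smul_subtype R.SM m]
    rfl
  have h3 : ((m : G)⁻¹ * g) • S = S := by rw [mul_smul, show g • S = S' from rfl, ← h2, inv_smul_smul]
  have := R.normalizer_le (Sylow.smul_eq_iff_mem_normalizer.mp h3)
  simpa using mul_mem m.2 this

theorem sup_conj_eq_top {g : G} (hg : g ∉ R.M) : (S : Subgroup G) ⊔ H60.cj (S : Subgroup G) g = ⊤ := by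
  by_contra hne
  obtain ⟨T, hT, hle⟩ := (eq_top_or_exists_le_coatom _).resolve_left hne
  exact hg (R.mem_of_conj_le (le_sup_right.trans (R.uniq T hT (le_sup_left.trans hle) ▸ hle)))

theorem exists_not_mem : ∃ g : G, g ∉ R.M := by
  by_contra h
  push Not at h
  exact R.hM.1 (eq_top_iff.mpr fun x _ => h x)

/-- Two `p`-elements of the maximal subgroup conjugate outside it lie in the core. -/
theorem mem_ker_of_conj {g y : G} (hg : g ∉ R.M) (hy : y ∈ R.M) {k : ℕ} (hk : y ^ p ^ k = 1)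
    (hgy : g⁻¹ * y * g ∈ R.M) : y ∈ R.π.ker := by
  haveI := R.char
  obtain ⟨c, hin, hsur, hup⟩ := R.exists_frame
  obtain ⟨h0, hh0⟩ := QuotientGroup.mk'_surjective (Subgroup.center S2) (R.π y)
  obtain ⟨g0, hg0⟩ := QuotientGroup.mk'_surjective (Subgroup.center S2) (R.π g)
  -- a lift of `p`-power order
  obtain ⟨u, hu, k', hk'⟩ : ∃ u : S2, mkP (c * u * c⁻¹) = R.π y ∧ ∃ k', u ^ p ^ k' = 1 := by
    set h1 := c⁻¹ * h0 * c with hh1
    have hy1 : mkP (c * h1 * c⁻¹) = R.π y := by rw [hh1, ← hh0]; group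
    obtain ⟨z, hz⟩ : ∃ z : Subgroup.center S2, h1 ^ p ^ k = z := by
      have : mkP (h0 ^ p ^ k) = 1 := by rw [map_pow, hh0, ← map_pow, hk, map_one]
      rw [QuotientGroup.mk'_apply, QuotientGroup.eq_one_iff] at this
      refine ⟨⟨h0 ^ p ^ k, this⟩, ?_⟩
      have e : h1 ^ p ^ k = c⁻¹ * h0 ^ p ^ k * c := by
        have := conj_pow (i := p ^ k) (a := c⁻¹) (b := h0)
        simpa [hh1] using this
      rw [e, mul_assoc, ← mem_center_iff.mp this c, inv_mul_cancel_left]
    -- adjust by the center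
    have hco : (Nat.card (Subgroup.center S2)).Coprime (p ^ k) :=
      ((Fact.out : p.Prime).coprime_iff_not_dvd.mpr (not_dvd_center (F := F))).symm.pow_right k
    obtain ⟨w, hw⟩ := (powCoprime hco).surjective z⁻¹
    have hwz : (w : S2) ^ p ^ k = (z : S2)⁻¹ := congrArg Subtype.val hw
    refine ⟨h1 * w, ?_, k, ?_⟩
    · rw [← hy1]
      refine QuotientGroup.eq.mpr ?_
      have : c * (h1 * (w : S2)) * c⁻¹ = c * h1 * c⁻¹ * w := by
        rw [← mul_assoc c, mul_assoc (c * h1) (w : S2), ← mem_center_iff.mp w.2 c⁻¹, ← mul_assoc]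
      rw [this, show (c * h1 * c⁻¹ * (w : S2))⁻¹ * (c * h1 * c⁻¹) = ((w : S2))⁻¹ by group]
      exact inv_mem w.2
    · rw [Commute.mul_pow (mem_center_iff.mp w.2 h1), hz, hwz, mul_inv_cancel]
  have hu10 := hup y hy u hu.symm
  have huU := unitri_of_upper hu10 hk'
  set g1 := c⁻¹ * g0 * c with hg1
  set v := g1⁻¹ * u * g1 with hv
  have hv10 := hup _ hgy v (by
    rw [map_mul, map_mul, map_inv, ← hu, ← hg0, ← map_inv, ← map_mul, ← map_mul, hv, hg1]
    congr 1; group)
  have hvk : v ^ p ^ k' = 1 := by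
    have := conj_pow (i := p ^ k') (a := g1⁻¹) (b := u)
    rw [inv_inv] at this
    rw [hv, this, hk', mul_one, inv_mul_cancel]
  have hvU := unitri_of_upper hv10 hvk
  by_cases hu1 : u = 1
  · rw [MonoidHom.mem_ker, ← hu, hu1]; simp
  exfalso
  have hg10 : (g1 : M2) 1 0 = 0 := by
    have e : u * g1 = g1 * v := by rw [hv]; group
    have h00 := congrArg (fun g : S2 => (g : M2) 0 0) e
    obtain ⟨a, b, cc⟩ := Linear.unitriSL_two_eq.mp huU
    obtain ⟨a', b', cc'⟩ := Linear.unitriSL_two_eq.mp hvU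
    simp [Matrix.mul_apply, Fin.sum_univ_two, b, a', b'] at h00
    rcases h00 with h | h
    · exact absurd (Linear.SL_ext_two (by simp [b]) (by simp [h]) (by simp [a]) (by simp [cc])) hu1
    · exact h
  -- `g` lies in the maximal subgroup
  refine hg (R.mem_of_conj_le ?_)
  rintro _ ⟨s, hs, rfl⟩
  obtain ⟨u', hu', hsu⟩ := hin s hs
  obtain ⟨a, b, cc⟩ := Linear.unitriSL_two_eq.mp hu'
  have hdet := Linear.SL_det_two g1
  rw [hg10, mul_zero, sub_zero] at hdet
  have hgu : g1 * u' * g1⁻¹ ∈ Linear.unitriSL 2 F := by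
    refine Linear.unitriSL_two_eq.mpr ⟨?_, ?_, ?_⟩ <;>
      simp [Matrix.mul_apply, Fin.sum_univ_two, hg10, a, b, cc, Matrix.SpecialLinearGroup.coe_inv,
        Matrix.adjugate_fin_two] <;>
      linear_combination hdet
  obtain ⟨s', hs', hsu'⟩ := hsur _ hgu
  have hker : g * s * g⁻¹ * s'⁻¹ ∈ R.π.ker := by
    rw [MonoidHom.mem_ker, map_mul, map_mul, map_mul, map_inv, map_inv, hsu, hsu', ← hg0, hg1]
    simp only [map_mul, map_inv]
    group
  show g * s * g⁻¹ ∈ R.M
  have := mul_mem (R.ker_le hker) (R.SM hs')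
  rwa [inv_mul_cancel_right] at this

/-- The largest normal `p`-subgroup is the intersection with the Sylow subgroup. -/
theorem inf_ker_le : (S : Subgroup G) ⊓ R.π.ker ≤ Cfsg.pCore p G := by
  haveI := SL2Pair.normal_sylow_inf_core S R.M R.hM R.uniq
  have hle : (S : Subgroup G) ⊓ R.π.ker ≤ (S : Subgroup G) ⊓ R.M.normalCore :=
    le_inf inf_le_left (inf_le_right.trans ((normal_le_normalCore).mpr R.ker_le))
  exact hle.trans (le_pCore (S.2.to_le inf_le_left))

theorem pCore_le_ker : Cfsg.pCore p G ≤ R.π.ker := by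
  intro x hx
  obtain ⟨g, hg⟩ := R.exists_not_mem
  have hxM : x ∈ R.M := R.SM (pCore_le_sylow S hx)
  have hgx : g⁻¹ * x * g ∈ R.M := R.SM (pCore_le_sylow S (by
    simpa using (inferInstance : (Cfsg.pCore p G).Normal).conj_mem x hx g⁻¹))
  obtain ⟨k, hk⟩ := pCore_isPGroup (p := p) (G := G) ⟨x, hx⟩
  exact R.mem_ker_of_conj hg hxM (k := k) (by simpa using congrArg Subtype.val hk) hgx

theorem inf_ker_eq : (S : Subgroup G) ⊓ R.π.ker = Cfsg.pCore p G :=
  le_antisymm R.inf_ker_le (le_inf (pCore_le_sylow S) R.pCore_le_ker)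

theorem card_sylow : Nat.card S = Nat.card (Cfsg.pCore p G) * Fintype.card F := by
  obtain ⟨c, -, hc⟩ := R.proj_sylow
  let f := R.π.comp (S : Subgroup G).subtype
  have hk : f.ker = (Cfsg.pCore p G).subgroupOf S := by
    ext x
    rw [mem_subgroupOf, ← R.inf_ker_eq]
    exact ⟨fun h => ⟨x.2, h⟩, fun h => h.2⟩
  have hr : f.range = (S : Subgroup G).map R.π := by rw [MonoidHom.range_comp, range_subtype]
  have h := f.ker.card_mul_index
  rw [index_ker, hr, hc, hk, Nat.card_congr (subgroupOfEquivOfLe (pCore_le_sylow S)).toEquiv] at h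
  exact h.symm

theorem core_inf_le : (S : Subgroup G) ⊓ R.M.normalCore ≤ Cfsg.pCore p G := by
  haveI := SL2Pair.normal_sylow_inf_core S R.M R.hM R.uniq
  exact le_pCore (S.2.to_le inf_le_left)

/-- A normal subgroup either lies in the maximal subgroup or supplements the Sylow subgroup. -/
theorem normal_cases (N : Subgroup G) : N ≤ R.M ∨ (S : Subgroup G) ⊔ N = ⊤ := by
  by_contra h
  push Not at h
  obtain ⟨T, hT, hle⟩ := (eq_top_or_exists_le_coatom _).resolve_left h.2
  exact h.1 (R.uniq T hT (le_sup_left.trans hle) ▸ le_sup_right.trans hle)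

/-- A subgroup fixed under the conjugation by all elements outside a coset of the maximal subgroup is normal. -/
theorem normal_of_const {X : Subgroup G} {g₀ : G}
    (h : ∀ g g' : G, g₀⁻¹ * g ∉ R.M → g₀⁻¹ * g' ∉ R.M → H60.cj X g = H60.cj X g') : X.Normal := by
  rw [← normalizer_eq_top_iff, eq_top_iff]
  obtain ⟨t, ht⟩ := R.exists_not_mem
  set T := normalizer (X : Set G)
  have hstab : ∀ a b : G, a ∉ R.M → b ∉ R.M → a⁻¹ * b ∈ T := by
    intro a b ha hb
    have := h (g₀ * b) (g₀ * a) (by simpa using hb) (by simpa using ha)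
    rw [show T = normalizer (X : Set G) from rfl, ← H60.cj_eq_self_iff,
      ← H60.cj_inj (g := g₀ * a), H60.cj_cj, show g₀ * a * (a⁻¹ * b) = g₀ * b by group]
    exact this
  have hMT : R.M ≤ T := fun m hm => by
    have := hstab t (t * m) ht (fun e => ht (by simpa using mul_mem e (inv_mem hm)))
    rwa [inv_mul_cancel_left] at this
  have h2 : H60.cj (S : Subgroup G) t⁻¹ ≤ T := by
    intro x hx
    rw [H60.mem_cj, inv_inv] at hx
    have := hstab t (t * x * t⁻¹ * t) ht (fun e => ht (by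
      simpa [mul_assoc] using mul_mem (inv_mem (R.SM hx)) e))
    simpa [mul_assoc] using this
  rw [← R.sup_conj_eq_top (g := t⁻¹) (fun e => ht (by simpa using inv_mem e))]
  exact sup_le (R.SM.trans hMT) h2

end RankOne

end Cfsg.Agent.H31.PushUp
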