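import Cfsg.Agent.H31.PushUp.ClassTwo
import Cfsg.Agent.H31.PushUp.Engel
import Cfsg.Agent.H58.Qd
import Cfsg.Agent.H41.Basic
import Cfsg.Prelude.Def_TwoFusion
import Mathlib.GroupTheory.Transfer

/-!
# Critical distance one: the splitting `G = Qd(q) × E`
-/

set_option autoImplicit false
set_option linter.unusedSectionVars false
set_option maxHeartbeats 800000

namespace Cfsg.Agent.H31.PushUp

open Subgroup Cfsg.Agent Cfsg.Agent.Cores Cfsg.Agent.H60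
open scoped Pointwise commutatorElement

variable {F : Type} [Field F] [Fintype F] {p : ℕ} [Fact p.Prime]
variable {G : Type*} [Group G] [Finite G] {S : Sylow p G}

local notation "S2" => Matrix.SpecialLinearGroup (Fin 2) F
local notation "M2" => Matrix (Fin 2) (Fin 2) F

namespace Case1

variable {P : PU S F}

/-- An involution inverting the module. -/
structure Inv (C : Case1 P) where
  five : 5 ≤ p
  t : G
  sq : t * t = 1
  eV : P.vL.e t = -1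

theorem exists_inv (C : Case1 P) (h5 : 5 ≤ p) : Nonempty C.Inv := by
  have hp : p ≠ 2 := by omega
  obtain ⟨g, hg⟩ := P.vL.surj (-1)
  have hgg : g * g ∈ Cfsg.pCore p G :=
    C.ker_le (MonoidHom.mem_ker.mpr (by rw [map_mul, hg, neg_mul_neg, one_mul]))
  obtain ⟨j, hj⟩ := pCore_isPGroup (p := p) (G := G) ⟨g * g, hgg⟩
  have hj' : (g * g) ^ p ^ j = 1 := by simpa using congrArg Subtype.val hj
  refine ⟨⟨h5, g ^ p ^ j, by rw [← (Commute.refl g).mul_pow, hj'], ?_⟩⟩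
  obtain ⟨m, hm⟩ : Odd (p ^ j) := ((Fact.out : p.Prime).odd_of_ne_two hp).pow
  rw [map_pow, hg, hm, pow_succ, pow_mul, pow_two, neg_mul_neg, one_mul, one_pow, one_mul]

namespace Inv

variable {C : Case1 P} (T : C.Inv)
include T

theorem odd : p ≠ 2 := by have := T.five; omega

theorem three_ne_zero : (3 : F) ≠ 0 := by
  haveI := P.R.char
  intro h
  have h3 : p ∣ 3 := (CharP.cast_eq_zero_iff F p 3).mp (by exact_mod_cast h)
  have := Nat.le_of_dvd (by norm_num) h3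
  have := T.five
  omega

theorem inv_eq : T.t⁻¹ = T.t := inv_eq_of_mul_eq_one_right T.sq

theorem comm_mem_Q {s : G} : ⁅T.t, s⁆ ∈ Cfsg.pCore p G :=
  C.ker_le (MonoidHom.mem_ker.mpr (by
    rw [map_commutatorElement, T.eV, commutatorElement_eq_one_iff_mul_comm, neg_one_mul, mul_neg_one]))

theorem exists_sqrt {z t : G} (hz : z ∈ Cfsg.pCore p G) (h : t * z * t⁻¹ = z⁻¹) :
    ∃ k ∈ zpowers z, k * k = z ∧ t * k * t⁻¹ = k⁻¹ := by
  obtain ⟨j, hj⟩ := pCore_isPGroup (p := p) (G := G) ⟨z, hz⟩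
  have hzj : z ^ p ^ j = 1 := by simpa using congrArg Subtype.val hj
  obtain ⟨m, hm⟩ : Odd (p ^ j) := ((Fact.out : p.Prime).odd_of_ne_two T.odd).pow
  refine ⟨z ^ (m + 1), ⟨((m + 1 : ℕ) : ℤ), zpow_natCast z (m + 1)⟩, ?_, ?_⟩
  · rw [← pow_add, show m + 1 + (m + 1) = p ^ j + 1 by omega, pow_succ, hzj, one_mul]
  · rw [← conj_pow, h, inv_pow]

theorem comm_inv (x : G) : T.t * ⁅T.t, x⁆ * T.t⁻¹ = ⁅T.t, x⁆⁻¹ := by
  calc T.t * ⁅T.t, x⁆ * T.t⁻¹ = (T.t * T.t) * x * T.t⁻¹ * x⁻¹ * T.t⁻¹ := by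
        simp only [commutatorElement_def]; group
    _ = x * T.t * x⁻¹ * T.t⁻¹ := by rw [T.sq]; simp only [T.inv_eq, one_mul]
    _ = _ := by simp only [commutatorElement_def]; group

/-- Fixed points lift over normal `p`-subgroups. -/
theorem lift (H : Subgroup G) (hH : H ≤ Cfsg.pCore p G) {x : G} (hx : ⁅T.t, x⁆ ∈ H) :
    ∃ k ∈ H, T.t * k * T.t⁻¹ = k⁻¹ ∧ T.t * (k * x) * T.t⁻¹ = k * x := by
  set z := ⁅T.t, x⁆ with hz
  obtain ⟨k, hk, hkk, hkt⟩ := T.exists_sqrt (hH hx) (T.comm_inv x)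
  refine ⟨k, zpowers_le.mpr hx hk, hkt, ?_⟩
  calc T.t * (k * x) * T.t⁻¹ = (T.t * k * T.t⁻¹) * (z * x) := by rw [hz]; simp only [commutatorElement_def]; group
    _ = k⁻¹ * (k * k) * x := by rw [hkt, hkk, mul_assoc]
    _ = _ := by group

/-- The fixed points of the involution on the core. -/
def E : Subgroup G := Cfsg.pCore p G ⊓ centralizer ({T.t} : Set G)

theorem E_le : T.E ≤ Cfsg.pCore p G := inf_le_left

theorem mem_E {c : G} : c ∈ T.E ↔ c ∈ Cfsg.pCore p G ∧ T.t * c * T.t⁻¹ = c := by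
  rw [E, mem_inf, mem_centralizer_singleton_iff, mul_inv_eq_iff_eq_mul]
  exact and_congr_right fun _ => eq_comm

/-- The part of the module inverted by the involution. -/
def V0 : Subgroup G where
  carrier := {v | v ∈ Vm p G ∧ T.t * v * T.t⁻¹ = v⁻¹}
  one_mem' := ⟨one_mem _, by rw [mul_one, mul_inv_cancel, inv_one]⟩
  mul_mem' := fun {a b} ha hb => ⟨mul_mem ha.1 hb.1, by
    rw [mul_inv_rev, ← elem_comm (elem_omegaOne_center p _) (inv_mem ha.1) (inv_mem hb.1), ← ha.2, ← hb.2]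
    group⟩
  inv_mem' := fun {a} ha => ⟨inv_mem ha.1, by rw [← conj_inv, ha.2]⟩

theorem mem_V0 {v : G} : v ∈ T.V0 ↔ v ∈ Vm p G ∧ T.t * v * T.t⁻¹ = v⁻¹ := Iff.rfl

theorem V0_le : T.V0 ≤ Vm p G := fun _ h => h.1

theorem V0_Q : T.V0 ≤ Cfsg.pCore p G := T.V0_le.trans (omegaZ_le _)

theorem V0_E {v e : G} (hv : v ∈ T.V0) (he : e ∈ T.E) : e * v = v * e := omegaZ_comm hv.1 (T.E_le he)

theorem V0_inf_E : T.V0 ⊓ T.E = ⊥ := by
  refine eq_bot_iff.mpr fun x hx => ?_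
  obtain ⟨hv, he⟩ := mem_inf.mp hx
  have h := hv.2.symm.trans (T.mem_E.mp he).2
  refine mem_of_sq T.odd ?_ (mem_bot.mpr (omegaZ_pow hv.1))
  rw [mem_bot]
  nth_rewrite 1 [← h]
  exact inv_mul_cancel x

theorem coprime : (orderOf T.t).Coprime p := by
  refine Nat.Coprime.coprime_dvd_left (orderOf_dvd_of_pow_eq_one (by rw [pow_two]; exact T.sq)) ?_
  exact (Nat.coprime_primes Nat.prime_two Fact.out).mpr T.odd.symm

theorem decomp {x : G} (hx : x ∈ Cfsg.pCore p G) : ∃ v ∈ T.V0, ∃ e ∈ T.E, x = v * e := by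
  have hsec := mem_Sec.mp (mem_of_coprime P.R (Sec (Vm p G) (Cfsg.pCore p G)) C.A_sup C.A_Sec T.coprime) x hx
  obtain ⟨k, hk, hkt, hfix⟩ := T.lift (Vm p G) (omegaZ_le _) hsec
  exact ⟨k⁻¹, ⟨inv_mem hk, by rw [← conj_inv, hkt]⟩, k * x, T.mem_E.mpr ⟨mul_mem (omegaZ_le _ hk) hx, hfix⟩,
    (inv_mul_cancel_left k x).symm⟩

theorem exists_fixer (g : G) : ∃ k ∈ Cfsg.pCore p G, k * g * T.t * (k * g)⁻¹ = T.t := by
  set t' := g * T.t * g⁻¹ with ht'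
  have ht'2 : t' * t' = 1 := by
    rw [ht', show g * T.t * g⁻¹ * (g * T.t * g⁻¹) = g * (T.t * T.t) * g⁻¹ by group, T.sq, mul_one, mul_inv_cancel]
  set q := T.t * t' with hq
  have hqQ : q ∈ Cfsg.pCore p G := C.ker_le (MonoidHom.mem_ker.mpr (by
    rw [hq, ht', map_mul, map_mul, map_mul, map_inv, T.eV, mul_neg_one]
    simp only [neg_mul, one_mul, neg_neg, mul_inv_cancel]))
  have hqi : T.t * q * T.t⁻¹ = q⁻¹ := by
    rw [hq, mul_inv_rev, inv_eq_of_mul_eq_one_right ht'2, T.inv_eq, ← mul_assoc T.t T.t, T.sq, one_mul]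
  obtain ⟨k, hk, hkk, hkt⟩ := T.exists_sqrt hqQ hqi
  have htt : t' = T.t * (k * k) := by rw [hkk, hq, ← mul_assoc, T.sq, one_mul]
  have htk : T.t * k = k⁻¹ * T.t := by rw [← hkt, inv_mul_cancel_right]
  refine ⟨k, zpowers_le.mpr hqQ hk, ?_⟩
  calc k * g * T.t * (k * g)⁻¹ = k * t' * k⁻¹ := by rw [ht']; group
    _ = k * (T.t * k) := by rw [htt]; group
    _ = T.t := by rw [htk, mul_inv_cancel_left]

theorem E_conj_core {x e : G} (hx : x ∈ Cfsg.pCore p G) (he : e ∈ T.E) : x * e * x⁻¹ ∈ T.E := by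
  obtain ⟨v, hv, f, hf, rfl⟩ := T.decomp hx
  have h : f * e * f⁻¹ ∈ T.E := mul_mem (mul_mem hf he) (inv_mem hf)
  rw [show v * f * e * (v * f)⁻¹ = v * (f * e * f⁻¹) * v⁻¹ by group, ← T.V0_E hv h, mul_inv_cancel_right]
  exact h

theorem E_normal : T.E.Normal := by
  refine ⟨fun e he g => ?_⟩
  obtain ⟨k, hk, hfix⟩ := T.exists_fixer g
  obtain ⟨heQ, het⟩ := T.mem_E.mp he
  have hd : k * g * e * (k * g)⁻¹ ∈ T.E := by
    refine T.mem_E.mpr ⟨(inferInstance : (Cfsg.pCore p G).Normal).conj_mem e heQ _, ?_⟩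
    conv_lhs => rw [← hfix]
    calc k * g * T.t * (k * g)⁻¹ * (k * g * e * (k * g)⁻¹) * (k * g * T.t * (k * g)⁻¹)⁻¹
        = k * g * (T.t * e * T.t⁻¹) * (k * g)⁻¹ := by group
      _ = _ := by rw [het]
  have := T.E_conj_core (inv_mem hk) hd
  rwa [show k⁻¹ * (k * g * e * (k * g)⁻¹) * k⁻¹⁻¹ = g * e * g⁻¹ by group] at this

theorem V0_normal : T.V0.Normal := by
  refine ⟨fun v hv g => ?_⟩
  obtain ⟨k, hk, hfix⟩ := T.exists_fixer g
  obtain ⟨hvV, hvt⟩ := hv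
  have hgv : g * v * g⁻¹ ∈ Vm p G := (inferInstance : (Vm p G).Normal).conj_mem v hvV g
  refine ⟨hgv, ?_⟩
  have h1 : k * g * v * (k * g)⁻¹ = g * v * g⁻¹ := by
    rw [show k * g * v * (k * g)⁻¹ = k * (g * v * g⁻¹) * k⁻¹ by group, omegaZ_comm hgv hk, mul_inv_cancel_right]
  rw [← h1]
  conv_lhs => rw [← hfix]
  calc k * g * T.t * (k * g)⁻¹ * (k * g * v * (k * g)⁻¹) * (k * g * T.t * (k * g)⁻¹)⁻¹
      = k * g * (T.t * v * T.t⁻¹) * (k * g)⁻¹ := by group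
    _ = _ := by rw [hvt]; group

theorem mem_normalizer : T.t ∈ normalizer ((S : Subgroup G) : Set G) := by
  rw [← cj_eq_self_iff]
  refine eq_of_le_of_card_ge ?_ (by rw [card_cj])
  rintro _ ⟨s, hs, rfl⟩
  show T.t * s * T.t⁻¹ ∈ (S : Subgroup G)
  rw [show T.t * s * T.t⁻¹ = ⁅T.t, s⁆ * s by rw [commutatorElement_def]; group]
  exact mul_mem (pCore_le_sylow S T.comm_mem_Q) hs

theorem L_le_V0 : P.L ≤ T.V0 := by
  intro l hl
  have hconj : cj P.L T.t = P.L := by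
    rw [PU.L, cj_commutator, cj_eq_self_iff.mpr T.mem_normalizer, cj_normal T.t]
  have h1 : T.t * l * T.t⁻¹ ∈ P.L := hconj.le (mem_map_of_mem _ hl)
  have hV := P.Z_le (P.L_le_Z hl)
  have hV1 := P.Z_le (P.L_le_Z h1)
  have hz : T.t * l * T.t⁻¹ * l ∈ P.L ⊓ center G := by
    refine ⟨mul_mem h1 hl, mem_center_iff.mpr fun g =>
      commutatorElement_eq_one_iff_mul_comm.mp (mem_bot.mp ((P.vL.ψ_zero _ (mul_mem hV1 hV)).mp ?_ g))⟩
    rw [P.vL.ψ_mul _ hV1 _ hV, P.vL.equiv T.t l hV, T.eV, Matrix.SpecialLinearGroup.coe_neg,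
      Matrix.SpecialLinearGroup.coe_one, Matrix.neg_mulVec, Matrix.one_mulVec, neg_add_cancel]
  rw [P.L_inf_center T.odd, mem_bot] at hz
  exact ⟨hV, eq_inv_of_mul_eq_one_left hz⟩

theorem A_comm_E {a e : G} (ha : a ∈ C.A) (he : e ∈ T.E) : a * e = e * a := by
  obtain ⟨C1, hC1Q, hC1A, hC1V⟩ := C.exists_core
  obtain ⟨c, hc, v, hv, hcv⟩ := mem_sup_of_normal_right.mp (hC1V.symm ▸ T.E_le he : e ∈ C1 ⊔ Vm p G)
  have hz : ⁅a, e⁆ ∈ T.V0 ⊓ T.E := by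
    have hl : ⁅a, v⁆ ∈ P.L := commutator_mem_commutator (C.A_le ha) hv
    have h1 : ⁅a, e⁆ = ⁅a, v⁆ := by
      rw [← hcv, comm_split (hC1A c hc a ha).symm,
        mem_centralizer_iff.mp (P.L_le_Z hl).2 c (pCore_le_sylow S (hC1Q hc)), mul_inv_cancel_right]
    refine ⟨h1 ▸ T.L_le_V0 hl, ?_⟩
    show ⁅a, e⁆ ∈ T.E
    rw [commutatorElement_def]
    exact mul_mem (T.E_normal.conj_mem e he a) (inv_mem he)
  rw [T.V0_inf_E, mem_bot] at hz
  exact commutatorElement_eq_one_iff_mul_comm.mp hz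

theorem decomp_S {s : G} (hs : s ∈ (S : Subgroup G)) :
    ∃ e ∈ T.E, ∃ v ∈ T.V0, ∃ a ∈ C.A, s = e * (v * a) := by
  obtain ⟨x, hx, a, ha, rfl⟩ :=
    mem_sup_of_normal_left.mp ((sup_comm C.A (Cfsg.pCore p G) ▸ C.A_sup).symm ▸ hs :
      s ∈ Cfsg.pCore p G ⊔ C.A)
  obtain ⟨v, hv, e, he, rfl⟩ := T.decomp hx
  exact ⟨e, he, v, hv, a, ha, by rw [← T.V0_E hv he, mul_assoc]⟩

theorem E_comm_VA {e v a : G} (he : e ∈ T.E) (hv : v ∈ T.V0) (ha : a ∈ C.A) : e * (v * a) = v * a * e := by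
  rw [← mul_assoc, T.V0_E hv he, mul_assoc, ← T.A_comm_E ha he, mul_assoc]

theorem L_comm {l s : G} (hl : l ∈ P.L) (hs : s ∈ (S : Subgroup G)) : s * l = l * s :=
  mem_centralizer_iff.mp (P.L_le_Z hl).2 s hs

theorem comm_VA {v a v' a' : G} (hv : v ∈ T.V0) (ha : a ∈ C.A) (hv' : v' ∈ T.V0) (ha' : a' ∈ C.A) :
    ⁅v * a, v' * a'⁆ ∈ P.L := by
  have hvS : ∀ {w : G}, w ∈ T.V0 → w ∈ (S : Subgroup G) := fun h => pCore_le_sylow S (T.V0_Q h)
  have hl : ⁅a, v'⁆ ∈ P.L := commutator_mem_commutator (C.A_le ha) hv'.1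
  have hl' : ⁅a', v⁆ ∈ P.L := commutator_mem_commutator (C.A_le ha') hv.1
  have e1 : ⁅a, v' * a'⁆ = ⁅a, v'⁆ := by
    calc ⁅a, v' * a'⁆ = ⁅a, v'⁆ * (v' * ⁅a, a'⁆ * v'⁻¹) := by simp only [commutatorElement_def]; group
      _ = _ := by
          rw [commutatorElement_eq_one_iff_mul_comm.mpr (elem_comm C.A_elem ha ha'), mul_one, mul_inv_cancel,
            mul_one]
  have e2 : ⁅v, v' * a'⁆ = (⁅a', v⁆)⁻¹ := by
    rw [comm_split (elem_comm (elem_omegaOne_center p _) hv.1 hv'.1), ← commutatorElement_inv a' v,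
      T.L_comm (inv_mem hl') (hvS hv'), mul_inv_cancel_right]
  rw [show ⁅v * a, v' * a'⁆ = v * ⁅a, v' * a'⁆ * v⁻¹ * ⁅v, v' * a'⁆ by simp only [commutatorElement_def]; group,
    e1, e2, T.L_comm hl (hvS hv), mul_inv_cancel_right]
  exact mul_mem hl (inv_mem hl')

theorem comm_S {s s' : G} (hs : s ∈ (S : Subgroup G)) (hs' : s' ∈ (S : Subgroup G)) :
    ∃ e ∈ T.E, ∃ e' ∈ T.E, ∃ l ∈ P.L, ⁅s, s'⁆ = ⁅e, e'⁆ * l := by
  obtain ⟨e, he, v, hv, a, ha, rfl⟩ := T.decomp_S hs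
  obtain ⟨e', he', v', hv', a', ha', rfl⟩ := T.decomp_S hs'
  exact ⟨e, he, e', he', _, T.comm_VA hv ha hv' ha', comm_mul_comm (T.E_comm_VA he hv' ha')
    (T.E_comm_VA he' hv ha) (T.E_comm_VA he hv ha) (T.E_comm_VA he' hv' ha')⟩

theorem ψ_E {e : G} (he : e ∈ T.E) (hv : e ∈ Vm p G) : P.vL.ψ e = 0 := by
  have h := P.vL.equiv T.t e hv
  rw [(T.mem_E.mp he).2, T.eV, Matrix.SpecialLinearGroup.coe_neg, Matrix.SpecialLinearGroup.coe_one,
    Matrix.neg_mulVec, Matrix.one_mulVec] at h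
  funext i
  have h' := congrFun h i
  simp only [Pi.neg_apply] at h'
  have h2 : (2 : F) * P.vL.ψ e i = 0 := by linear_combination h'
  exact (mul_eq_zero.mp h2).resolve_left (P.two_ne_zero T.odd)

theorem ψ_V0_surj (x : Fin 2 → F) : ∃ v ∈ T.V0, P.vL.ψ v = x := by
  obtain ⟨u, hu, rfl⟩ := P.vL.ψ_surj x
  obtain ⟨v, hv, e, he, rfl⟩ := T.decomp (omegaZ_le _ hu)
  have heV : e ∈ Vm p G := by simpa using mul_mem (inv_mem hv.1) hu
  exact ⟨v, hv, by rw [P.vL.ψ_mul v hv.1 e heV, T.ψ_E he heV, add_zero]⟩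

theorem ψ_V0_inj {v : G} (hv : v ∈ T.V0) (h : P.vL.ψ v = 0) : v = 1 := by
  have hc := commutatorElement_eq_one_iff_mul_comm.mp (mem_bot.mp ((P.vL.ψ_zero v hv.1).mp h T.t))
  have : v ∈ T.V0 ⊓ T.E := ⟨hv, T.mem_E.mpr ⟨T.V0_Q hv, mul_inv_eq_iff_eq_mul.mpr hc⟩⟩
  rwa [T.V0_inf_E, mem_bot] at this

/-- The centralizer of the fixed points. -/
def X : Subgroup G := centralizer (T.E : Set G)

/-- The factor isomorphic to `Qd`. -/
def G0 : Subgroup G := ⁅T.X, T.X⁆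

theorem G0_normal : T.G0.Normal := by
  haveI := T.E_normal
  haveI : T.X.Normal := by rw [X]; infer_instance
  exact commutator_normal _ _

theorem G0_le_X : T.G0 ≤ T.X := by
  haveI := T.E_normal
  haveI : T.X.Normal := by rw [X]; infer_instance
  exact commutator_le_left _ _

theorem G0_comm_E {g e : G} (hg : g ∈ T.G0) (he : e ∈ T.E) : g * e = e * g :=
  (mem_centralizer_iff.mp (T.G0_le_X hg) e he).symm

theorem A_le_X : C.A ≤ T.X := fun _ ha => mem_centralizer_iff.mpr fun _ he => (T.A_comm_E ha he).symm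

theorem V0_le_X : T.V0 ≤ T.X := fun _ hv => mem_centralizer_iff.mpr fun _ he => T.V0_E hv he

theorem t_mem_X : T.t ∈ T.X :=
  mem_centralizer_iff.mpr fun _ he => (mul_inv_eq_iff_eq_mul.mp (T.mem_E.mp he).2).symm

theorem V0_le_G0 : T.V0 ≤ T.G0 := by
  intro v hv
  obtain ⟨k, hk, hkk, hkt⟩ := T.exists_sqrt (T.V0_Q hv) hv.2
  have hkX : k⁻¹ ∈ T.X := inv_mem (zpowers_le.mpr (T.V0_le_X hv) hk)
  have : ⁅T.t, k⁻¹⁆ = v := by
    rw [commutatorElement_def, inv_inv, ← conj_inv, hkt, inv_inv, hkk]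
  exact this ▸ commutator_mem_commutator T.t_mem_X hkX

theorem X_sup : T.X ⊔ Cfsg.pCore p G = ⊤ := by
  haveI := T.E_normal
  haveI : T.X.Normal := by rw [X]; infer_instance
  exact eq_top_of_sylow P.R _ C.A_sup (T.A_le_X.trans le_sup_left) le_sup_right

theorem e_eq_one {q : G} (hq : q ∈ Cfsg.pCore p G) : P.vL.e q = 1 :=
  (P.vL.ker_S q (pCore_le_sylow S hq)).mpr hq

theorem exists_X (x : S2) : ∃ g ∈ T.X, P.vL.e g = x := by
  obtain ⟨g, rfl⟩ := P.vL.surj x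
  obtain ⟨k, hk, q, hq, rfl⟩ := mem_sup_of_normal_right.mp (T.X_sup ▸ mem_top g)
  exact ⟨k, hk, by rw [map_mul, T.e_eq_one hq, mul_one]⟩

theorem G0_sup_core : T.G0 ⊔ Cfsg.pCore p G = ⊤ := by
  haveI := T.G0_normal
  refine P.R.le_of_normal inferInstance fun s hs => ?_
  obtain ⟨h1, h2, h3⟩ := Linear.unitriSL_two_eq.mp (P.vL.mem_unitri s hs)
  haveI := P.R.char
  have h20 := P.two_ne_zero T.odd
  let m₀ : S2 := ⟨!![(2 : F), 0; 0, 2⁻¹], by simp [Matrix.det_fin_two_of, h20]⟩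
  have hm₀ : (m₀ : M2) 0 0 = 2 ∧ (m₀ : M2) 0 1 = 0 ∧ (m₀ : M2) 1 0 = 0 ∧ (m₀ : M2) 1 1 = 2⁻¹ := ⟨rfl, rfl, rfl, rfl⟩
  have h30 : (3 : F) ≠ 0 := T.three_ne_zero
  let u₀ : S2 := ⟨!![(1 : F), (P.vL.e s : M2) 0 1 / 3; 0, 1], by simp [Matrix.det_fin_two_of]⟩
  have hu₀ : (u₀ : M2) 0 0 = 1 ∧ (u₀ : M2) 0 1 = (P.vL.e s : M2) 0 1 / 3 ∧ (u₀ : M2) 1 0 = 0 ∧ (u₀ : M2) 1 1 = 1 :=
    ⟨rfl, rfl, rfl, rfl⟩
  have hcomm : ⁅m₀, u₀⁆ = P.vL.e s := by
    obtain ⟨a, b, c, d⟩ := Linear.SL_inv_entries m₀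
    obtain ⟨a', b', c', d'⟩ := Linear.SL_inv_entries u₀
    rw [commutatorElement_def]
    clear_value m₀ u₀
    refine Linear.SL_ext_two ?_ ?_ ?_ ?_ <;>
      simp [Linear.SL_mul_entries, a, b, c, d, a', b', c', d', hm₀.1, hm₀.2.1, hm₀.2.2.1, hm₀.2.2.2, hu₀.1,
        hu₀.2.1, hu₀.2.2.1, hu₀.2.2.2, h1, h2, h3, h20] <;>
      field_simp <;> ring
  obtain ⟨g, hg, hge⟩ := T.exists_X m₀
  obtain ⟨k, hk, hke⟩ := T.exists_X u₀
  have hc : ⁅g, k⁆ ∈ T.G0 := commutator_mem_commutator hg hk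
  have hq : ⁅g, k⁆⁻¹ * s ∈ Cfsg.pCore p G := C.ker_le (MonoidHom.mem_ker.mpr (by
    rw [map_mul, map_inv, map_commutatorElement, hge, hke, hcomm, inv_mul_cancel]))
  rw [← mul_inv_cancel_left ⁅g, k⁆ s]
  exact mul_mem (mem_sup_left hc) (mem_sup_right hq)

theorem G0_sup : T.G0 ⊔ T.E = ⊤ := by
  rw [eq_top_iff, ← T.G0_sup_core]
  refine sup_le le_sup_left fun x hx => ?_
  obtain ⟨v, hv, e, he, rfl⟩ := T.decomp hx
  exact mul_mem (mem_sup_left (T.V0_le_G0 hv)) (mem_sup_right he)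

open scoped IsMulCommutative in
theorem G0_inf_E : T.G0 ⊓ T.E = ⊥ := by
  haveI := T.V0_normal
  haveI := T.E_normal
  haveI hXn : T.X.Normal := by rw [X]; infer_instance
  refine eq_bot_iff.mpr fun e he => mem_bot.mpr ?_
  obtain ⟨heG, heE⟩ := mem_inf.mp he
  set H := (S : Subgroup G).subgroupOf T.X with hH
  let mkV := (QuotientGroup.mk' T.V0).comp ((T.X.subtype).comp H.subtype)
  haveI : IsMulCommutative mkV.range := ⟨⟨fun a b => by
    obtain ⟨_, x, rfl⟩ := a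
    obtain ⟨_, y, rfl⟩ := b
    refine Subtype.ext ?_
    show mkV x * mkV y = mkV y * mkV x
    rw [← commutatorElement_eq_one_iff_mul_comm, ← map_commutatorElement]
    obtain ⟨e₁, he₁, v₁, hv₁, a₁, ha₁, hx⟩ := T.decomp_S (mem_subgroupOf.mp x.2)
    obtain ⟨e₂, he₂, v₂, hv₂, a₂, ha₂, hy⟩ := T.decomp_S (mem_subgroupOf.mp y.2)
    refine (QuotientGroup.eq_one_iff _).mpr ?_
    show ⁅((x : T.X) : G), ((y : T.X) : G)⁆ ∈ T.V0
    have hva : v₂ * a₂ ∈ T.X := mul_mem (T.V0_le_X hv₂) (T.A_le_X ha₂)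
    have he₂X : e₂ ∈ T.X := by
      have := mul_mem (y : T.X).2 (inv_mem hva)
      rwa [hy, mul_inv_cancel_right] at this
    rw [hx, hy, comm_mul_comm (T.E_comm_VA he₁ hv₂ ha₂) (T.E_comm_VA he₂ hv₁ ha₁) (T.E_comm_VA he₁ hv₁ ha₁)
      (T.E_comm_VA he₂ hv₂ ha₂), commutatorElement_eq_one_iff_mul_comm.mpr (mem_centralizer_iff.mp he₂X e₁ he₁),
      one_mul]
    exact T.L_le_V0 (T.comm_VA hv₁ ha₁ hv₂ ha₂)⟩⟩
  let φ : H →* mkV.range := mkV.rangeRestrict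
  have heX := T.G0_le_X heG
  set g : T.X := ⟨e, heX⟩ with hg
  have hcen : ∀ x : T.X, x * g = g * x := fun x => Subtype.ext (mem_centralizer_iff.mp x.2 e heE).symm
  have key : ∀ (k : ℕ) (g₀ : T.X), g₀⁻¹ * g ^ k * g₀ ∈ H → g₀⁻¹ * g ^ k * g₀ = g ^ k := fun k g₀ _ => by
    rw [mul_assoc, ← ((show Commute g₀ g from hcen g₀).pow_right k).eq, inv_mul_cancel_left]
  have hcomm : g ∈ commutator T.X := by
    have h : (commutator T.X).map T.X.subtype = T.G0 := by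
      rw [_root_.commutator_def, map_commutator, ← MonoidHom.range_eq_map, range_subtype, G0]
    obtain ⟨g', hg', hge⟩ := (h ▸ heG : e ∈ (commutator T.X).map T.X.subtype)
    rwa [show g = g' from Subtype.ext hge.symm]
  have h1 : MonoidHom.transfer φ g = 1 := Abelianization.commutator_subset_ker _ hcomm
  rw [MonoidHom.transfer_eq_pow φ g key] at h1
  have h2 : e ^ H.index ∈ T.V0 := by
    have := congrArg Subtype.val h1
    simp only [φ, MonoidHom.coe_rangeRestrict, OneMemClass.coe_one] at this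
    simpa using (QuotientGroup.eq_one_iff _).mp this
  have h3 : e ^ H.index = 1 := mem_bot.mp (T.V0_inf_E ▸ ⟨h2, pow_mem heE _⟩)
  obtain ⟨j, hj⟩ := pCore_isPGroup (p := p) (G := G) ⟨e, T.E_le heE⟩
  have hj' : e ^ p ^ j = 1 := by simpa using congrArg Subtype.val hj
  have hco : (p ^ j).Coprime H.index :=
    Nat.Coprime.pow_left j ((Fact.out : p.Prime).coprime_iff_not_dvd.mpr (H41.not_dvd_relIndex_sylow S T.X))
  have := Nat.dvd_gcd (orderOf_dvd_of_pow_eq_one hj') (orderOf_dvd_of_pow_eq_one h3)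
  rwa [hco.gcd_eq_one, Nat.dvd_one, orderOf_eq_one_iff] at this

theorem G0_inf_core {g : G} (hg : g ∈ T.G0) (hgQ : g ∈ Cfsg.pCore p G) : g ∈ T.V0 := by
  obtain ⟨v, hv, e, he, rfl⟩ := T.decomp hgQ
  have : e ∈ T.G0 ⊓ T.E := ⟨by simpa using mul_mem (inv_mem (T.V0_le_G0 hv)) hg, he⟩
  rw [T.G0_inf_E, mem_bot] at this
  rwa [this, mul_one]

theorem comm_G0 {g : G} (hg : g ∈ T.G0) : ⁅g, T.t⁆ ∈ T.V0 := by
  refine T.G0_inf_core ?_ (by rw [← commutatorElement_inv]; exact inv_mem T.comm_mem_Q)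
  rw [commutatorElement_def, mul_assoc g T.t, mul_assoc g]
  exact mul_mem hg (T.G0_normal.conj_mem _ (inv_mem hg) T.t)

theorem exists_G0 (x : S2) : ∃ g ∈ T.G0, P.vL.e g = x := by
  obtain ⟨g, rfl⟩ := P.vL.surj x
  haveI := T.E_normal
  obtain ⟨k, hk, e, he, rfl⟩ := mem_sup_of_normal_right.mp (T.G0_sup ▸ mem_top g)
  exact ⟨k, hk, by rw [map_mul, T.e_eq_one (T.E_le he), mul_one]⟩

/-- The coordinates on the factor. -/
noncomputable def toQd : T.G0 →* ↥(Cfsg.qdOver F) :=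
  MonoidHom.mk' (fun g => H58.Qd.mk (P.vL.e (g : G)) ((2 : F)⁻¹ • P.vL.ψ ⁅(g : G), T.t⁆)) fun g h => by
    have hh := T.comm_G0 h.2
    rw [H58.Qd.mk_mul, coe_mul, map_mul]
    congr 1
    rw [show ⁅(g : G) * h, T.t⁆ = (g : G) * ⁅(h : G), T.t⁆ * (g : G)⁻¹ * ⁅(g : G), T.t⁆ by
        simp only [commutatorElement_def]; group,
      P.vL.ψ_mul _ (T.V0_normal.conj_mem _ hh _).1 _ (T.comm_G0 g.2).1, P.vL.equiv _ _ hh.1, smul_add,
      Matrix.mulVec_smul]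

theorem toQd_bijective : Function.Bijective T.toQd := by
  have h20 := P.two_ne_zero T.odd
  have hV0 : ∀ {v : G}, v ∈ T.V0 → ⁅v, T.t⁆ = v * v := fun {v} hv => by
    rw [commutatorElement_def, mul_assoc v T.t, mul_assoc v, ← conj_inv, hv.2, inv_inv]
  have hψsq : ∀ {v : G}, v ∈ T.V0 → (2 : F)⁻¹ • P.vL.ψ ⁅v, T.t⁆ = P.vL.ψ v := fun {v} hv => by
    rw [hV0 hv, P.vL.ψ_mul v hv.1 v hv.1]
    funext i
    simp only [Pi.smul_apply, Pi.add_apply, smul_eq_mul]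
    field_simp
    ring
  refine ⟨(injective_iff_map_eq_one _).mpr fun g hg => ?_, fun M => ?_⟩
  · have h1 : P.vL.e (g : G) = 1 := by
      have := congrArg H58.Qd.toSL2 hg
      rwa [map_one, show T.toQd g = H58.Qd.mk _ _ from rfl, H58.Qd.toSL2_mk] at this
    have hv := T.G0_inf_core g.2 (C.ker_le (MonoidHom.mem_ker.mpr h1))
    refine Subtype.ext (T.ψ_V0_inj hv ?_)
    rw [← hψsq hv]
    have hg' : H58.Qd.mk (P.vL.e (g : G)) ((2 : F)⁻¹ • P.vL.ψ ⁅(g : G), T.t⁆) = H58.Qd.mk 1 0 := by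
      rw [H58.Qd.mk_one]; exact hg
    funext i
    fin_cases i
    · simpa using congrArg (fun x => H58.Qd.ent x 0 2) hg'
    · simpa using congrArg (fun x => H58.Qd.ent x 1 2) hg'
  · obtain ⟨g, hg, hge⟩ := T.exists_G0 (H58.Qd.toSL2 M)
    obtain ⟨v, hv, hvψ⟩ := T.ψ_V0_surj
      (![H58.Qd.ent M 0 2, H58.Qd.ent M 1 2] - (2 : F)⁻¹ • P.vL.ψ ⁅g, T.t⁆)
    refine ⟨⟨v, T.V0_le_G0 hv⟩ * ⟨g, hg⟩, ?_⟩
    rw [map_mul, show T.toQd ⟨v, T.V0_le_G0 hv⟩ = H58.Qd.mk (P.vL.e v) ((2 : F)⁻¹ • P.vL.ψ ⁅v, T.t⁆) from rfl,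
      show T.toQd ⟨g, hg⟩ = H58.Qd.mk (P.vL.e g) ((2 : F)⁻¹ • P.vL.ψ ⁅g, T.t⁆) from rfl,
      T.e_eq_one (T.V0_Q hv), hψsq hv, hge, H58.Qd.mk_mul, one_mul, Matrix.SpecialLinearGroup.coe_one,
      Matrix.one_mulVec, hvψ, add_sub_cancel]
    exact (H58.Qd.eq_mk M).symm

theorem nonempty_equiv : Nonempty (T.G0 ≃* ↥(Cfsg.qdOver F)) :=
  ⟨MulEquiv.ofBijective _ T.toQd_bijective⟩

end Inv

end Case1

end Cfsg.Agent.H31.PushUp
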